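import Cfsg.Agent.H17.HeisDegree.Eigen

/-!
Lower bound for the degree of a representation of a group with a root system of type `G₂` in
which the long root groups are `P ≅ 𝔽_q` and the short ones `K ≅ 𝔽_{q³}`.
-/

set_option autoImplicit false

namespace H17.HeisDeg

open scoped BigOperators

/-- The elements and relations of the unipotent radical of the long-root parabolic and of its
Levi factor that enter the bound. -/
structure Frame (G : Type*) [Group G] (P K : Type*) [Field P] [Field K] where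
  /-- Long simple root. -/
  l : P → G
  /-- Long root `3a+b`. -/
  r : P → G
  /-- Highest root. -/
  z : P → G
  /-- Short root `a+b`. -/
  T1 : K → G
  /-- Short root `2a+b`. -/
  T2 : K → G
  l_add : ∀ a b, l (a + b) = l a * l b
  r_add : ∀ a b, r (a + b) = r a * r b
  z_add : ∀ a b, z (a + b) = z a * z b
  T1_add : ∀ a b, T1 (a + b) = T1 a * T1 b
  T2_add : ∀ a b, T2 (a + b) = T2 a * T2 b
  T2_r : ∀ c d, Commute (T2 c) (r d)
  T2_z : ∀ c e, Commute (T2 c) (z e)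
  r_z : ∀ d e, Commute (r d) (z e)
  l_T2 : ∀ a c, Commute (l a) (T2 c)
  l_z : ∀ a e, Commute (l a) (z e)
  l_r : ∀ a d, (l a)⁻¹ * r d * l a = r d * z (-(a * d))
  /-- The pairing of the two short roots. -/
  B : K → K → P
  B_add : ∀ a b c, B (a + b) c = B a c + B b c
  B_addr : ∀ a b c, B a (b + c) = B a b + B a c
  B_surj : ∀ t, t ≠ 0 → ∀ e, ∃ c, B t c = e
  T1_T2 : ∀ b c, (T1 b)⁻¹ * T2 c * T1 b = T2 c * z (B b c)
  T1_r : ∀ b d, Commute (T1 b) (r d)
  T1_z : ∀ b e, Commute (T1 b) (z e)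
  conj_z : ∃ w : G, ∀ e, w⁻¹ * z e * w = r (-e)
  raise : ∀ t : K, ∃ g : G, (∀ e, g⁻¹ * z e * g = z e) ∧ (∀ d, g⁻¹ * r d * g = r d) ∧
    ∀ c, g⁻¹ * T2 c * g = T2 c * r (B t c)
  scal : ∀ μ : P, μ ≠ 0 → ∃ g : G, (∀ d, g⁻¹ * r d * g = r (μ * d)) ∧
    (∀ e, ∃ e', g⁻¹ * z e * g = z e') ∧ (∀ c, ∃ c', g⁻¹ * T2 c * g = T2 c') ∧
    (∀ a, g⁻¹ * l a * g = l (μ * a)) ∧ (∀ b, ∃ b', g⁻¹ * T1 b * g = T1 b')
  twist : ∃ (g : G) (u : K), u ≠ 1 ∧ (∀ d, g⁻¹ * r d * g = r d) ∧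
    (∀ e, ∃ e', g⁻¹ * z e * g = z e') ∧ (∀ c, ∃ c', g⁻¹ * T2 c * g = T2 c') ∧
    ∀ b, g⁻¹ * T1 b * g = T1 (u * b)
  swap : ∃ n : G, (∀ e, ∃ e', n⁻¹ * z e * n = z e') ∧ ∀ d, ∃ a, n⁻¹ * r d * n = l a
  lower : ∀ ν : P, ν ≠ 0 → ∃ g : G, (∀ e, ∃ e', g⁻¹ * z e * g = z e') ∧
    ∀ d, ∃ c b e, g⁻¹ * r d * g = r d * T2 c * T1 b * l (ν * d) * z e

/-- Twisting a nontrivial character by a nondegenerate pairing gives every character. -/
theorem pairing_bijective {P Q : Type*} [AddCommGroup P] [AddCommGroup Q] [Fintype Q]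
    (β : Q → Q → P) (h1 : ∀ a b c, β (a + b) c = β a c + β b c)
    (h2 : ∀ a b c, β a (b + c) = β a b + β a c) (h3 : ∀ t, t ≠ 0 → ∀ e, ∃ c, β t c = e)
    {δ : AddChar P ℂ} (hδ : δ ≠ 1) (χ : AddChar Q ℂ) : ∃ b, ∀ c, δ (β b c) = χ c := by
  classical
  have hz : ∀ a, β a 0 = 0 := fun a => by
    have := h2 a 0 0
    rwa [add_zero, left_eq_add] at this
  let f : Q → AddChar Q ℂ := fun b =>
    ⟨fun c => δ (β b c), by simp [hz], fun c d => by simp [h2, AddChar.map_add_eq_mul]⟩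
  have hinj : Function.Injective f := by
    intro a b hab
    by_contra hne
    obtain ⟨e, he⟩ := AddChar.ne_one_iff.1 hδ
    obtain ⟨c, hc⟩ := h3 (a - b) (sub_ne_zero.2 hne) e
    apply he
    have h := DFunLike.congr_fun hab c
    change δ (β a c) = δ (β b c) at h
    have h' : β a c = e + β b c := by rw [← hc, ← h1, sub_add_cancel]
    rw [h', AddChar.map_add_eq_mul] at h
    exact (mul_eq_right₀ (AddChar.val_isUnit δ (β b c)).ne_zero).1 h
  have hbij : Function.Bijective f :=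
    (Fintype.bijective_iff_injective_and_card f).2 ⟨hinj, AddChar.card_eq.symm⟩
  obtain ⟨b, hb⟩ := hbij.2 χ
  exact ⟨b, fun c => DFunLike.congr_fun hb c⟩

/-- An abelian group acting on a line by scalars gives a character. -/
theorem exists_char {G : Type*} [Group G] {V : Type*} [AddCommGroup V] [Module ℂ V]
    {ρ : Representation ℂ G V} {Q : Type*} [AddCommGroup Q] {f : Q → G}
    (hf : ∀ a b, f (a + b) = f a * f b) {v : V} (hv : v ≠ 0)
    (hc : ∀ a, ∃ c : ℂ, c • v = ρ (f a) v) : ∃ α : AddChar Q ℂ, ∀ a, ρ (f a) v = α a • v := by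
  choose c hc using hc
  refine ⟨⟨c, smul_left_injective ℂ hv ?_, fun a b => smul_left_injective ℂ hv ?_⟩,
    fun a => (hc a).symm⟩
  · show c 0 • v = (1 : ℂ) • v
    rw [hc, map_zero_eq hf, map_one, Module.End.one_apply, one_smul]
  · show c (a + b) • v = (c a * c b) • v
    rw [hc, hf, map_mul, Module.End.mul_apply, ← hc b, map_smul, ← hc a, smul_smul, mul_comm]

namespace Frame

variable {G : Type*} [Group G] {P K : Type*} [Field P] [Field K] (F : Frame G P K)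

/-- The abelian group `T₂ · R · Z`. -/
def u (a : K × P × P) : G := F.T2 a.1 * F.r a.2.1 * F.z a.2.2

theorem u_add (a b : K × P × P) : F.u (a + b) = F.u a * F.u b := by
  simp only [u, Prod.fst_add, Prod.snd_add, F.T2_add, F.r_add, F.z_add]
  rw [((F.T2_z b.1 a.2.2).symm.mul_right (F.r_z b.2.1 a.2.2).symm).mul_mul_mul_comm,
    (F.T2_r b.1 a.2.1).symm.mul_mul_mul_comm]

theorem u_r (d : P) : F.u (0, d, 0) = F.r d := by
  simp [u, map_zero_eq F.T2_add, map_zero_eq F.z_add]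

theorem u_z (e : P) : F.u (0, 0, e) = F.z e := by
  simp [u, map_zero_eq F.T2_add, map_zero_eq F.r_add]

theorem u_rz (d e : P) : F.u (0, d, e) = F.r d * F.z e := by
  simp [u, map_zero_eq F.T2_add]

/-- A character of `T₂ · R · Z`. -/
def pc (γ : AddChar K ℂ) (δ ψ : AddChar P ℂ) : AddChar (K × P × P) ℂ where
  toFun a := γ a.1 * δ a.2.1 * ψ a.2.2
  map_zero_eq_one' := by simp
  map_add_eq_mul' a b := by simp [AddChar.map_add_eq_mul]; ring

omit [Field P] [Field K] in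
theorem prod_split {P K : Type*} [AddCommGroup P] [AddCommGroup K] (a : K × P × P) :
    a = (a.1, 0, 0) + (0, a.2.1, 0) + (0, 0, a.2.2) := by simp

/-- Characters of the product are triples. -/
def pcEquiv : AddChar K ℂ × AddChar P ℂ × AddChar P ℂ ≃ AddChar (K × P × P) ℂ where
  toFun t := pc t.1 t.2.1 t.2.2
  invFun χ :=
    (χ.compAddMonoidHom (AddMonoidHom.inl K (P × P)),
      χ.compAddMonoidHom ((AddMonoidHom.inr K (P × P)).comp (AddMonoidHom.inl P P)),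
      χ.compAddMonoidHom ((AddMonoidHom.inr K (P × P)).comp (AddMonoidHom.inr P P)))
  left_inv t := by
    obtain ⟨γ, δ, ψ⟩ := t
    refine Prod.ext ?_ (Prod.ext ?_ ?_) <;> ext a <;> simp [pc]
  right_inv χ := by
    ext a
    conv_rhs => rw [prod_split a, AddChar.map_add_eq_mul, AddChar.map_add_eq_mul]
    rfl

variable {V : Type*} [AddCommGroup V] [Module ℂ V] (ρ : Representation ℂ G V)

/-- The multiplicity of a triple of characters. -/
noncomputable def m (γ : AddChar K ℂ) (δ ψ : AddChar P ℂ) : ℕ := mult ρ F.u (pc γ δ ψ)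

variable {ρ}

theorem mem_pc {γ : AddChar K ℂ} {δ ψ : AddChar P ℂ} {v : V} (hv : v ∈ eig ρ F.u (pc γ δ ψ)) :
    (∀ c, ρ (F.T2 c) v = γ c • v) ∧ (∀ d, ρ (F.r d) v = δ d • v) ∧
      ∀ e, ρ (F.z e) v = ψ e • v := by
  refine ⟨fun c => ?_, fun d => ?_, fun e => ?_⟩
  · have h := mem_eig.1 hv (c, 0, 0)
    simpa [u, pc, map_zero_eq F.r_add, map_zero_eq F.z_add] using h
  · have h := mem_eig.1 hv (0, d, 0)
    simpa [u_r, pc] using h
  · have h := mem_eig.1 hv (0, 0, e)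
    simpa [u_z, pc] using h

/-- A criterion for conjugation to move a triple eigenspace. -/
theorem conj_u {γ' : AddChar K ℂ} {δ' ψ' : AddChar P ℂ} {g : G} {v : V}
    (h1 : ∀ c, ρ (g⁻¹ * F.T2 c * g) v = γ' c • v) (h2 : ∀ d, ρ (g⁻¹ * F.r d * g) v = δ' d • v)
    (h3 : ∀ e, ρ (g⁻¹ * F.z e * g) v = ψ' e • v) (a : K × P × P) :
    ρ (g⁻¹ * F.u a * g) v = pc γ' δ' ψ' a • v := by
  rw [show g⁻¹ * F.u a * g = (g⁻¹ * F.T2 a.1 * g) * (g⁻¹ * F.r a.2.1 * g) * (g⁻¹ * F.z a.2.2 * g) by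
    unfold u; group]
  rw [map_mul, map_mul, Module.End.mul_apply, Module.End.mul_apply, h3, map_smul, map_smul, h2,
    map_smul, h1, smul_smul, smul_smul]
  congr 1
  show _ = γ' a.1 * δ' a.2.1 * ψ' a.2.2
  ring

theorem m_le_of_conj [FiniteDimensional ℂ V] {γ γ' : AddChar K ℂ} {δ δ' ψ ψ' : AddChar P ℂ}
    (g : G) (h : ∀ v : V, (∀ c, ρ (F.T2 c) v = γ c • v) → (∀ d, ρ (F.r d) v = δ d • v) →
      (∀ e, ρ (F.z e) v = ψ e • v) →
      (∀ c, ρ (g⁻¹ * F.T2 c * g) v = γ' c • v) ∧ (∀ d, ρ (g⁻¹ * F.r d * g) v = δ' d • v) ∧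
        ∀ e, ρ (g⁻¹ * F.z e * g) v = ψ' e • v) :
    F.m ρ γ δ ψ ≤ F.m ρ γ' δ' ψ' := by
  refine mult_le_of_conj g fun v hv a => ?_
  obtain ⟨h1, h2, h3⟩ := F.mem_pc hv
  obtain ⟨k1, k2, k3⟩ := h v h1 h2 h3
  exact F.conj_u k1 k2 k3 a

variable [Fintype P] [Fintype K] [FiniteDimensional ℂ V]

theorem m_eq_of_psi {ψ : AddChar P ℂ} (hψ : ψ ≠ 1) (γ γ' : AddChar K ℂ) (δ δ' : AddChar P ℂ) :
    F.m ρ γ δ ψ ≤ F.m ρ γ' δ' ψ := by
  obtain ⟨b, hb⟩ := pairing_bijective F.B F.B_add F.B_addr F.B_surj hψ (γ' * γ⁻¹)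
  obtain ⟨a, ha⟩ := pairing_bijective (fun a d : P => -(a * d)) (fun a b c => by ring)
    (fun a b c => by ring) (fun t ht e => ⟨-(e / t), by field_simp⟩) hψ (δ' * δ⁻¹)
  refine F.m_le_of_conj (F.T1 b * F.l a) fun v h1 h2 h3 => ⟨fun c => ?_, fun d => ?_, fun e => ?_⟩
  · rw [show (F.T1 b * F.l a)⁻¹ * F.T2 c * (F.T1 b * F.l a) =
        (F.l a)⁻¹ * ((F.T1 b)⁻¹ * F.T2 c * F.T1 b) * F.l a by group, F.T1_T2,
      show (F.l a)⁻¹ * (F.T2 c * F.z (F.B b c)) * F.l a = F.T2 c * F.z (F.B b c) by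
        rw [mul_assoc, ((F.l_T2 a c).mul_right (F.l_z a _)).eq.symm, inv_mul_cancel_left],
      map_mul, Module.End.mul_apply, h3, map_smul, h1, smul_smul, hb]
    congr 1
    rw [AddChar.mul_apply, AddChar.inv_apply, mul_assoc, ← AddChar.map_add_eq_mul, neg_add_cancel,
      AddChar.map_zero_eq_one, mul_one]
  · rw [show (F.T1 b * F.l a)⁻¹ * F.r d * (F.T1 b * F.l a) =
        (F.l a)⁻¹ * ((F.T1 b)⁻¹ * F.r d * F.T1 b) * F.l a by group,
      mul_assoc (F.T1 b)⁻¹, ← (F.T1_r b d).eq, inv_mul_cancel_left, F.l_r, map_mul,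
      Module.End.mul_apply, h3, map_smul, h2, smul_smul, ha]
    congr 1
    rw [AddChar.mul_apply, AddChar.inv_apply, mul_assoc, ← AddChar.map_add_eq_mul, neg_add_cancel,
      AddChar.map_zero_eq_one, mul_one]
  · rw [mul_assoc (F.T1 b * F.l a)⁻¹, ← ((F.T1_z b e).mul_left (F.l_z a e)).eq, inv_mul_cancel_left,
      h3]

theorem m_eq_of_delta {δ : AddChar P ℂ} (hδ : δ ≠ 1) (γ γ' : AddChar K ℂ) :
    F.m ρ γ δ 1 ≤ F.m ρ γ' δ 1 := by
  obtain ⟨t, ht⟩ := pairing_bijective F.B F.B_add F.B_addr F.B_surj hδ (γ' * γ⁻¹)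
  obtain ⟨g, g1, g2, g3⟩ := F.raise t
  refine F.m_le_of_conj g fun v h1 h2 h3 => ⟨fun c => ?_, fun d => by rw [g2, h2], fun e => by rw [g1, h3]⟩
  rw [g3, map_mul, Module.End.mul_apply, h2, map_smul, h1, smul_smul, ht]
  congr 1
  rw [AddChar.mul_apply, AddChar.inv_apply, mul_assoc, ← AddChar.map_add_eq_mul, neg_add_cancel,
    AddChar.map_zero_eq_one, mul_one]

theorem m_eq_of_scal {δ δ' : AddChar P ℂ} (hδ : δ ≠ 1) (hδ' : δ' ≠ 1) :
    F.m ρ 1 δ 1 ≤ F.m ρ 1 δ' 1 := by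
  obtain ⟨μ, hμ⟩ := pairing_bijective (fun a d : P => a * d) (fun a b c => by ring)
    (fun a b c => by ring) (fun t ht e => ⟨e / t, by field_simp⟩) hδ δ'
  have hμ0 : μ ≠ 0 := by
    rintro rfl
    exact hδ' (DFunLike.ext _ _ fun d => by rw [← hμ, zero_mul, AddChar.map_zero_eq_one]; rfl)
  obtain ⟨g, g1, g2, g3, -, -⟩ := F.scal μ hμ0
  refine F.m_le_of_conj g fun v h1 h2 h3 => ⟨fun c => ?_, fun d => ?_, fun e => ?_⟩
  · obtain ⟨c', hc⟩ := g3 c
    rw [hc, h1]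
    simp
  · rw [g1, h2, hμ]
  · obtain ⟨e', he⟩ := g2 e
    rw [he, h3]
    simp

/-- Fibre sums over characters of a coordinate. -/
theorem mult_sum {B : Type*} [AddCommGroup B] [Fintype B] (j : B →+ K × P × P)
    (S : Finset (AddChar K ℂ × AddChar P ℂ × AddChar P ℂ))
    (hS : ∀ t, t ∈ S ↔ (pcEquiv t).compAddMonoidHom j = 1) :
    mult ρ (fun b => F.u (j b)) 1 = ∑ t ∈ S, F.m ρ t.1 t.2.1 t.2.2 := by
  classical
  rw [mult_comp F.u_add j 1]
  exact (Finset.sum_equiv pcEquiv (fun t => by simp [hS]) fun t _ => rfl).symm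

theorem mult_z_eq_r : mult ρ F.z 1 = mult ρ F.r 1 := by
  obtain ⟨w, hw⟩ := F.conj_z
  refine le_antisymm (mult_le_of_conj w⁻¹ fun v hv b => ?_) (mult_le_of_conj w fun v hv e => ?_)
  · rw [inv_inv, show w * F.r b * w⁻¹ = F.z (-b) by
      have := hw (-b); rw [neg_neg] at this; rw [← this]; group, mem_eig.1 hv]
    simp
  · rw [hw, mem_eig.1 hv]
    simp

open Classical in
/-- The fundamental relations between the multiplicities. -/
theorem counting (q : ℕ) (hP : Fintype.card P = q) (hK : Fintype.card K = q ^ 3)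
    {δ₀ : AddChar P ℂ} (hδ₀ : δ₀ ≠ 1) :
    Module.finrank ℂ V = (∑ γ, F.m ρ γ 1 1) + (q - 1) * F.m ρ 1 δ₀ 1 * (q ^ 4 + q ^ 3) ∧
      mult ρ F.z 1 = (∑ γ, F.m ρ γ 1 1) + (q - 1) * F.m ρ 1 δ₀ 1 * q ^ 3 := by
  have cK : Fintype.card (AddChar K ℂ) = q ^ 3 := AddChar.card_eq.trans hK
  have cP : Fintype.card (AddChar P ℂ) = q := AddChar.card_eq.trans hP
  have hψ : ∀ ψ : AddChar P ℂ, ψ ≠ 1 → ∀ γ δ, F.m ρ γ δ ψ = F.m ρ 1 1 ψ := fun ψ h γ δ =>
    le_antisymm (F.m_eq_of_psi h γ 1 δ 1) (F.m_eq_of_psi h 1 γ 1 δ)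
  have hδ : ∀ δ : AddChar P ℂ, δ ≠ 1 → ∀ γ, F.m ρ γ δ 1 = F.m ρ 1 δ₀ 1 := fun δ h γ =>
    le_antisymm ((F.m_eq_of_delta h γ 1).trans (F.m_eq_of_scal h hδ₀))
      ((F.m_eq_of_scal hδ₀ h).trans (F.m_eq_of_delta h 1 γ))
  set A := F.m ρ 1 δ₀ 1
  set N0 := ∑ γ, F.m ρ γ 1 1
  set M := ∑ ψ ∈ Finset.univ.erase (1 : AddChar P ℂ), F.m ρ 1 1 ψ
  -- the fixed space of `Z`
  have hd1 : mult ρ F.z 1 = N0 + (q - 1) * A * q ^ 3 := by
    rw [show F.z = fun e => F.u (((AddMonoidHom.inr K (P × P)).comp (AddMonoidHom.inr P P)) e) from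
      funext fun e => (F.u_z e).symm,
      F.mult_sum _ (Finset.univ ×ˢ Finset.univ ×ˢ {1}) fun t => by
        obtain ⟨γ, δ, ψ⟩ := t
        simp only [Finset.mem_product, Finset.mem_univ, Finset.mem_singleton, true_and, and_true]
        constructor
        · rintro rfl
          ext a
          simp [pcEquiv, pc]
        · intro h
          ext a
          simpa [pcEquiv, pc] using DFunLike.congr_fun h a]
    simp only [Finset.sum_product, Finset.sum_singleton]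
    rw [Finset.sum_comm, ← Finset.add_sum_erase _ _ (Finset.mem_univ (1 : AddChar P ℂ))]
    congr 1
    rw [Finset.sum_congr rfl fun δ hδ' => Finset.sum_congr rfl fun γ _ =>
      hδ δ (Finset.ne_of_mem_erase hδ') γ]
    simp [cK, cP, Finset.card_erase_of_mem, mul_assoc, mul_comm A]
  -- the fixed space of `R`
  have hX : mult ρ F.r 1 = N0 + M * q ^ 3 := by
    rw [show F.r = fun d => F.u (((AddMonoidHom.inr K (P × P)).comp (AddMonoidHom.inl P P)) d) from
      funext fun d => (F.u_r d).symm,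
      F.mult_sum _ (Finset.univ ×ˢ {1} ×ˢ Finset.univ) fun t => by
        obtain ⟨γ, δ, ψ⟩ := t
        simp only [Finset.mem_product, Finset.mem_univ, Finset.mem_singleton, true_and, and_true]
        constructor
        · rintro rfl
          ext a
          simp [pcEquiv, pc]
        · intro h
          ext a
          simpa [pcEquiv, pc] using DFunLike.congr_fun h a]
    simp only [Finset.sum_product, Finset.sum_singleton]
    rw [Finset.sum_comm, ← Finset.add_sum_erase _ _ (Finset.mem_univ (1 : AddChar P ℂ))]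
    congr 1
    rw [Finset.sum_congr rfl fun ψ hψ' => Finset.sum_congr rfl fun γ _ =>
      hψ ψ (Finset.ne_of_mem_erase hψ') γ 1]
    simp [cK, M, ← Finset.mul_sum, mul_comm]
  have hM : M = (q - 1) * A := by
    have h0 : (0 : ℕ) < q := by rw [← hP]; exact Fintype.card_pos
    have := (hd1.symm.trans F.mult_z_eq_r).trans hX
    exact Nat.eq_of_mul_eq_mul_right (pow_pos h0 3) (by omega)
  refine ⟨?_, hd1⟩
  have hsum : Module.finrank ℂ V = mult ρ F.z 1 + M * q ^ 4 := by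
    rw [← sum_mult (ρ := ρ) F.u_add, ← pcEquiv.sum_comp fun χ => mult ρ F.u χ]
    rw [show F.z = fun e => F.u (((AddMonoidHom.inr K (P × P)).comp (AddMonoidHom.inr P P)) e) from
      funext fun e => (F.u_z e).symm,
      F.mult_sum _ (Finset.univ ×ˢ Finset.univ ×ˢ {1}) fun t => by
        obtain ⟨γ, δ, ψ⟩ := t
        simp only [Finset.mem_product, Finset.mem_univ, Finset.mem_singleton, true_and, and_true]
        constructor
        · rintro rfl
          ext a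
          simp [pcEquiv, pc]
        · intro h
          ext a
          simpa [pcEquiv, pc] using DFunLike.congr_fun h a]
    simp only [Fintype.sum_prod_type, Finset.sum_product, Finset.sum_singleton]
    change ∑ γ, ∑ δ, ∑ ψ, F.m ρ γ δ ψ = _
    have hin : ∀ γ δ, ∑ ψ, F.m ρ γ δ ψ = F.m ρ γ δ 1 + M := fun γ δ => by
      rw [← Finset.add_sum_erase _ _ (Finset.mem_univ (1 : AddChar P ℂ))]
      congr 1
      exact Finset.sum_congr rfl fun ψ h => hψ ψ (Finset.ne_of_mem_erase h) γ δ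
    simp only [hin, Finset.sum_add_distrib]
    simp [cK, cP]
    ring
  rw [hsum, hd1, hM]
  ring

open Classical in
/-- The minimal orbit gives `q - 1` independent fixed vectors. -/
theorem fixed_ge (q : ℕ) (hP : Fintype.card P = q) {δ₀ : AddChar P ℂ} (hδ₀ : δ₀ ≠ 1)
    (hA : F.m ρ 1 δ₀ 1 = 1) : q - 1 ≤ ∑ γ, F.m ρ γ 1 1 := by
  set W := eig ρ F.u (pc 1 δ₀ 1)
  obtain ⟨w, hw0, hwspan⟩ := finrank_eq_one_iff'.1 hA
  obtain ⟨v, hv⟩ : ∃ v : V, (w : V) = v := ⟨_, rfl⟩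
  have hv0 : v ≠ 0 := fun h => hw0 (Subtype.ext (hv.trans h))
  have hspan : ∀ x ∈ W, ∃ c : ℂ, c • v = x := fun x hx => by
    obtain ⟨c, hc⟩ := hwspan ⟨x, hx⟩
    exact ⟨c, hv ▸ congrArg Subtype.val hc⟩
  obtain ⟨hvT2, hvr, hvz⟩ := F.mem_pc (v := v) (hv ▸ w.2)
  have stab : ∀ g : G, (∀ c, ρ (g⁻¹ * F.T2 c * g) v = v) → (∀ d, ρ (g⁻¹ * F.r d * g) v = δ₀ d • v) →
      (∀ e, ρ (g⁻¹ * F.z e * g) v = v) → ∃ c : ℂ, c • v = ρ g v := by
    intro g h1 h2 h3
    refine hspan _ (mem_eig.2 fun a => ?_)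
    have := congrArg (ρ g) (F.conj_u (γ' := 1) (δ' := δ₀) (ψ' := 1) (g := g) (v := v)
      (fun c => by simpa using h1 c) h2 (fun e => by simpa using h3 e) a)
    rw [map_smul, ← Module.End.mul_apply, ← map_mul] at this
    rw [← Module.End.mul_apply, ← map_mul, ← this]
    congr 2
    group
  have hT1v : ∀ b, ∃ c : ℂ, c • v = ρ (F.T1 b) v := fun b => stab (F.T1 b)
    (fun c => by rw [F.T1_T2, map_mul, Module.End.mul_apply, hvz]; simp [hvT2])
    (fun d => by rw [mul_assoc, ← (F.T1_r b d).eq, inv_mul_cancel_left, hvr])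
    (fun e => by rw [mul_assoc, ← (F.T1_z b e).eq, inv_mul_cancel_left, hvz]; simp)
  have hlv : ∀ a, ∃ c : ℂ, c • v = ρ (F.l a) v := fun a => stab (F.l a)
    (fun c => by rw [mul_assoc, ← (F.l_T2 a c).eq, inv_mul_cancel_left, hvT2]; simp)
    (fun d => by rw [F.l_r, map_mul, Module.End.mul_apply, hvz]; simp [hvr])
    (fun e => by rw [mul_assoc, ← (F.l_z a e).eq, inv_mul_cancel_left, hvz]; simp)
  obtain ⟨β, hβ⟩ := exists_char F.T1_add hv0 hT1v
  obtain ⟨α, hα⟩ := exists_char F.l_add hv0 hlv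
  have hβ1 : β = 1 := by
    obtain ⟨g, u, hu, g1, g2, g3, g4⟩ := F.twist
    obtain ⟨c, hc⟩ := stab g
      (fun x => by obtain ⟨x', hx⟩ := g3 x; rw [hx, hvT2]; simp) (fun d => by rw [g1, hvr])
      (fun e => by obtain ⟨e', he⟩ := g2 e; rw [he, hvz]; simp)
    have hc0 : c ≠ 0 := fun h => hv0 (rho_injective g (by rw [← hc, h, zero_smul, map_zero]))
    have hinv : ∀ b, β (u * b) = β b := fun b => by
      have h1 : ρ (F.T1 b) (ρ g v) = ρ g (ρ (g⁻¹ * F.T1 b * g) v) := by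
        rw [← Module.End.mul_apply, ← Module.End.mul_apply, ← map_mul, ← map_mul]
        congr 2
        group
      rw [g4, hβ, map_smul, ← hc, map_smul, hβ, smul_smul, smul_smul] at h1
      exact (mul_right_cancel₀ hc0 ((mul_comm _ _).trans (smul_left_injective ℂ hv0 h1))).symm
    refine DFunLike.ext _ _ fun b => ?_
    have h := hinv (b / (u - 1))
    have hu' : u - 1 ≠ 0 := sub_ne_zero.2 hu
    rw [show u * (b / (u - 1)) = b + b / (u - 1) by field_simp; ring, AddChar.map_add_eq_mul] at h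
    rw [AddChar.one_apply]
    exact (mul_eq_right₀ (AddChar.val_isUnit β _).ne_zero).1 h
  -- the element killing the `R`-characters
  obtain ⟨g, gz, gr⟩ : ∃ g : G, (∀ e, ∃ e', g⁻¹ * F.z e * g = F.z e') ∧
      ∀ (x : V) (μ : P), (∀ c, ρ (F.T2 c) x = x) → (∀ d, ρ (F.r d) x = δ₀ (μ * d) • x) →
        (∀ e, ρ (F.z e) x = x) → (∀ b, ρ (F.T1 b) x = x) → (∀ a, ρ (F.l a) x = α (μ * a) • x) →
          ∀ d, ρ (g⁻¹ * F.r d * g) x = x := by
    by_cases hα1 : α = 1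
    · obtain ⟨n, n1, n2⟩ := F.swap
      refine ⟨n, n1, fun x μ _ _ _ _ x5 d => ?_⟩
      obtain ⟨a, ha⟩ := n2 d
      rw [ha, x5, hα1]
      simp
    · obtain ⟨ν, hν⟩ := pairing_bijective (fun a d : P => a * d) (fun a b c => by ring)
        (fun a b c => by ring) (fun t ht e => ⟨e / t, by field_simp⟩) hδ₀ α
      have hν0 : ν ≠ 0 := by
        rintro rfl
        exact hα1 (DFunLike.ext _ _ fun d => by rw [← hν, zero_mul, AddChar.map_zero_eq_one]; rfl)
      obtain ⟨g, g1, g2⟩ := F.lower (-ν⁻¹) (neg_ne_zero.2 (inv_ne_zero hν0))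
      refine ⟨g, g1, fun x μ x1 x2 x3 x4 x5 d => ?_⟩
      obtain ⟨c, b, e, hd⟩ := g2 d
      simp only [hd, map_mul, Module.End.mul_apply, x3, x5, map_smul, x4, x1, x2, smul_smul]
      rw [← hν, ← AddChar.map_add_eq_mul,
        show ν * (μ * (-ν⁻¹ * d)) + μ * d = 0 by field_simp; ring, AddChar.map_zero_eq_one, one_smul]
  -- the vectors
  have hs : ∀ μ : Pˣ, ∃ x : V, x ≠ 0 ∧ (∀ c, ρ (F.T2 c) x = x) ∧
      (∀ d, ρ (F.r d) x = δ₀ ((μ : P) * d) • x) ∧ (∀ e, ρ (F.z e) x = x) ∧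
      (∀ b, ρ (F.T1 b) x = x) ∧ ∀ a, ρ (F.l a) x = α ((μ : P) * a) • x := by
    intro μ
    obtain ⟨h, h1, h2, h3, h4, h5⟩ := F.scal μ μ.ne_zero
    have key : ∀ y, ρ y (ρ h v) = ρ h (ρ (h⁻¹ * y * h) v) := fun y => by
      rw [← Module.End.mul_apply, ← Module.End.mul_apply, ← map_mul, ← map_mul]
      congr 2
      group
    refine ⟨ρ h v, fun e => hv0 (rho_injective h (by rw [e, map_zero])), fun c => ?_, fun d => ?_,
      fun e => ?_, fun b => ?_, fun a => ?_⟩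
    · obtain ⟨c', hc⟩ := h3 c
      rw [key, hc, hvT2]; simp
    · rw [key, h1, hvr, map_smul]
    · obtain ⟨e', he⟩ := h2 e
      rw [key, he, hvz]; simp
    · obtain ⟨b', hb⟩ := h5 b
      rw [key, hb, hβ, hβ1]; simp
    · rw [key, h4, hα, map_smul]
  choose x x0 x1 x2 x3 x4 x5 using hs
  let c : Pˣ → AddChar (K × P × P) ℂ := fun μ =>
    pc 1 (δ₀.compAddMonoidHom (AddMonoidHom.mulLeft (μ : P))) 1
  have hcinj : Function.Injective c := by
    intro μ μ' h
    by_contra hne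
    obtain ⟨d, hd⟩ := AddChar.ne_one_iff.1 hδ₀
    apply hd
    have hne' : (μ : P) - μ' ≠ 0 := sub_ne_zero.2 fun e => hne (Units.ext e)
    have hh := DFunLike.congr_fun h (0, d / ((μ : P) - μ'), 0)
    simp [c, pc] at hh
    rw [show (μ : P) * (d / ((μ : P) - μ')) = d + (μ' : P) * (d / ((μ : P) - μ')) by
      field_simp; ring, AddChar.map_add_eq_mul] at hh
    exact (mul_eq_right₀ (AddChar.val_isUnit δ₀ _).ne_zero).1 hh
  have hxi : LinearIndependent ℂ x := by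
    refine linearIndependent_eig (ρ := ρ) (u := F.u) c hcinj (fun μ => mem_eig.2 fun a => ?_) x0
    simp only [c, u, pc, map_mul, Module.End.mul_apply, x3, x2, map_smul, x1]
    simp
  have hgx : LinearIndependent ℂ fun μ => ρ g (x μ) :=
    hxi.map' (ρ g) (LinearMap.ker_eq_bot.2 (rho_injective g))
  let S := eig ρ (fun p : P × P => F.u ((AddMonoidHom.inr K (P × P)) p)) 1
  have hmem : ∀ μ, ρ g (x μ) ∈ S := by
    intro μ
    refine mem_eig.2 fun p => ?_
    have key : ∀ y, ρ y (ρ g (x μ)) = ρ g (ρ (g⁻¹ * y * g) (x μ)) := fun y => by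
      rw [← Module.End.mul_apply, ← Module.End.mul_apply, ← map_mul, ← map_mul]
      congr 2
      group
    show ρ (F.u (0, p.1, p.2)) _ = _
    obtain ⟨e', he⟩ := gz p.2
    rw [u_rz, map_mul, Module.End.mul_apply, key (F.z _), he, x3, key,
      gr (x μ) μ (x1 μ) (x2 μ) (x3 μ) (x4 μ) (x5 μ)]
    simp
  have hli : LinearIndependent ℂ fun μ => (⟨ρ g (x μ), hmem μ⟩ : S) := hgx.of_comp S.subtype
  have hcard := hli.fintype_card_le_finrank
  rw [Fintype.card_units, hP] at hcard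
  refine hcard.trans_eq ((F.mult_sum _ (Finset.univ ×ˢ {1} ×ˢ {1}) fun t => ?_).trans ?_)
  · obtain ⟨γ, δ, ψ⟩ := t
    simp only [pcEquiv, AddChar.ext_iff, pc, Finset.mem_product, Finset.mem_univ,
      Finset.mem_singleton, true_and, Equiv.coe_fn_mk, AddChar.compAddMonoidHom_apply]
    constructor
    · rintro ⟨h1, h2⟩ p
      simp [h1, h2]
    · intro h
      exact ⟨fun d => by simpa using h (d, 0), fun e => by simpa using h (0, e)⟩
  · simp [Finset.sum_product]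

open Classical in
/-- **The bound**: a representation nontrivial on the highest root group has degree at least
`(q - 1)(q⁴ + q³ + 1)`. -/
theorem degree_bound (q : ℕ) (hP : Fintype.card P = q) (hK : Fintype.card K = q ^ 3)
    (hz : ∃ e, ρ (F.z e) ≠ 1) : (q - 1) * (q ^ 4 + q ^ 3 + 1) ≤ Module.finrank ℂ V := by
  obtain ⟨δ₀, hδ₀⟩ : ∃ δ : AddChar P ℂ, δ ≠ 1 := by
    haveI : Nontrivial (AddChar P ℂ) := by
      rw [← Fintype.one_lt_card_iff_nontrivial, AddChar.card_eq]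
      exact Fintype.one_lt_card
    exact exists_ne 1
  obtain ⟨hk, hd⟩ := F.counting (ρ := ρ) q hP hK hδ₀
  have h2 : 2 ≤ q := hP ▸ Fintype.one_lt_card
  rcases Nat.lt_or_ge (F.m ρ 1 δ₀ 1) 2 with hA | hA
  · rcases Nat.lt_or_ge (F.m ρ 1 δ₀ 1) 1 with h0 | h1
    · exfalso
      obtain ⟨e, he⟩ := hz
      apply he
      have htop : eig ρ F.z 1 = ⊤ := by
        refine Submodule.eq_top_of_finrank_eq (?_ : mult ρ F.z 1 = _)
        rw [hk, hd, Nat.lt_one_iff.1 h0]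
        ring
      refine LinearMap.ext fun v => ?_
      have := mem_eig.1 (htop ▸ Submodule.mem_top : v ∈ eig ρ F.z 1) e
      simpa using this
    · have hA1 : F.m ρ 1 δ₀ 1 = 1 := by omega
      have hN := F.fixed_ge q hP hδ₀ hA1
      rw [hk, hA1, mul_one, mul_add_one]
      omega
  · rw [hk]
    refine le_trans ?_ (Nat.le_add_left _ _)
    calc (q - 1) * (q ^ 4 + q ^ 3 + 1) ≤ (q - 1) * (2 * (q ^ 4 + q ^ 3)) :=
          Nat.mul_le_mul_left _ (by have := Nat.one_le_pow 4 q (by omega); omega)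
      _ ≤ _ := by
          rw [← mul_assoc]
          exact Nat.mul_le_mul_right _ (Nat.mul_le_mul_left _ hA)

end Frame

end H17.HeisDeg
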