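import Cfsg.Agent.H17.HeisDegree.Abstract
import Cfsg.Agent.H53.TwistD4
import Cfsg.Agent.H52.TwistD4

/-!
Elements and relations of `³D₄(q)` entering the degree bound.
-/

set_option autoImplicit false
set_option linter.unusedSectionVars false

namespace H17.HeisDeg.D4

open Cfsg.Lie H52

section Conj

variable {G : Type*} [Group G]

/-- Conjugation `x ↦ g⁻¹ x g`. -/
def cj (g x : G) : G := g⁻¹ * x * g

theorem cj_mul (g a b : G) : cj g (a * b) = cj g a * cj g b := by unfold cj; group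

theorem cj_cj (g h x : G) : cj (g * h) x = cj h (cj g x) := by unfold cj; group

theorem cj_comm {g x : G} (h : Commute g x) : cj g x = x := by
  unfold cj
  rw [mul_assoc, ← h.eq, inv_mul_cancel_left]

end Conj

variable {T : Tables} {K : Type*} [Field K] (X : Twist d4Fold T K)

theorem f3_of_qq {q : ℕ} (hf : ∀ x, X.f x = x ^ q) (hqq : ∀ t : K, ((t ^ q) ^ q) ^ q = t) (t : K) :
    X.f (X.f (X.f t)) = t := by
  simp only [hf, hqq]

/-- The fixed field. -/
abbrev Pf : Subfield K := RingHom.eqLocusField X.f.toRingHom (RingHom.id K)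

theorem f_coe (a : Pf X) : X.f (a : K) = a := a.2

variable {q : ℕ}

/-- The root element `x₁₄`. -/
noncomputable def gl (a : Pf X) : GL chevD4.Idx K := rt chevD4 14 (a : K)
/-- The root element `x₂₂`. -/
noncomputable def gr (a : Pf X) : GL chevD4.Idx K := rt chevD4 22 (a : K)
/-- The root element `x₂₃`. -/
noncomputable def gz (a : Pf X) : GL chevD4.Idx K := rt chevD4 23 (a : K)
/-- The short root element of `a + b`. -/
noncomputable def g1 (b : K) : GL chevD4.Idx K :=
  rt chevD4 19 b * rt chevD4 16 (-(X.f b)) * rt chevD4 15 (-(X.f (X.f b)))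
/-- The short root element of `2a + b`. -/
noncomputable def g2 (c : K) : GL chevD4.Idx K :=
  rt chevD4 20 c * rt chevD4 21 (X.f c) * rt chevD4 17 (-(X.f (X.f c)))

/-- The three outer positive root elements. -/
noncomputable def gu (t : K) : GL chevD4.Idx K :=
  rt chevD4 18 t * rt chevD4 13 (X.f t) * rt chevD4 12 (X.f (X.f t))
/-- The three outer negative root elements. -/
noncomputable def gd (t : K) : GL chevD4.Idx K :=
  rt chevD4 5 t * rt chevD4 10 (X.f t) * rt chevD4 11 (X.f (X.f t))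

include X in
theorem comm {r s : ℕ} (h : r < chevD4.nroots ∧ s < chevD4.nroots ∧ RootsCommute chevD4 r s)
    (t u : K) : Commute (rt chevD4 r t) (rt chevD4 s u) :=
  X.rt_commute h.1 h.2.1 h.2.2 t u

include X in
theorem cj_rt {r s k : ℕ} {cc : ℤ}
    (h : r < chevD4.nroots ∧ s < chevD4.nroots ∧ s ≠ r ∧ s ≠ chevD4.neg r ∧
      chevD4.commTerms r s = [(k, cc, 1, 1)]) (t u : K) :
    cj (rt chevD4 r t) (rt chevD4 s u) = rt chevD4 s u * rt chevD4 k ((cc : K) * (-t) * u) := by
  have e := X.chk.comm_rt h.1 h.2.1 h.2.2.1 h.2.2.2.1 t u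
  rw [ChevalleyDatum.commWord, h.2.2.2.2] at e
  unfold cj
  rw [mul_assoc, e]
  simp [wordRt, mul_assoc]

include X in
theorem cj_fix {r s : ℕ} (h : r < chevD4.nroots ∧ s < chevD4.nroots ∧ RootsCommute chevD4 r s)
    (t u : K) : cj (rt chevD4 r t) (rt chevD4 s u) = rt chevD4 s u :=
  cj_comm (comm X h t u)

/-- The pairing, in `K`. -/
def Bv (b c : K) : K :=
  -(b * X.f (X.f c) + X.f b * c + X.f (X.f b) * X.f c)

theorem g2_commute_gr (c : K) (d : Pf X) : Commute (g2 X c) (gr X d) :=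
  ((comm X (r := 20) (s := 22) (by decide +kernel) _ _).mul_left
    (comm X (r := 21) (s := 22) (by decide +kernel) _ _)).mul_left
    (comm X (r := 17) (s := 22) (by decide +kernel) _ _)

theorem g2_commute_gz (c : K) (d : Pf X) : Commute (g2 X c) (gz X d) :=
  ((comm X (r := 20) (s := 23) (by decide +kernel) _ _).mul_left
    (comm X (r := 21) (s := 23) (by decide +kernel) _ _)).mul_left
    (comm X (r := 17) (s := 23) (by decide +kernel) _ _)

theorem g1_commute_gr (c : K) (d : Pf X) : Commute (g1 X c) (gr X d) :=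
  ((comm X (r := 19) (s := 22) (by decide +kernel) _ _).mul_left
    (comm X (r := 16) (s := 22) (by decide +kernel) _ _)).mul_left
    (comm X (r := 15) (s := 22) (by decide +kernel) _ _)

theorem g1_commute_gz (c : K) (d : Pf X) : Commute (g1 X c) (gz X d) :=
  ((comm X (r := 19) (s := 23) (by decide +kernel) _ _).mul_left
    (comm X (r := 16) (s := 23) (by decide +kernel) _ _)).mul_left
    (comm X (r := 15) (s := 23) (by decide +kernel) _ _)

theorem gl_commute_g2 (a : Pf X) (c : K) : Commute (gl X a) (g2 X c) :=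
  ((comm X (r := 14) (s := 20) (by decide +kernel) _ _).mul_right
    (comm X (r := 14) (s := 21) (by decide +kernel) _ _)).mul_right
    (comm X (r := 14) (s := 17) (by decide +kernel) _ _)

theorem gl_commute_gz (a e : Pf X) : Commute (gl X a) (gz X e) :=
  comm X (r := 14) (s := 23) (by decide +kernel) _ _

theorem gr_commute_gz (a e : Pf X) : Commute (gr X a) (gz X e) :=
  comm X (r := 22) (s := 23) (by decide +kernel) _ _

theorem cj_gl_gr (a d : Pf X) : cj (gl X a) (gr X d) = gr X d * gz X (-(a * d)) := by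
  unfold gl gr gz
  rw [cj_rt X (r := 14) (s := 22) (k := 23) (cc := 1) (by decide +kernel)]
  congr 2
  push_cast
  ring

include X in
theorem rt23_mul (a : K) {s : ℕ} (h : 23 < chevD4.nroots ∧ s < chevD4.nroots ∧ RootsCommute chevD4 23 s)
    (u : K) (Y : GL chevD4.Idx K) :
    rt chevD4 23 a * (rt chevD4 s u * Y) = rt chevD4 s u * (rt chevD4 23 a * Y) := by
  rw [← mul_assoc, (comm X h a u).eq, mul_assoc]

theorem cj_g1_g2 (b c : K) :
    cj (g1 X b) (g2 X c) = g2 X c * rt chevD4 23 (Bv X b c) := by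
  unfold g1 g2
  simp only [cj_cj, cj_mul,
    cj_rt X (r := 19) (s := 17) (k := 23) (cc := -1) (by decide +kernel),
    cj_fix X (r := 19) (s := 20) (by decide +kernel), cj_fix X (r := 19) (s := 21) (by decide +kernel),
    cj_rt X (r := 16) (s := 20) (k := 23) (cc := -1) (by decide +kernel),
    cj_fix X (r := 16) (s := 21) (by decide +kernel), cj_fix X (r := 16) (s := 17) (by decide +kernel),
    cj_fix X (r := 16) (s := 23) (by decide +kernel),
    cj_rt X (r := 15) (s := 21) (k := 23) (cc := -1) (by decide +kernel),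
    cj_fix X (r := 15) (s := 20) (by decide +kernel), cj_fix X (r := 15) (s := 17) (by decide +kernel),
    cj_fix X (r := 15) (s := 23) (by decide +kernel), mul_assoc,
    rt23_mul X _ (s := 21) (by decide +kernel), rt23_mul X _ (s := 17) (by decide +kernel),
    X.chk.rt_mul]
  congr 3
  unfold Bv
  push_cast
  congr 1
  ring

theorem cj_gu_g2 (t c : K) : cj (gu X t) (g2 X c) = g2 X c * rt chevD4 22 (Bv X t c) := by
  unfold gu g2
  have h22 : ∀ (a : K) {s : ℕ}
      (_ : 22 < chevD4.nroots ∧ s < chevD4.nroots ∧ RootsCommute chevD4 22 s) (u : K)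
      (Y : GL chevD4.Idx K),
      rt chevD4 22 a * (rt chevD4 s u * Y) = rt chevD4 s u * (rt chevD4 22 a * Y) := by
    intro a s h u Y
    rw [← mul_assoc, (comm X h a u).eq, mul_assoc]
  simp only [cj_cj, cj_mul,
    cj_rt X (r := 18) (s := 17) (k := 22) (cc := -1) (by decide +kernel),
    cj_fix X (r := 18) (s := 20) (by decide +kernel), cj_fix X (r := 18) (s := 21) (by decide +kernel),
    cj_rt X (r := 13) (s := 20) (k := 22) (cc := 1) (by decide +kernel),
    cj_fix X (r := 13) (s := 21) (by decide +kernel), cj_fix X (r := 13) (s := 17) (by decide +kernel),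
    cj_fix X (r := 13) (s := 22) (by decide +kernel),
    cj_rt X (r := 12) (s := 21) (k := 22) (cc := 1) (by decide +kernel),
    cj_fix X (r := 12) (s := 20) (by decide +kernel), cj_fix X (r := 12) (s := 17) (by decide +kernel),
    cj_fix X (r := 12) (s := 22) (by decide +kernel), mul_assoc,
    h22 _ (s := 21) (by decide +kernel), h22 _ (s := 17) (by decide +kernel),
    X.chk.rt_mul]
  congr 3
  unfold Bv
  push_cast
  congr 1
  ring

theorem gu_fix {s : ℕ} (hs : s = 22 ∨ s = 23) (t u : K) :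
    cj (gu X t) (rt chevD4 s u) = rt chevD4 s u := by
  rcases hs with rfl | rfl <;> refine cj_comm (((comm X ?_ _ _).mul_left (comm X ?_ _ _)).mul_left (comm X ?_ _ _)) <;>
    decide +kernel

theorem gd_fix (t u : K) : cj (gd X t) (rt chevD4 23 u) = rt chevD4 23 u := by
  refine cj_comm (((comm X ?_ _ _).mul_left (comm X ?_ _ _)).mul_left (comm X ?_ _ _)) <;>
    decide +kernel

theorem cj_gd_gr (hf3 : ∀ t, X.f (X.f (X.f t)) = t) (t : K) (d : Pf X) :
    cj (gd X t) (gr X d) = gr X d * g2 X (-(X.f t * d)) * g1 X (X.f t * X.f (X.f t) * d) *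
      rt chevD4 14 (t * X.f t * X.f (X.f t) * d) *
      rt chevD4 23 (-(t * X.f t * X.f (X.f t) * d * d)) := by
  have hd : X.f (d : K) = d := d.2
  unfold gd gr g2 g1
  simp only [map_neg, map_mul, hd, hf3, neg_neg]
  simp only [cj_cj, cj_mul,
    cj_rt X (r := 5) (s := 22) (k := 17) (cc := -1) (by decide +kernel),
    cj_rt X (r := 10) (s := 22) (k := 20) (cc := 1) (by decide +kernel),
    cj_rt X (r := 10) (s := 17) (k := 15) (cc := 1) (by decide +kernel),
    cj_rt X (r := 11) (s := 22) (k := 21) (cc := 1) (by decide +kernel),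
    cj_rt X (r := 11) (s := 20) (k := 19) (cc := 1) (by decide +kernel),
    cj_rt X (r := 11) (s := 17) (k := 16) (cc := 1) (by decide +kernel),
    cj_rt X (r := 11) (s := 15) (k := 14) (cc := 1) (by decide +kernel)]
  set A := t
  set B := X.f t
  set C := X.f (X.f t)
  have c2120 := comm X (r := 21) (s := 20) (by decide +kernel)
  have c23 : ∀ {s : ℕ}, (23 < chevD4.nroots ∧ s < chevD4.nroots ∧ RootsCommute chevD4 23 s) →
      ∀ a u : K, rt chevD4 23 a * rt chevD4 s u = rt chevD4 s u * rt chevD4 23 a :=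
    fun h a u => (comm X h a u).eq
  have sw : ∀ a b : K, rt chevD4 19 a * rt chevD4 17 b =
      rt chevD4 17 b * rt chevD4 19 a * rt chevD4 23 (-(a * b)) := by
    intro a b
    have h := cj_rt X (r := 19) (s := 17) (k := 23) (cc := -1) (by decide +kernel) a b
    unfold cj at h
    rw [mul_assoc, inv_mul_eq_iff_eq_mul] at h
    rw [h, ← mul_assoc, mul_assoc (rt chevD4 19 a * rt chevD4 17 b), X.chk.rt_mul,
      show ((-1 : ℤ) : K) * -a * b + -(a * b) = 0 by push_cast; ring, X.chk.rt_zero, mul_one]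
  simp only [mul_assoc]
  rw [← mul_assoc (rt chevD4 21 _) (rt chevD4 20 _), (c2120 _ _).eq, mul_assoc,
    ← mul_assoc (rt chevD4 19 _) (rt chevD4 17 _), sw]
  simp only [mul_assoc, rt23_mul X _ (s := 16) (by decide +kernel),
    rt23_mul X _ (s := 15) (by decide +kernel), c23 (s := 14) (by decide +kernel)]
  push_cast
  ring_nf

/-- Membership in the twisted group of a fixed product of root elements of one class. -/
theorem mem_grp_of_class {g : GL chevD4.Idx K} {S : Fin chevG2.nroots}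
    (hg : g ∈ Twist.P d4Fold K S) (hf : X.φ g = g) : g ∈ X.grp :=
  X.E_le_grp S (Subgroup.mem_inf.2 ⟨hg, hf⟩)

theorem phi_rt {r r' : ℕ} {σ : ℤ}
    (h : ∃ hr : r < chevD4.nroots, (d4Fold.τ ⟨r, hr⟩).val = r' ∧ d4Fold.η ⟨r, hr⟩ = σ) (t : K) :
    X.φ (rt chevD4 r t) = rt chevD4 r' ((σ : K) * X.f t) := by
  obtain ⟨hr, h1, h2⟩ := h
  rw [X.φ_rt ⟨r, hr⟩ t, h1, h2]

theorem P_mem {r : ℕ} {S : Fin chevG2.nroots}
    (h : ∃ hr : r < chevD4.nroots, d4Fold.cls ⟨r, hr⟩ = S) (t : K) :
    rt chevD4 r t ∈ Twist.P d4Fold K S := by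
  obtain ⟨hr, hc⟩ := h
  exact Twist.mem_P (r := ⟨r, hr⟩) hc t

/-- Roots of classes of one element. -/
theorem single_mem {r : ℕ} {S : Fin chevG2.nroots}
    (h : ∃ hr : r < chevD4.nroots, (d4Fold.τ ⟨r, hr⟩).val = r ∧ d4Fold.η ⟨r, hr⟩ = 1 ∧
      d4Fold.cls ⟨r, hr⟩ = S) (a : Pf X) : rt chevD4 r (a : K) ∈ X.grp := by
  obtain ⟨hr, h1, h2, h3⟩ := h
  refine mem_grp_of_class X (P_mem ⟨hr, h3⟩ _) ?_
  rw [phi_rt X ⟨hr, h1, h2⟩, f_coe, Int.cast_one, one_mul]

theorem gl_mem (a : Pf X) : gl X a ∈ X.grp :=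
  single_mem X (S := ⟨6, by decide⟩) (by decide +kernel) a

theorem gr_mem (a : Pf X) : gr X a ∈ X.grp :=
  single_mem X (S := ⟨10, by decide⟩) (by decide +kernel) a

theorem gz_mem (a : Pf X) : gz X a ∈ X.grp :=
  single_mem X (S := ⟨11, by decide⟩) (by decide +kernel) a

theorem triple_mem {a b c : ℕ} {σa σb σc : ℤ} {S : Fin chevG2.nroots}
    (ha : ∃ h : a < chevD4.nroots, (d4Fold.τ ⟨a, h⟩).val = b ∧ d4Fold.η ⟨a, h⟩ = σa)
    (hb : ∃ h : b < chevD4.nroots, (d4Fold.τ ⟨b, h⟩).val = c ∧ d4Fold.η ⟨b, h⟩ = σb)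
    (hc : ∃ h : c < chevD4.nroots, (d4Fold.τ ⟨c, h⟩).val = a ∧ d4Fold.η ⟨c, h⟩ = σc)
    (Sa : ∃ h : a < chevD4.nroots, d4Fold.cls ⟨a, h⟩ = S)
    (Sb : ∃ h : b < chevD4.nroots, d4Fold.cls ⟨b, h⟩ = S)
    (Sc : ∃ h : c < chevD4.nroots, d4Fold.cls ⟨c, h⟩ = S)
    (hab : RootsCommute chevD4 b a ∧ RootsCommute chevD4 c a)
    {x y z : K} (hy : (σa : K) * X.f x = y) (hz : (σb : K) * X.f y = z) (hx : (σc : K) * X.f z = x) :
    rt chevD4 a x * rt chevD4 b y * rt chevD4 c z ∈ X.grp := by
  refine mem_grp_of_class X (mul_mem (mul_mem (P_mem Sa _) (P_mem Sb _)) (P_mem Sc _)) ?_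
  rw [map_mul, map_mul, phi_rt X ha, phi_rt X hb, phi_rt X hc, hy, hz, hx, mul_assoc,
    ← ((comm X ⟨hc.1, ha.1, hab.2⟩ z x)).symm.eq, ← mul_assoc,
    ((comm X ⟨hb.1, ha.1, hab.1⟩ y x)).eq]

variable (hf3 : ∀ t, X.f (X.f (X.f t)) = t)
include hf3

theorem g1_mem (b : K) : g1 X b ∈ X.grp :=
  triple_mem X (σa := -1) (σb := 1) (σc := -1) (S := ⟨8, by decide⟩) (by decide +kernel)
    (by decide +kernel) (by decide +kernel) (by decide +kernel) (by decide +kernel)
    (by decide +kernel) (by decide +kernel) (by simp) (by simp) (by simp [hf3])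

theorem g2_mem (c : K) : g2 X c ∈ X.grp :=
  triple_mem X (σa := 1) (σb := -1) (σc := -1) (S := ⟨9, by decide⟩) (by decide +kernel)
    (by decide +kernel) (by decide +kernel) (by decide +kernel) (by decide +kernel)
    (by decide +kernel) (by decide +kernel) (by simp) (by simp) (by simp [hf3])

theorem gu_mem (t : K) : gu X t ∈ X.grp :=
  triple_mem X (σa := 1) (σb := 1) (σc := 1) (S := ⟨7, by decide⟩) (by decide +kernel)
    (by decide +kernel) (by decide +kernel) (by decide +kernel) (by decide +kernel)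
    (by decide +kernel) (by decide +kernel) (by simp) (by simp) (by simp [hf3])

theorem gd_mem (t : K) : gd X t ∈ X.grp :=
  triple_mem X (σa := 1) (σb := 1) (σc := 1) (S := ⟨4, by decide⟩) (by decide +kernel)
    (by decide +kernel) (by decide +kernel) (by decide +kernel) (by decide +kernel)
    (by decide +kernel) (by decide +kernel) (by simp) (by simp) (by simp [hf3])

omit hf3 in
theorem g1_add (a b : K) : g1 X (a + b) = g1 X a * g1 X b := by
  simp only [g1, map_add, neg_add, ← X.chk.rt_mul]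
  have h1 := comm X (r := 15) (s := 19) (by decide +kernel)
  have h2 := comm X (r := 16) (s := 19) (by decide +kernel)
  have h3 := comm X (r := 15) (s := 16) (by decide +kernel)
  rw [((h1 _ _).mul_right (h3 _ _)).mul_mul_mul_comm, (h2 _ _).mul_mul_mul_comm]

omit hf3 in
theorem g2_add (a b : K) : g2 X (a + b) = g2 X a * g2 X b := by
  simp only [g2, map_add, neg_add, ← X.chk.rt_mul]
  have h1 := comm X (r := 17) (s := 20) (by decide +kernel)
  have h2 := comm X (r := 21) (s := 20) (by decide +kernel)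
  have h3 := comm X (r := 17) (s := 21) (by decide +kernel)
  rw [((h1 _ _).mul_right (h3 _ _)).mul_mul_mul_comm, (h2 _ _).mul_mul_mul_comm]

theorem Bv_fixed (b c : K) : X.f (Bv X b c) = Bv X b c := by
  simp only [Bv, map_neg, map_add, map_mul, hf3]
  ring

omit hf3 in
include X in
/-- The torus element with parameters `c`, as a conjugation. -/
theorem cj_torus (c : Fin chevD4.rank → Kˣ) {r : ℕ} (hr : r < chevD4.nroots) (t : K) :
    cj (torus chevD4 c)⁻¹ (rt chevD4 r t) = rt chevD4 r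
      (((c d4I0 : K) ^ chevD4.cartan 0 r * (c d4I1 : K) ^ chevD4.cartan 1 r *
        (c d4I2 : K) ^ chevD4.cartan 2 r * (c d4I3 : K) ^ chevD4.cartan 3 r) * t) := by
  unfold cj
  rw [inv_inv, X.chk.torus_conj_rt c hr]
  congr 2
  have hP : ∀ g : Fin chevD4.rank → Kˣ,
      ∏ i : Fin chevD4.rank, g i = g d4I0 * g d4I1 * g d4I2 * g d4I3 :=
    fun g => Fin.prod_univ_four (g : Fin 4 → Kˣ)
  rw [hP]
  simp [Units.val_zpow_eq_zpow_val, d4I0, d4I1, d4I2, d4I3]

theorem torus_mem {a : Kˣ} {b : Kˣ} (hb : X.f (b : K) = b) :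
    (torus chevD4 (d4Fun a b (Units.map X.f.toRingHom.toMonoidHom a)
      (Units.map X.f.toRingHom.toMonoidHom (Units.map X.f.toRingHom.toMonoidHom a))))⁻¹ ∈ X.grp := by
  refine inv_mem (X.torusT_le_grp (X.torus_mem_torusT fun i => ?_))
  obtain ⟨t0, t1, t2, t3⟩ := d4Fold_τi
  rcases d4_cases i with rfl | rfl | rfl | rfl
  · rw [t0]; rfl
  · rw [t1]; exact hb.symm
  · rw [t2]; rfl
  · rw [t3]; exact (hf3 _).symm

end H17.HeisDeg.D4
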