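import Cfsg.Agent.H17.HeisDegree.D4Elements
import Cfsg.Agent.H52.TwistOrderD4
import Cfsg.Agent.H52.TwistSimple
import Cfsg.Agent.H12.Integral

/-!
The minimal degree of `³D₄(q)`.
-/

set_option autoImplicit false
set_option linter.unusedSectionVars false

namespace H17.HeisDeg.D4

open Cfsg.Lie H52

variable {T : Tables} {K : Type*} [Field K] [Fintype K] (X : Twist d4Fold T K) {q : ℕ}
  (hf : ∀ x, X.f x = x ^ q) (hK : Fintype.card K = q ^ 3)

include hf hK

theorem hf3 (t : K) : X.f (X.f (X.f t)) = t := by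
  simp only [hf]
  exact d4_f3 X hf hK t

theorem card_Pf : Nat.card (Pf X) = q := by
  rw [← card_fixed (K := K) (k := 3) (by norm_num) hK]
  exact Nat.card_congr (Equiv.subtypeEquivRight fun x => by rw [← hf]; rfl)

omit hf hK in
/-- The parameter of a root element in the group at a fixed root is fixed. -/
theorem fixed_param {r : ℕ}
    (h : ∃ hr : r < chevD4.nroots, (d4Fold.τ ⟨r, hr⟩).val = r ∧ d4Fold.η ⟨r, hr⟩ = 1) {x : K}
    (hx : rt chevD4 r x ∈ X.grp) : X.f x = x := by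
  obtain ⟨hr, h1, h2⟩ := h
  have hfix : X.φ (rt chevD4 r x) = rt chevD4 r x := X.grp_le_fixed hx
  rw [phi_rt X ⟨hr, h1, h2⟩, Int.cast_one, one_mul] at hfix
  exact X.chk.rt_injective hr hfix

/-- The trace is onto the fixed field. -/
theorem exists_trace (hq : 2 ≤ q) (e : Pf X) : ∃ x : K, x + X.f x + X.f (X.f x) = e := by
  classical
  obtain ⟨x₀, hx₀⟩ : ∃ x₀ : K, x₀ + X.f x₀ + X.f (X.f x₀) ≠ 0 := by
    by_contra h
    push Not at h
    let p : Polynomial K := Polynomial.X + Polynomial.X ^ q + Polynomial.X ^ (q * q)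
    have hqq : q < q * q := by nlinarith
    have hp : p ≠ 0 := fun e => by
      have := congrArg (fun r : Polynomial K => r.coeff 1) e
      simp [p, Polynomial.coeff_X_pow, show 1 ≠ q by omega, show 1 ≠ q * q by omega] at this
    have hroots : ∀ x : K, x ∈ p.roots := fun x => by
      rw [Polynomial.mem_roots hp]
      simp only [p, Polynomial.IsRoot, Polynomial.eval_add, Polynomial.eval_X, Polynomial.eval_pow]
      rw [← hf, pow_mul, ← hf, ← hf, h x]
    have hcard : Fintype.card K ≤ p.natDegree :=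
      (Finset.card_le_card (s := Finset.univ) (t := p.roots.toFinset)
        fun x _ => Multiset.mem_toFinset.2 (hroots x)).trans
        ((Multiset.toFinset_card_le _).trans (Polynomial.card_roots' p))
    have hdeg : p.natDegree ≤ q * q := by
      refine Polynomial.natDegree_add_le_of_degree_le (Polynomial.natDegree_add_le_of_degree_le ?_ ?_) ?_ <;>
        simp <;> omega
    have : q * q < q ^ 3 := by
      rw [show q ^ 3 = q * q * q by ring]
      nlinarith
    omega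
  have hτ : X.f (x₀ + X.f x₀ + X.f (X.f x₀)) = x₀ + X.f x₀ + X.f (X.f x₀) := by
    simp only [map_add, hf3 X hf hK]
    ring
  refine ⟨(e : K) / (x₀ + X.f x₀ + X.f (X.f x₀)) * x₀, ?_⟩
  simp only [map_mul, map_div₀, hτ, f_coe X e]
  field_simp

theorem Bv_surj (hq : 2 ≤ q) {t : K} (ht : t ≠ 0) (e : Pf X) : ∃ c, Bv X t c = e := by
  obtain ⟨x, hx⟩ := exists_trace X hf hK hq (-e)
  have h1 : X.f t ≠ 0 := (map_ne_zero X.f).2 ht
  have h2 : X.f (X.f t) ≠ 0 := (map_ne_zero X.f).2 h1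
  refine ⟨x / X.f t, ?_⟩
  simp only [Bv, map_div₀, hf3 X hf hK]
  rw [eq_comm, ← neg_inj, neg_neg]
  push_cast at hx
  rw [← hx]
  field_simp
  ring

/-- The norm is onto the units of the fixed field. -/
theorem exists_norm (hq : 2 ≤ q) {ν : Pf X} (hν : ν ≠ 0) :
    ∃ t : K, t * X.f t * X.f (X.f t) = ν := by
  obtain ⟨g, hg⟩ := IsCyclic.exists_generator (α := Kˣ)
  have hνK : (ν : K) ≠ 0 := fun h => hν (Subtype.ext h)
  obtain ⟨i, hi⟩ := (Submonoid.mem_powers_iff _ _).1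
    ((mem_powers_iff_mem_zpowers (x := g)).2 (hg (Units.mk0 _ hνK)))
  have hord : orderOf g = q ^ 3 - 1 := by
    rw [orderOf_eq_card_of_forall_mem_zpowers hg, Nat.card_units, Nat.card_eq_fintype_card, hK]
  have hfix : (g ^ i) ^ q = g ^ i := by
    rw [hi]
    exact Units.ext (by rw [Units.val_pow_eq_pow_val, ← hf]; exact f_coe X ν)
  have hdvd : q ^ 3 - 1 ∣ i * (q - 1) := by
    rw [← hord]
    refine orderOf_dvd_of_pow_eq_one ?_
    rw [pow_mul]
    have : (g ^ i) ^ (q - 1) * g ^ i = g ^ i := by rw [← pow_succ, Nat.sub_add_cancel (by omega), hfix]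
    simpa using this
  have hfac : q ^ 3 - 1 = (q ^ 2 + q + 1) * (q - 1) := by
    obtain ⟨p, rfl⟩ : ∃ p, q = p + 1 := ⟨q - 1, by omega⟩
    simp only [Nat.add_sub_cancel]
    refine Nat.sub_eq_of_eq_add ?_
    ring
  rw [hfac] at hdvd
  obtain ⟨j, rfl⟩ := Nat.dvd_of_mul_dvd_mul_right (by omega) hdvd
  refine ⟨((g ^ j : Kˣ) : K), ?_⟩
  rw [hf, hf, show (ν : K) = ((g ^ ((q ^ 2 + q + 1) * j) : Kˣ) : K) by rw [hi]; rfl]
  simp only [Units.val_pow_eq_pow_val, ← pow_mul, ← pow_add]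
  congr 1
  ring

/-- A norm-one element whose square is not one. -/
theorem exists_norm_one (hq : 2 ≤ q) : ∃ s : K, s * X.f s * X.f (X.f s) = 1 ∧ s ^ 2 ≠ 1 := by
  obtain ⟨g, hg⟩ := IsCyclic.exists_generator (α := Kˣ)
  have hord : orderOf g = q ^ 3 - 1 := by
    rw [orderOf_eq_card_of_forall_mem_zpowers hg, Nat.card_units, Nat.card_eq_fintype_card, hK]
  refine ⟨((g ^ (q - 1) : Kˣ) : K), ?_, fun h => ?_⟩
  · rw [hf, hf]
    have : ((g ^ (q - 1)) * (g ^ (q - 1)) ^ q * ((g ^ (q - 1)) ^ q) ^ q : Kˣ) = 1 := by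
      rw [← pow_mul, ← pow_mul, ← pow_add, ← pow_add, ← orderOf_dvd_iff_pow_eq_one, hord]
      refine dvd_of_eq (Nat.sub_eq_of_eq_add ?_)
      obtain ⟨p, rfl⟩ : ∃ p, q = p + 1 := ⟨q - 1, by omega⟩
      simp only [Nat.add_sub_cancel]
      ring
    simpa using congrArg (fun u : Kˣ => (u : K)) this
  · have h' : g ^ ((q - 1) * 2) = 1 := by
      rw [pow_mul]; exact Units.ext (by simpa using h)
    have hd := Nat.le_of_dvd (by omega) (hord ▸ orderOf_dvd_of_pow_eq_one h')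
    have : 4 * q ≤ q ^ 3 := by
      rw [show q ^ 3 = q * q * q by ring]
      exact Nat.mul_le_mul_right q (Nat.mul_le_mul hq hq)
    omega

/-- The frame in `³D₄(q)`. -/
noncomputable def frame (hq : 2 ≤ q) : Frame ↥X.grp (Pf X) K where
  l a := ⟨gl X a, gl_mem X a⟩
  r a := ⟨gr X a, gr_mem X a⟩
  z a := ⟨gz X a, gz_mem X a⟩
  T1 b := ⟨g1 X b, g1_mem X (hf3 X hf hK) b⟩
  T2 c := ⟨g2 X c, g2_mem X (hf3 X hf hK) c⟩
  l_add a b := Subtype.ext (X.chk.rt_mul _ _ _).symm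
  r_add a b := Subtype.ext (X.chk.rt_mul _ _ _).symm
  z_add a b := Subtype.ext (X.chk.rt_mul _ _ _).symm
  T1_add a b := Subtype.ext (g1_add X a b)
  T2_add a b := Subtype.ext (g2_add X a b)
  T2_r c d := Subtype.ext (g2_commute_gr X c d).eq
  T2_z c e := Subtype.ext (g2_commute_gz X c e).eq
  r_z d e := Subtype.ext (gr_commute_gz X d e).eq
  l_T2 a c := Subtype.ext (gl_commute_g2 X a c).eq
  l_z a e := Subtype.ext (gl_commute_gz X a e).eq
  l_r a d := Subtype.ext (cj_gl_gr X a d)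
  B b c := ⟨Bv X b c, Bv_fixed X (hf3 X hf hK) b c⟩
  B_add a b c := Subtype.ext (by simp only [Bv, map_add, Subfield.coe_add]; ring)
  B_addr a b c := Subtype.ext (by simp only [Bv, map_add, Subfield.coe_add]; ring)
  B_surj t ht e := (Bv_surj X hf hK hq ht e).imp fun c h => Subtype.ext h
  T1_T2 b c := Subtype.ext (cj_g1_g2 X b c)
  T1_r b d := Subtype.ext (g1_commute_gr X b d).eq
  T1_z b e := Subtype.ext (g1_commute_gz X b e).eq
  conj_z := by
    refine ⟨⟨(Twist.nOne d4Fold K g2J1)⁻¹, inv_mem (X.nOne_mem_grp g2J1)⟩, fun e => Subtype.ext ?_⟩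
    show ((Twist.nOne d4Fold K g2J1)⁻¹)⁻¹ * rt chevD4 23 (e : K) * (Twist.nOne d4Fold K g2J1)⁻¹ =
      rt chevD4 22 ((-e : Pf X) : K)
    have hi : (d4Fold.sp d4I1).val = 14 := by decide +kernel
    have hn : Twist.nOne d4Fold K g2J1 = nElt chevD4 14 (1 : K) := by
      simp [Twist.nOne, Twist.nJ, d4Fold_orb1, hi]
    obtain ⟨h1, h2, h3⟩ : chevD4.reflectRoot 1 23 = 22 ∧ chevD4.simple 1 = 14 ∧
        tablesD4.eps 1 23 = -1 := by decide +kernel
    have h := checkedD4.sig_conj_rt (i := 1) (by decide) (r := 23) (by decide) (e : K)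
    rw [h1, h2, h3] at h
    rw [inv_inv, hn, h]
    push_cast
    rw [neg_one_mul]
  raise t := by
    refine ⟨⟨gu X t, gu_mem X (hf3 X hf hK) t⟩, fun e => Subtype.ext ?_, fun d => Subtype.ext ?_,
      fun c => Subtype.ext ?_⟩
    · exact gu_fix X (Or.inr rfl) t e
    · exact gu_fix X (Or.inl rfl) t d
    · exact cj_gu_g2 X t c
  scal μ hμ := by
    have hμK : (μ : K) ≠ 0 := fun h => hμ (Subtype.ext h)
    have hfμ : X.f (μ : K) = μ := f_coe X μ
    let c : Fin chevD4.rank → Kˣ := d4Fun (Units.mk0 _ hμK) (Units.mk0 _ hμK ^ 2)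
      (Units.map X.f.toRingHom.toMonoidHom (Units.mk0 _ hμK))
      (Units.map X.f.toRingHom.toMonoidHom (Units.map X.f.toRingHom.toMonoidHom (Units.mk0 _ hμK)))
    have hmem : (torus chevD4 c)⁻¹ ∈ X.grp := torus_mem X (hf3 X hf hK) (by simp [hfμ])
    have key : ∀ {r : ℕ}, (r < chevD4.nroots ∧ chevD4.cartan 0 r + 2 * chevD4.cartan 1 r +
        chevD4.cartan 2 r + chevD4.cartan 3 r = 1) → ∀ t : K,
        cj (torus chevD4 c)⁻¹ (rt chevD4 r t) = rt chevD4 r ((μ : K) * t) := by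
      intro r hr t
      rw [cj_torus X c hr.1]
      congr 2
      show (μ : K) ^ _ * (((Units.mk0 _ hμK ^ 2 : Kˣ) : K)) ^ _ * (X.f (μ : K)) ^ _ *
        (X.f (X.f (μ : K))) ^ _ = μ
      rw [hfμ, hfμ, Units.val_pow_eq_pow_val, Units.val_mk0, ← zpow_natCast (μ : K) 2, ← zpow_mul,
        ← zpow_add₀ hμK, ← zpow_add₀ hμK, ← zpow_add₀ hμK, Nat.cast_ofNat, hr.2, zpow_one]
    refine ⟨⟨_, hmem⟩, fun d => Subtype.ext ?_, fun e => ?_, fun c' => ⟨(μ : K) * c', Subtype.ext ?_⟩,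
      fun a => Subtype.ext ?_, fun b => ⟨(μ : K) * b, Subtype.ext ?_⟩⟩
    · exact key (r := 22) (by decide +kernel) d
    · refine ⟨μ * μ * e, Subtype.ext ?_⟩
      show cj _ (rt chevD4 23 (e : K)) = rt chevD4 23 _
      rw [cj_torus X c (by decide +kernel)]
      congr 1
      obtain ⟨h0, h1, h2, h3⟩ : chevD4.cartan 0 23 = 0 ∧ chevD4.cartan 1 23 = 1 ∧
          chevD4.cartan 2 23 = 0 ∧ chevD4.cartan 3 23 = 0 := by decide +kernel
      rw [h0, h1, h2, h3]
      simp [c, d4Fun, d4I1, sq]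
    · show cj _ (g2 X c') = g2 X _
      simp only [g2, cj_mul, key (r := 20) (by decide +kernel), key (r := 21) (by decide +kernel),
        key (r := 17) (by decide +kernel), map_mul, hfμ, mul_neg]
    · exact key (r := 14) (by decide +kernel) a
    · show cj _ (g1 X b) = g1 X _
      simp only [g1, cj_mul, key (r := 19) (by decide +kernel), key (r := 16) (by decide +kernel),
        key (r := 15) (by decide +kernel), map_mul, hfμ, mul_neg]
  twist := by
    obtain ⟨s, hs, hs2⟩ := exists_norm_one X hf hK hq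
    have h3 := hf3 X hf hK
    have hs0 : s ≠ 0 := fun h => by simp [h] at hs
    have hs1 : X.f s ≠ 0 := (map_ne_zero X.f).2 hs0
    have hs2' : X.f (X.f s) ≠ 0 := (map_ne_zero X.f).2 hs1
    let c : Fin chevD4.rank → Kˣ := d4Fun (Units.mk0 s hs0) 1
      (Units.map X.f.toRingHom.toMonoidHom (Units.mk0 s hs0))
      (Units.map X.f.toRingHom.toMonoidHom (Units.map X.f.toRingHom.toMonoidHom (Units.mk0 s hs0)))
    have hmem : (torus chevD4 c)⁻¹ ∈ X.grp := torus_mem X h3 (by simp)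
    have key : ∀ {r : ℕ} {a b d : ℤ}, (r < chevD4.nroots ∧ chevD4.cartan 0 r = a ∧
        chevD4.cartan 2 r = b ∧ chevD4.cartan 3 r = d) → ∀ t : K,
        cj (torus chevD4 c)⁻¹ (rt chevD4 r t) =
          rt chevD4 r (s ^ a * (X.f s) ^ b * (X.f (X.f s)) ^ d * t) := by
      intro r a b d hr t
      rw [cj_torus X c hr.1, hr.2.1, hr.2.2.1, hr.2.2.2]
      congr 2
      show s ^ a * ((1 : Kˣ) : K) ^ _ * (X.f s) ^ b * (X.f (X.f s)) ^ d = _
      rw [Units.val_one, one_zpow, mul_one]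
    refine ⟨⟨_, hmem⟩, s ^ 2, hs2, fun d => Subtype.ext ?_, fun e => ⟨e, Subtype.ext ?_⟩,
      fun c' => ⟨c' / X.f s ^ 2, Subtype.ext ?_⟩, fun b => Subtype.ext ?_⟩
    · show cj _ (rt chevD4 22 _) = rt chevD4 22 _
      rw [key (r := 22) (a := 1) (b := 1) (d := 1) (by decide +kernel)]
      simp [hs]
    · show cj _ (rt chevD4 23 _) = rt chevD4 23 _
      rw [key (r := 23) (a := 0) (b := 0) (d := 0) (by decide +kernel)]
      simp
    · show cj _ (g2 X c') = g2 X _
      simp only [g2, cj_mul, key (r := 20) (a := 1) (b := -1) (d := 1) (by decide +kernel),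
        key (r := 21) (a := 1) (b := 1) (d := -1) (by decide +kernel),
        key (r := 17) (a := -1) (b := 1) (d := 1) (by decide +kernel)]
      simp only [zpow_one, zpow_neg, map_div₀, map_pow, h3]
      congr 3
      · field_simp
        linear_combination c' * hs
      · field_simp
        linear_combination X.f c' * hs
      · field_simp
        linear_combination (-(X.f (X.f c'))) * hs
    · show cj _ (g1 X b) = g1 X _
      simp only [g1, cj_mul, key (r := 19) (a := 1) (b := -1) (d := -1) (by decide +kernel),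
        key (r := 16) (a := -1) (b := 1) (d := -1) (by decide +kernel),
        key (r := 15) (a := -1) (b := -1) (d := 1) (by decide +kernel)]
      simp only [zpow_one, zpow_neg, map_mul, map_pow, h3]
      congr 3
      · field_simp
        linear_combination (-b) * hs
      · field_simp
        linear_combination X.f b * hs
      · field_simp
        linear_combination X.f (X.f b) * hs
  swap := by
    refine ⟨⟨(Twist.nOne d4Fold K g2J0)⁻¹, inv_mem (X.nOne_mem_grp g2J0)⟩, fun e => ?_, fun d => ?_⟩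
    · obtain ⟨ε, hε⟩ := X.word_conj_rt (d4Fold.orb g2J0) ⟨23, by decide⟩ (e : K)
      have hfold : ((d4Fold.orb g2J0).foldr d4Fold.W.data.act ⟨23, by decide⟩).val = 23 := by
        decide +kernel
      rw [hfold] at hε
      have hmem : rt chevD4 23 (ε * (e : K)) ∈ X.grp := hε ▸
        mul_mem (mul_mem (X.nOne_mem_grp g2J0) (gz_mem X e)) (inv_mem (X.nOne_mem_grp g2J0))
      refine ⟨⟨ε * (e : K), fixed_param X (r := 23) (by decide +kernel) hmem⟩, Subtype.ext ?_⟩
      show ((Twist.nOne d4Fold K g2J0)⁻¹)⁻¹ * _ * (Twist.nOne d4Fold K g2J0)⁻¹ = _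
      rw [inv_inv]
      exact hε
    · obtain ⟨ε, hε⟩ := X.word_conj_rt (d4Fold.orb g2J0) ⟨22, by decide⟩ (d : K)
      have hfold : ((d4Fold.orb g2J0).foldr d4Fold.W.data.act ⟨22, by decide⟩).val = 14 := by
        decide +kernel
      rw [hfold] at hε
      have hmem : rt chevD4 14 (ε * (d : K)) ∈ X.grp := hε ▸
        mul_mem (mul_mem (X.nOne_mem_grp g2J0) (gr_mem X d)) (inv_mem (X.nOne_mem_grp g2J0))
      refine ⟨⟨ε * (d : K), fixed_param X (r := 14) (by decide +kernel) hmem⟩, Subtype.ext ?_⟩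
      show ((Twist.nOne d4Fold K g2J0)⁻¹)⁻¹ * _ * (Twist.nOne d4Fold K g2J0)⁻¹ = _
      rw [inv_inv]
      exact hε
  lower ν hν := by
    obtain ⟨t, ht⟩ := exists_norm X hf hK hq hν
    refine ⟨⟨gd X t, gd_mem X (hf3 X hf hK) t⟩, fun e => ⟨e, Subtype.ext (gd_fix X t e)⟩,
      fun d => ⟨-(X.f t * d), X.f t * X.f (X.f t) * d, -(ν * d * d), Subtype.ext ?_⟩⟩
    show cj (gd X t) (gr X d) = gr X d * g2 X _ * g1 X _ * gl X (ν * d) * gz X _
    rw [cj_gd_gr X (hf3 X hf hK), ht]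
    rfl

end H17.HeisDeg.D4

namespace H17.HeisDeg.D4

/-- `q⁴ + q³ + 1` does not divide the order. -/
theorem not_dvd_order {q : ℕ} (hq : 2 ≤ q) :
    ¬ (q - 1) * (q ^ 4 + q ^ 3 + 1) ∣ q ^ 12 * (q ^ 2 - 1) * (q ^ 6 - 1) * (q ^ 8 + q ^ 4 + 1) := by
  intro h
  set f := q ^ 4 + q ^ 3 + 1 with hfdef
  have h2 : q ^ 2 - 1 = (q - 1) * (q + 1) := by
    rw [mul_comm, show q ^ 2 - 1 = q ^ 2 - 1 ^ 2 by rw [one_pow], Nat.sq_sub_sq]
  rw [h2, show q ^ 12 * ((q - 1) * (q + 1)) * (q ^ 6 - 1) * (q ^ 8 + q ^ 4 + 1) =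
    (q - 1) * (q ^ 12 * ((q + 1) * (q ^ 6 - 1) * (q ^ 8 + q ^ 4 + 1))) by ring] at h
  have h' := Nat.dvd_of_mul_dvd_mul_left (by omega) h
  have hcop : Nat.Coprime f (q ^ 12) := by
    refine Nat.Coprime.pow_right _ ?_
    rw [hfdef, show q ^ 4 + q ^ 3 + 1 = 1 + q * (q ^ 3 + q ^ 2) by ring]
    exact (Nat.coprime_add_mul_left_left 1 q _).2 (Nat.coprime_one_left q)
  have h'' : (f : ℤ) ∣ (((q + 1) * (q ^ 6 - 1) * (q ^ 8 + q ^ 4 + 1) : ℕ) : ℤ) :=
    Int.natCast_dvd_natCast.2 (hcop.dvd_of_dvd_mul_left h')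
  push_cast [Nat.one_le_pow 6 q (by omega)] at h''
  have hid : ((q : ℤ) + 1) * ((q : ℤ) ^ 6 - 1) * ((q : ℤ) ^ 8 + (q : ℤ) ^ 4 + 1) = (f : ℤ) *
      ((q : ℤ) ^ 11 + (q : ℤ) ^ 6 - 2 * (q : ℤ) ^ 5 + (q : ℤ) ^ 4 + (q : ℤ) - 3) +
      (3 * (q : ℤ) ^ 3 - 2 * q + 2) := by
    rw [hfdef]; push_cast; ring
  rw [hid] at h''
  have hR : (f : ℤ) ∣ 3 * (q : ℤ) ^ 3 - 2 * q + 2 := (dvd_add_right (Dvd.intro _ rfl)).1 h''
  have hq' : (2 : ℤ) ≤ q := by exact_mod_cast hq
  have hf : (f : ℤ) = (q : ℤ) ^ 4 + (q : ℤ) ^ 3 + 1 := by rw [hfdef]; push_cast; ring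
  have hpos : 0 < 3 * (q : ℤ) ^ 3 - 2 * q + 2 := by nlinarith [mul_le_mul_of_nonneg_left (show (2 : ℤ) ≤ 3 * (q : ℤ) ^ 2 by nlinarith) (show (0 : ℤ) ≤ q by omega)]
  have hle := Int.le_of_dvd hpos hR
  nlinarith [pow_le_pow_left₀ (by norm_num : (0 : ℤ) ≤ 2) hq' 3,
    mul_le_mul_of_nonneg_right hq' (by positivity : (0 : ℤ) ≤ (q : ℤ) ^ 3)]

open Cfsg.Lie H52 in
/-- **The minimal degree of `³D₄(q)`.** -/
theorem minimal_degree {K : Type*} [Field K] [Fintype K] {q : ℕ} (hq : IsPrimePow q)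
    (hK : Fintype.card K = q ^ 3) {k : ℕ}
    (ρ : Representation ℂ ↥(twistedD4 K q) (Fin k → ℂ)) (hirr : ρ.IsIrreducible) (hk : 2 ≤ k) :
    q * (q ^ 4 - q ^ 2 + 1) ≤ k := by
  classical
  obtain ⟨T, X, hf⟩ := exists_twistD4 hq hK
  have h2 : 2 ≤ q := hq.two_le
  haveI hsimple : IsSimpleGroup ↥X.grp :=
    (X.simple_grp (diagramConnected_of_mem (by simp)) (by decide) (d4_perfect X hf hK)).1
  haveI : IsSimpleGroup ↥(twistedD4 K q) := by rw [← twistD4_grp X hf hK]; exact hsimple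
  let e : ↥X.grp ≃* ↥(twistedD4 K q) := MulEquiv.subgroupCongr (twistD4_grp X hf hK)
  let σ : Representation ℂ ↥X.grp (Fin k → ℂ) := ρ.comp e.toMonoidHom
  let F := frame X hf hK h2
  haveI : Fintype ↥(Pf X) := Fintype.ofFinite _
  have hP : Fintype.card ↥(Pf X) = q := by rw [← Nat.card_eq_fintype_card, card_Pf X hf hK]
  have hz : ∃ a, σ (F.z a) ≠ 1 := by
    refine ⟨1, fun h => ?_⟩
    rcases (MonoidHom.normal_ker ρ).eq_bot_or_eq_top with hker | hker
    · have he : e (F.z 1) = 1 := by rw [← Subgroup.mem_bot, ← hker]; exact MonoidHom.mem_ker.2 h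
      have he' : F.z 1 = 1 := e.injective (he.trans (map_one e).symm)
      have h3 : rt chevD4 23 ((1 : Pf X) : K) = rt chevD4 23 0 := by
        rw [X.chk.rt_zero]; exact congrArg Subtype.val he'
      exact one_ne_zero (X.chk.rt_injective (by decide) h3)
    · have htriv : ∀ g, ρ g = 1 := fun g => MonoidHom.mem_ker.1 (hker ▸ Subgroup.mem_top g)
      let i0 : Fin k := ⟨0, by omega⟩
      let S : Subrepresentation ρ :=
        { toSubmodule := Submodule.span ℂ {Pi.single i0 (1 : ℂ)}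
          apply_mem_toSubmodule := fun g v hv => by rw [htriv g]; exact hv }
      haveI := hirr
      rcases IsSimpleOrder.eq_bot_or_eq_top S with h' | h'
      · have e' : S.toSubmodule = ⊥ := by rw [h']; rfl
        simp [S, Pi.single_eq_zero_iff] at e'
      · have e' : S.toSubmodule = ⊤ := by rw [h']; rfl
        have hfr := congrArg (fun U : Submodule ℂ (Fin k → ℂ) => Module.finrank ℂ U) e'
        simp only [S, finrank_top, Module.finrank_fin_fun] at hfr
        rw [finrank_span_singleton (by simp [Pi.single_eq_zero_iff])] at hfr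
        omega
  have hb := F.degree_bound (ρ := σ) q hP hK hz
  rw [Module.finrank_fin_fun] at hb
  have hdvd : k ∣ Nat.card ↥(twistedD4 K q) := by
    have := H12.irr_degree_dvd_card (⟨ρ.character, k, ρ, hirr, rfl⟩ : Cfsg.IrrCharacter _)
    simpa [H12.degree, Representation.character] using this
  rw [d4t_card hq hK] at hdvd
  have hne : k ≠ (q - 1) * (q ^ 4 + q ^ 3 + 1) := fun h => not_dvd_order h2 (h ▸ hdvd)
  have hsucc : (q - 1) * (q ^ 4 + q ^ 3 + 1) + 1 = q * (q ^ 4 - q ^ 2 + 1) := by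
    have h4 : q ^ 2 ≤ q ^ 4 := Nat.pow_le_pow_right (by omega) (by norm_num)
    zify [h4, (by omega : 1 ≤ q)]
    ring
  omega

end H17.HeisDeg.D4
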