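import Cfsg.Agent.H52.Order

/-!
Degrees just short of a bound do not divide a product of cyclotomic type.
-/

set_option autoImplicit false

namespace H17.HeisDeg.DegreeArith

open H52

/-- The product in an order formula. -/
def orderProd (N : ℕ) (ds : List ℕ) (q : ℕ) : ℕ := q ^ N * (ds.map fun e => q ^ e - 1).prod

/-- A bound on a polynomial, relative to its leading power, valid from `n₀` on. -/
def absBound (n₀ : ℕ) : List ℤ → ℕ
  | [] => 0
  | c :: l => absBound n₀ l + (c.natAbs + (n₀ ^ l.length - 1)) / n₀ ^ l.length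

theorem absBound_spec {n₀ q : ℕ} (hn : 1 ≤ n₀) (hq : n₀ ≤ q) :
    ∀ c : ℤ, ∀ l : List ℤ, |pEval (q : ℤ) (c :: l)| ≤ (absBound n₀ (c :: l) : ℤ) * (q : ℤ) ^ l.length := by
  intro c l
  induction l generalizing c with
  | nil => simp [pEval, absBound]
  | cons d l ih =>
    have hstep : c.natAbs ≤ (c.natAbs + (n₀ ^ (d :: l).length - 1)) / n₀ ^ (d :: l).length *
        n₀ ^ (d :: l).length := by
      have hp : 0 < n₀ ^ (d :: l).length := pow_pos (by omega) _
      have h1 := Nat.div_add_mod (c.natAbs + (n₀ ^ (d :: l).length - 1)) (n₀ ^ (d :: l).length)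
      have h2 := Nat.mod_lt (c.natAbs + (n₀ ^ (d :: l).length - 1)) hp
      rw [mul_comm] at h1
      omega
    set E := (c.natAbs + (n₀ ^ (d :: l).length - 1)) / n₀ ^ (d :: l).length with hE
    have hb : absBound n₀ (c :: d :: l) = absBound n₀ (d :: l) + E := rfl
    have hcE : |c| ≤ (E : ℤ) * (q : ℤ) ^ (d :: l).length := by
      rw [Int.abs_eq_natAbs]
      exact_mod_cast hstep.trans (Nat.mul_le_mul_left E (Nat.pow_le_pow_left hq _))
    have hrest : |(q : ℤ) * pEval (q : ℤ) (d :: l)| ≤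
        (absBound n₀ (d :: l) : ℤ) * (q : ℤ) ^ (d :: l).length := by
      rw [abs_mul, Nat.abs_cast, List.length_cons, pow_succ']
      exact (mul_le_mul_of_nonneg_left (ih d) (by positivity)).trans (le_of_eq (by ring))
    calc |pEval (q : ℤ) (c :: d :: l)| ≤ |c| + |(q : ℤ) * pEval (q : ℤ) (d :: l)| := by
          exact abs_add_le _ _
      _ ≤ _ := by
          rw [hb, Nat.cast_add, add_mul, add_comm]
          exact add_le_add hrest hcE

theorem pEval_append (x : ℤ) : ∀ l : List ℤ, ∀ t : ℤ,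
    pEval x (l ++ [t]) = pEval x l + t * x ^ l.length
  | [], t => by simp [pEval]
  | c :: l, t => by
    simp only [List.cons_append, pEval, pEval_append x l t, List.length_cons, Int.cast_id]
    ring

theorem pEval_prod_pSubOne {q : ℕ} (hq : 1 ≤ q) : ∀ ds : List ℕ,
    pEval (q : ℤ) (pProd (ds.map pSubOne)) = (((ds.map fun e => q ^ e - 1).prod : ℕ) : ℤ)
  | [] => by simp [pProd, pEval]
  | e :: ds => by
    simp only [List.map_cons, List.prod_cons, pProd, pEval_pMul]
    rw [Nat.cast_mul, Nat.cast_sub (Nat.one_le_pow e q hq), Nat.cast_pow, Nat.cast_one,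
      pEval_prod_pSubOne hq ds, pSubOne, pEval_pAdd, pEval_pMon]
    simp only [pEval, mul_zero, add_zero, Int.cast_neg, Int.cast_one, Int.cast_id]
    ring

/-- The certificate: `j · ∏ (X^e - 1) = f · Q + (c :: low, top)` with a small nonzero remainder. -/
def certOK (n₀ j : ℕ) (ds : List ℕ) (fl Q : List ℤ) (c : ℤ) (low : List ℤ) (top : ℤ) : Bool :=
  pEq (pMul [(j : ℤ)] (pProd (ds.map pSubOne))) (pAdd (pMul fl Q) ((c :: low) ++ [top])) &&
    decide ((absBound n₀ (c :: low) : ℤ) < |top| * (n₀ : ℤ)) && decide (absBound n₀ (c :: low) < n₀) &&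
    decide ((|top| + 2) ≤ (n₀ : ℤ))

/-- Degrees close to `T` do not divide, above a bound. -/
theorem not_dvd_large' {n₀ j N : ℕ} {ds : List ℕ} {fl Q : List ℤ} {c : ℤ} {low : List ℤ} {top : ℤ}
    (hcert : certOK n₀ j ds fl Q c low top = true) {q f : ℕ} (hqp : IsPrimePow q) (hn : n₀ ≤ q)
    (hj : 1 ≤ j) (hjq : j < q) (hf : (f : ℤ) = pEval (q : ℤ) fl) (hT : q ∣ f + j)
    (hbig : (|top| + 2) * (q : ℤ) ^ (low.length + 1) ≤ f + j) :
    ¬ f ∣ orderProd N ds q := by
  intro h
  simp only [certOK, Bool.and_eq_true, decide_eq_true_eq] at hcert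
  obtain ⟨⟨⟨hid, hlow⟩, hsmall'⟩, htop⟩ := hcert
  have hq2 : 2 ≤ q := hqp.two_le
  set P := (ds.map fun e => q ^ e - 1).prod with hP
  -- the common divisor with the power of `q` divides `j`
  set g := f.gcd (q ^ N)
  have hgj : g ∣ j := by
    obtain ⟨p, e, hp, he, rfl⟩ := hqp
    rw [← Nat.prime_iff] at hp
    have hg : g ∣ p ^ (e * N) := by rw [pow_mul]; exact Nat.gcd_dvd_right f _
    obtain ⟨a, -, ha⟩ := (Nat.dvd_prime_pow hp).1 hg
    have hgf : g ∣ f := Nat.gcd_dvd_left f _
    have hgq : g ∣ p ^ e := by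
      rw [ha]
      rcases Nat.le_total a e with hae | hae
      · exact pow_dvd_pow p hae
      · exfalso
        have hqf : p ^ e ∣ f := (pow_dvd_pow p hae).trans (ha ▸ hgf)
        have := Nat.le_of_dvd hj ((Nat.dvd_add_right hqf).1 hT)
        omega
    exact (Nat.dvd_add_right hgf).1 (hgq.trans hT)
  have hfj : f ∣ j * P := by
    have h1 : f ∣ g * P := by
      rw [← Nat.gcd_mul_right]
      exact Nat.dvd_gcd (dvd_mul_right f P) h
    exact h1.trans (mul_dvd_mul_right hgj P)
  have hR : (f : ℤ) ∣ pEval (q : ℤ) ((c :: low) ++ [top]) := by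
    have he := pEval_pEq (x := (q : ℤ)) _ _ hid
    rw [pEval_pMul, pEval_pAdd, pEval_pMul, pEval_prod_pSubOne (by omega), ← hf] at he
    have : (f : ℤ) ∣ pEval (q : ℤ) [(j : ℤ)] * (P : ℤ) := by
      simpa [pEval] using Int.natCast_dvd_natCast.2 hfj
    rw [he] at this
    exact (dvd_add_right (dvd_mul_right _ _)).1 this
  rw [pEval_append, List.length_cons] at hR
  set X : ℤ := (q : ℤ) ^ low.length
  have hX : 1 ≤ X := one_le_pow₀ (by exact_mod_cast (by omega : 1 ≤ q))
  have hb := abs_le.1 (absBound_spec (show 1 ≤ n₀ by omega) hn c low)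
  have hn' : (n₀ : ℤ) ≤ q := by exact_mod_cast hn
  rw [show (q : ℤ) ^ (low.length + 1) = q * X from pow_succ' _ _] at hR
  have hlt : (absBound n₀ (c :: low) : ℤ) * X < |top| * ((q : ℤ) * X) := by
    rw [← mul_assoc]
    exact mul_lt_mul_of_pos_right (hlow.trans_le (mul_le_mul_of_nonneg_left hn' (abs_nonneg _)))
      (by omega)
  have hne : pEval (q : ℤ) (c :: low) + top * ((q : ℤ) * X) ≠ 0 := by
    intro h0
    have h1 := congrArg abs (eq_neg_of_add_eq_zero_left h0)
    rw [abs_neg, abs_mul, abs_of_nonneg (show (0 : ℤ) ≤ q * X by positivity)] at h1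
    have := abs_le.2 hb
    rw [h1] at this
    linarith
  have habs := Int.le_of_dvd (abs_pos.2 hne) ((dvd_abs _ _).2 hR)
  have hfq : (|top| + 1 + 1) * ((q : ℤ) * X) ≤ f + j := by
    rw [pow_succ'] at hbig
    linarith
  have hjq' : (j : ℤ) < q := by exact_mod_cast hjq
  have hfin : (|top| + 1 + 1) * ((q : ℤ) * X) ≤ (f : ℤ) + q * X := by
    have h2 : (j : ℤ) ≤ q * X := hjq'.le.trans (le_mul_of_one_le_right (by positivity) hX)
    omega
  have : |pEval (q : ℤ) (c :: low) + top * ((q : ℤ) * X)| < (|top| + 1) * ((q : ℤ) * X) := by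
    refine (abs_add_le _ _).trans_lt ?_
    rw [abs_mul top, abs_of_nonneg (show (0 : ℤ) ≤ q * X by positivity), add_mul, one_mul]
    have h1 := abs_le.2 hb
    have h2 : (absBound n₀ (c :: low) : ℤ) * X < q * X := by
      refine mul_lt_mul_of_pos_right ?_ (by omega)
      exact_mod_cast hsmall'.trans_le hn
    linarith
  rw [add_mul, one_mul] at hfin
  omega

/-- Degrees close to `T` do not divide, above a bound. -/
theorem not_dvd_large {n₀ j N : ℕ} {ds : List ℕ} {fl Q : List ℤ} {c : ℤ} {low : List ℤ} {top : ℤ}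
    (hcert : certOK n₀ j ds fl Q c low top = true) {q f : ℕ} (hqp : IsPrimePow q) (hn : n₀ ≤ q)
    (hj : 1 ≤ j) (hjq : j < q) (hf : (f : ℤ) = pEval (q : ℤ) fl) (hT : q ∣ f + j)
    (hbig : q ^ (low.length + 2) ≤ f + j) :
    ¬ f ∣ orderProd N ds q := by
  refine not_dvd_large' hcert hqp hn hj hjq hf hT ?_
  have hc := hcert
  simp only [certOK, Bool.and_eq_true, decide_eq_true_eq] at hc
  have hn' : (n₀ : ℤ) ≤ q := by exact_mod_cast hn
  have : ((q : ℤ) ^ (low.length + 2)) ≤ ((f + j : ℕ) : ℤ) := by exact_mod_cast hbig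
  push_cast at this
  refine le_trans ?_ this
  rw [pow_succ' (q : ℤ) (low.length + 1)]
  exact mul_le_mul_of_nonneg_right (hc.2.trans hn') (by positivity)

/-- Small cases by evaluation. -/
def smallOK (T : ℕ → ℕ) (j N : ℕ) (ds : List ℕ) (n : ℕ) : Bool :=
  (List.range n).all fun q => decide (q < 2) || decide (orderProd N ds q % (T q - j) ≠ 0)

theorem not_dvd_small {T : ℕ → ℕ} {j N : ℕ} {ds : List ℕ} {n q : ℕ} (h : smallOK T j N ds n = true)
    (hq : 2 ≤ q) (hn : q < n) : ¬ T q - j ∣ orderProd N ds q := by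
  simp only [smallOK, List.all_eq_true, List.mem_range, Bool.or_eq_true, decide_eq_true_eq] at h
  exact fun hd => (h q hn).resolve_left (by omega) (Nat.mod_eq_zero_of_dvd hd)

end H17.HeisDeg.DegreeArith
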