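import Cfsg.Agent.H17.HeisDegree.RootCount
import Cfsg.Prelude.Def_ChevE6

/-!
The tables for the degree bound of `E₆`.
-/

set_option autoImplicit false

namespace H17.HeisDeg.E6

open Cfsg.Lie H52 RootAct

/-- The Heisenberg radical. -/
def heis : HeisTable where
  l := 70
  r := 46
  z := 71
  tau := [47, 48, 49, 50, 51, 52, 61, 62, 63]
  aa := [69, 68, 67, 66, 65, 64, 55, 54, 53]
  sigma := [32, 31, 30, 28, 27, 26, 13, 12, 11]
  word := [1, 3, 4, 5, 2, 3, 4, 0, 2, 3]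
  node := 3

/-- The closure certificate. -/
def stages : List (List (ℕ × ℕ × ℕ)) :=
  [
    [(53, 14, 67), (54, 14, 68), (55, 14, 69), (42, 15, 57), (56, 29, 57), (64, 29, 67), (65, 29, 68), (66, 29, 69), (67, 33, 69), (36, 34, 38), (68, 34, 69), (37, 35, 38), (38, 36, 37), (69, 37, 68), (57, 42, 56)],
    [(39, 14, 58), (40, 14, 59), (41, 14, 60), (43, 15, 58), (44, 15, 59), (45, 15, 60), (58, 33, 60), (59, 35, 60), (60, 36, 59), (70, 39, 69)]]

/-- Roots above level 1. -/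
def prev1 : List ℕ := [71]

/-- The roots of level 1. -/
def rad1 : List ℕ := [46, 47, 48, 49, 50, 51, 52, 53, 54, 55, 61, 62, 63, 64, 65, 66, 67, 68, 69, 70]

/-- The translating roots of level 1. -/
def betas1 : List ℕ := [36, 37, 38, 39, 40, 41, 42, 43, 44, 45, 56, 57, 58, 59, 60]

/-- The reflections used in level 1. -/
def nodes1 : List ℕ := [0, 2, 3, 4, 5]

/-- The orbit of level 1. -/
def items1 : List LevelItem :=
  [
    ⟨46, 0, 0, []⟩,
    ⟨47, 3, 46, [(39, 46)]⟩,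
    ⟨50, 2, 47, [(42, 47), (43, 46)]⟩,
    ⟨48, 4, 47, [(37, 47), (40, 46)]⟩,
    ⟨61, 0, 50, [(56, 50), (57, 47), (58, 46)]⟩,
    ⟨51, 4, 50, [(37, 50), (42, 48), (44, 46)]⟩,
    ⟨49, 5, 48, [(36, 48), (38, 47), (41, 46)]⟩,
    ⟨62, 4, 61, [(37, 61), (56, 51), (57, 48), (59, 46)]⟩,
    ⟨53, 3, 51, [(39, 51), (40, 50), (43, 48), (44, 47)]⟩,
    ⟨52, 5, 51, [(36, 51), (38, 50), (42, 49), (45, 46)]⟩,
    ⟨64, 3, 62, [(39, 62), (40, 61), (56, 53), (58, 48), (59, 47)]⟩,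
    ⟨63, 5, 62, [(36, 62), (38, 61), (56, 52), (57, 49), (60, 46)]⟩,
    ⟨54, 5, 53, [(36, 53), (39, 52), (41, 50), (43, 49), (45, 47)]⟩,
    ⟨67, 2, 64, [(42, 64), (43, 62), (44, 61), (57, 53), (58, 51), (59, 50)]⟩,
    ⟨65, 5, 64, [(36, 64), (39, 63), (41, 61), (56, 54), (58, 49), (60, 47)]⟩,
    ⟨55, 4, 54, [(37, 54), (38, 53), (40, 52), (41, 51), (44, 49), (45, 48)]⟩,
    ⟨68, 5, 67, [(36, 67), (42, 65), (43, 63), (45, 61), (57, 54), (58, 52), (60, 50)]⟩,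
    ⟨66, 4, 65, [(37, 65), (38, 64), (40, 63), (41, 62), (56, 55), (59, 49), (60, 48)]⟩,
    ⟨69, 4, 68, [(37, 68), (38, 67), (42, 66), (44, 63), (45, 62), (57, 55), (59, 52), (60, 51)]⟩,
    ⟨70, 3, 69, [(39, 69), (40, 68), (41, 67), (43, 66), (44, 65), (45, 64), (58, 55), (59, 54), (60, 53)]⟩]

/-- The Levi factor. -/
def levi : LeviTable where
  roots := [[0, 56, 57, 58, 59, 60], [15, 0, 42, 43, 44, 45], [14, 29, 0, 39, 40, 41], [13, 28, 32, 0, 37, 38], [12, 27, 31, 34, 0, 36], [11, 26, 30, 33, 35, 0]]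
  signs := [[0, 1, -1, 1, -1, 1], [1, 0, 1, -1, 1, -1], [-1, 1, 0, 1, -1, 1], [1, -1, 1, 0, 1, -1], [-1, 1, -1, 1, 0, 1], [1, -1, 1, -1, 1, 0]]

theorem heis_ok : heis.ok chevE6 = true := by decide +kernel

theorem cover_ok : heis.coverOK chevE6 stages = true := by decide +kernel

theorem level1_ok : levelOK chevE6 prev1 rad1 betas1 nodes1 46 3 items1 = true := by decide +kernel

theorem prop_ok : propOK chevE6 1 3 = true := by decide +kernel

theorem levi_ok : leviOK chevE6 (prev1 ++ rad1) 6 levi = true := by decide +kernel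

end H17.HeisDeg.E6
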