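import Cfsg.Agent.H17.HeisDegree.E6Data
import Cfsg.Agent.H17.HeisDegree.DegreeArith
import Cfsg.Agent.H52.OrderE6
import Cfsg.Agent.H52.Simple

/-!
The minimal degree of `E₆(q)`.
-/

set_option autoImplicit false

namespace H17.HeisDeg.E6

open Cfsg.Lie H52 RootAct

/-- The bound. -/
def bound (q : ℕ) : ℕ := q * (q ^ 6 + q ^ 3 + 1) * (q ^ 4 + 1)

/-- `T - 1`. -/
def shortPoly : List ℤ := [-1, 1, 0, 0, 1, 1, 0, 1, 1, 0, 0, 1]

/-- The quotient of the order by `T - 1`. -/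
def quotPoly : List ℤ := [-27, -15, 4, 10, 19, 11, 6, -3, -9, -8, -5, -2, 2, 6, 3, 3, -1, -1, -3, -3, 0, 0, 1, 2, 2, 0, 0, -1, -1, -1, 0, 1]

theorem cert_ok : DegreeArith.certOK 32 1 [2, 5, 6, 8, 9, 12] shortPoly quotPoly (-26) [12, 18, 6, 36, 33, 5, 5, 7, -19] (-27) = true := by
  decide +kernel

theorem small_ok : DegreeArith.smallOK bound 1 36 [2, 5, 6, 8, 9, 12] 32 = true := by decide +kernel

theorem size_eq (q : ℕ) : levelSize items1 q = 1 + q + 2 * q ^ 2 + 3 * q ^ 3 + 3 * q ^ 4 + 3 * q ^ 5 +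
    3 * q ^ 6 + 2 * q ^ 7 + q ^ 8 + q ^ 9 := by
  simp [levelSize, items1]
  ring

theorem not_dvd_order {q : ℕ} (hq : IsPrimePow q) {N : ℕ} (hN : N = 36) :
    ¬ bound q - 1 ∣ DegreeArith.orderProd N [2, 5, 6, 8, 9, 12] q := by
  subst hN
  by_cases hs : q < 32
  · exact DegreeArith.not_dvd_small small_ok hq.two_le hs
  have hq1 : 1 ≤ q := by omega
  have h1 : 1 ≤ bound q := by
    have : 0 < bound q := by unfold bound; positivity
    omega
  refine DegreeArith.not_dvd_large cert_ok hq (not_lt.1 hs) le_rfl (by omega) ?_ ?_ ?_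
  · rw [Nat.cast_sub h1]
    simp [bound, shortPoly, pEval]
    ring
  · rw [Nat.sub_add_cancel h1]
    exact Dvd.intro _ (mul_assoc q _ _).symm
  · rw [Nat.sub_add_cancel h1]
    simp only [List.length_cons, List.length_nil, bound]
    calc q ^ 11 = q * q ^ 6 * q ^ 4 := by ring
      _ ≤ _ := Nat.mul_le_mul (Nat.mul_le_mul_left _ (by omega)) (by omega)

/-- **The minimal degree of `E₆(q)`.** -/
theorem minimal_degree {F : Type*} [Field F] [Fintype F] {k : ℕ}
    (ρ : Representation ℂ ↥(chevE6.group F) (Fin k → ℂ)) (hirr : ρ.IsIrreducible) (hk : 2 ≤ k) :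
    bound (Fintype.card F) ≤ k := by
  haveI : IsSimpleGroup ↥(chevE6.group F) := (group_simple (by simp) (by
    rintro (h | h) <;> exact absurd (congrArg ChevalleyDatum.nroots h) (by decide))).1
  obtain ⟨A, hA, hkA, hle, hsingle⟩ := radical_count checkedE6 heis_ok cover_ok ρ hirr hk
  have hq : IsPrimePow (Fintype.card F) := FiniteField.isPrimePow_card F
  have hq2 : 2 ≤ Fintype.card F := hq.two_le
  obtain ⟨p, hp⟩ : ∃ p, Fintype.card F = p + 1 := ⟨Fintype.card F - 1, by omega⟩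
  rw [hp] at hkA hle hq hq2 ⊢
  have htau : heis.tau.length = 9 := rfl
  rw [htau] at hkA hle
  simp only [Nat.add_sub_cancel] at hkA hle
  rcases Nat.lt_or_ge A 2 with hA2 | hA2
  · obtain rfl : A = 1 := by omega
    obtain ⟨v, δ, hδ, hv⟩ := hsingle rfl
    obtain ⟨w, δ', hδ', hw⟩ := propagate checkedE6 ρ prop_ok hδ hv
    have hpos : ∀ p ∈ prev1 ++ rad1, p < chevE6.nroots ∧ chevE6.nroots / 2 ≤ p ∧ p ≠ chevE6.simple 3 := by
      decide +kernel
    have hb := bottom_bound checkedE6 ρ (l := 4) (by norm_num) levi_ok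
      (i := (2 : Fin 6)) (j := (3 : Fin 6)) (by decide) (r := chevE6.simple 3) (by decide +kernel)
      hpos hδ' hw
    have hl := level_bound checkedE6 ρ level1_ok (by decide +kernel) hδ hv
    simp only [hp, size_eq, Nat.add_sub_cancel] at hl hb
    have hz : fixList checkedE6 ρ prev1 = fixList checkedE6 ρ [heis.z] := rfl
    rw [hz] at hl
    set m := Module.finrank ℂ (fixList checkedE6 ρ [heis.z])
    set X := Module.finrank ℂ (fixList checkedE6 ρ (prev1 ++ rad1))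
    have hX : (p + 1) ^ 5 + (p + 1) ^ 4 + (p + 1) ^ 3 + (p + 1) ^ 2 + (p + 1) ≤ X := by
      refine Nat.le_of_mul_le_mul_left ?_ (show 0 < p by linarith only [hq2])
      refine le_trans (Nat.le_sub_of_add_le (le_of_eq ?_)) hb
      ring
    have hmain : bound (p + 1) ≤ k + 1 := by
      refine le_trans (le_of_eq ?_) (Nat.add_le_add_right (hkA ▸ (Nat.add_le_add_right
        ((Nat.add_le_add_left hX _).trans hl) _)) 1)
      simp only [bound]
      ring
    by_contra hlt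
    have hkeq : k = bound (p + 1) - 1 := by omega
    have hd := degree_dvd_order ρ hirr
    have hdiv : k ∣ DegreeArith.orderProd (chevE6.nroots / 2) [2, 5, 6, 8, 9, 12] (p + 1) := by
      rw [DegreeArith.orderProd]
      have := e6_card (F := F) divisorsE6
      simp only [hp] at this
      exact this ▸ hd.mul_left _
    exact not_dvd_order hq (by decide +kernel) (hkeq ▸ hdiv)
  · have h2 : p * 2 * ((p + 1) ^ 9 + (p + 1) ^ 9 * (p + 1)) ≤ k := by
      refine le_trans (Nat.mul_le_mul_right _ (Nat.mul_le_mul_left p hA2)) ?_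
      rw [hkA, mul_add]
      exact Nat.add_le_add_right hle _
    refine le_trans ?_ h2
    obtain ⟨Q, hQ⟩ : ∃ Q, p + 1 = Q := ⟨_, rfl⟩
    rw [hQ] at hq2 ⊢
    simp only [bound]
    have g1 : 4 * Q ^ 5 ≤ Q ^ 7 :=
      calc 4 * Q ^ 5 = 2 ^ 2 * Q ^ 5 := rfl
        _ ≤ Q ^ 2 * Q ^ 5 := Nat.mul_le_mul_right _ (Nat.pow_le_pow_left hq2 2)
        _ = _ := by ring
    have g2 : Q ^ 4 ≤ Q ^ 5 := Nat.pow_le_pow_right (by omega) (by norm_num)
    have g3 : Q ≤ Q ^ 5 := Nat.le_self_pow (by norm_num) Q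
    have g4 : 2 * Q ^ 7 ≤ Q ^ 8 := by
      rw [pow_succ' Q 7]; exact Nat.mul_le_mul_right _ hq2
    have g5 : 2 * Q ^ 9 + 2 * Q ^ 8 ≤ Q ^ 11 :=
      calc 2 * Q ^ 9 + 2 * Q ^ 8 = Q ^ 8 * (2 * Q + 2) := by ring
        _ ≤ Q ^ 8 * Q ^ 3 := Nat.mul_le_mul_left _ (by nlinarith)
        _ = _ := by ring
    have hid : p * 2 * (Q ^ 9 + Q ^ 9 * Q) + 2 * Q ^ 9 = 2 * Q ^ 11 := by
      rw [← hQ]; ring
    linarith

end H17.HeisDeg.E6
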