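import Cfsg.Agent.H17.HeisDegree.DegreeArith

/-!
The degrees just below the bound of `E₈`.
-/

set_option autoImplicit false
set_option maxRecDepth 4000

namespace H17.HeisDeg.E8

open H52

/-- The bound. -/
def bound (q : ℕ) : ℕ := q * (q ^ 12 + 1) * (q ^ 10 + 1) * (q ^ 6 + 1)

/-- `T - 1`. -/
def shortPoly1 : List ℤ := [-1, 1, 0, 0, 0, 0, 0, 1, 0, 0, 0, 1, 0, 1, 0, 0, 0, 1, 0, 1, 0, 0, 0, 1, 0, 0, 0, 0, 0, 1]

/-- The quotient of the order by `T - 1`. -/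
def quotPoly1 : List ℤ := [-4, 11, -15, -8, -7, 28, -7, 2, 3, 22, 9, -7, 10, 8, 11, -13, 3, 1, 1, -10, -7, 2, -5, -6, -9, 7, -5, -2, -3, 4, 4, -2, 3, 2, 8, -2, 3, 1, 4, -1, -3, 3, -1, -1, -5, 0, -1, 0, -3, -2, 1, 0, -1, 0, 3, -1, 1, 2, 2, 0, -1, 1, 1, 1, -2, 0, 0, 0, -1, -1, 1, -2, 0, 0, 0, -1, 0, 0, 0, 1, 0, 0, 0, 1, 0, 1, 0, 0, 0, 0, 0, 0, 0, -1, 0, 0, 0, -1, 0, 1]

theorem cert1_ok : DegreeArith.certOK 2320 1 [2, 8, 12, 14, 18, 20, 24, 30] shortPoly1 quotPoly1 (-3) [15, -27, 7, 1, 35, -35, 13, -11, 34, -4, -5, -23, 24, -2, -5, -25, 7, -35, 2, -31, 8, -28, -5, -48, 13, -10, -9] (-35) = true := by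
  decide +kernel

/-- `T - 2`. -/
def shortPoly2 : List ℤ := [-2, 1, 0, 0, 0, 0, 0, 1, 0, 0, 0, 1, 0, 1, 0, 0, 0, 1, 0, 1, 0, 0, 0, 1, 0, 0, 0, 0, 0, 1]

/-- The quotient of the order by `T - 2`. -/
def quotPoly2 : List ℤ := [92, 94, -96, -64, 8, 230, -76, 16, 12, 176, 24, -56, 52, 58, 44, -110, 12, 8, 4, -86, -28, 16, -20, -42, -36, 56, -20, -4, -12, 38, 16, -16, 12, 16, 32, -22, 12, 2, 16, -8, -12, 12, -4, -2, -20, 0, -4, 0, -12, -4, 4, 0, -4, 0, 12, -2, 4, 4, 8, 0, -4, 2, 4, 2, -8, 0, 0, 0, -4, -2, 4, -4, 0, 0, 0, -2, 0, 0, 0, 2, 0, 0, 0, 2, 0, 2, 0, 0, 0, 0, 0, 0, 0, -2, 0, 0, 0, -2, 0, 2]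

theorem cert2_ok : DegreeArith.certOK 2320 2 [2, 8, 12, 14, 18, 20, 24, 30] shortPoly2 quotPoly2 (186) [96, -288, -32, 80, 452, -382, 16, -88, 436, -62, -236, -166, 144, -16, -188, -206, -44, -286, -160, -248, 68, -230, -176, -384, 208, -80, -60] (-286) = true := by
  decide +kernel

/-- `T - 3`. -/
def shortPoly3 : List ℤ := [-3, 1, 0, 0, 0, 0, 0, 1, 0, 0, 0, 1, 0, 1, 0, 0, 0, 1, 0, 1, 0, 0, 0, 1, 0, 0, 0, 0, 0, 1]

/-- The quotient of the order by `T - 3`. -/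
def quotPoly3 : List ℤ := [612, 321, -351, -216, 153, 780, -351, 54, 27, 594, 9, -189, 162, 192, 99, -375, 27, 27, 9, -294, -63, 54, -45, -138, -81, 189, -45, -6, -27, 132, 36, -54, 27, 54, 72, -78, 27, 3, 36, -27, -27, 33, -9, -3, -45, 0, -9, 0, -27, -6, 9, 0, -9, 0, 27, -3, 9, 6, 18, 0, -9, 3, 9, 3, -18, 0, 0, 0, -9, -3, 9, -6, 0, 0, 0, -3, 0, 0, 0, 3, 0, 0, 0, 3, 0, 3, 0, 0, 0, 0, 0, 0, 0, -3, 0, 0, 0, -3, 0, 3]

theorem cert3_ok : DegreeArith.certOK 2320 3 [2, 8, 12, 14, 18, 20, 24, 30] shortPoly3 quotPoly3 (1839) [351, -1377, -297, 675, 2187, -1833, -99, -297, 2106, -348, -1341, -429, 504, -54, -1053, -699, -369, -969, -990, -837, 288, -780, -981, -1296, 1053, -270, -225] (-969) = true := by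
  decide +kernel

/-- `T - 4`. -/
def shortPoly4 : List ℤ := [-4, 1, 0, 0, 0, 0, 0, 1, 0, 0, 0, 1, 0, 1, 0, 0, 0, 1, 0, 1, 0, 0, 0, 1, 0, 0, 0, 0, 0, 1]

/-- The quotient of the order by `T - 4`. -/
def quotPoly4 : List ℤ := [2096, 764, -960, -512, 608, 1852, -1072, 128, 48, 1408, -96, -448, 400, 452, 176, -892, 48, 64, 16, -700, -112, 128, -80, -324, -144, 448, -80, -8, -48, 316, 64, -128, 48, 128, 128, -188, 48, 4, 64, -64, -48, 72, -16, -4, -80, 0, -16, 0, -48, -8, 16, 0, -16, 0, 48, -4, 16, 8, 32, 0, -16, 4, 16, 4, -32, 0, 0, 0, -16, -4, 16, -8, 0, 0, 0, -4, 0, 0, 0, 4, 0, 0, 0, 4, 0, 4, 0, 0, 0, 0, 0, 0, 0, -4, 0, 0, 0, -4, 0, 4]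

theorem cert4_ok : DegreeArith.certOK 2320 4 [2, 8, 12, 14, 18, 20, 24, 30] shortPoly4 quotPoly4 (8388) [960, -4608, -1088, 2944, 6800, -6140, -512, -704, 6544, -1276, -4400, -572, 1344, -128, -3440, -1660, -1328, -2300, -3328, -1984, 848, -1852, -3200, -3072, 3328, -640, -624] (-2300) = true := by
  decide +kernel

theorem small1_ok : DegreeArith.smallOK bound 1 120 [2, 8, 12, 14, 18, 20, 24, 30] 2320 = true := by
  decide +kernel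

theorem small2_ok : DegreeArith.smallOK bound 2 120 [2, 8, 12, 14, 18, 20, 24, 30] 2320 = true := by
  decide +kernel

theorem small3_ok : DegreeArith.smallOK bound 3 120 [2, 8, 12, 14, 18, 20, 24, 30] 2320 = true := by
  decide +kernel

theorem small4_ok : DegreeArith.smallOK bound 4 120 [2, 8, 12, 14, 18, 20, 24, 30] 2320 = true := by
  decide +kernel

end H17.HeisDeg.E8
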