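import Cfsg.Agent.H17.HeisDegree.E8Data

/-!
Level 1 of the degree bound of `E₈`. The level files are chained so that the kernel evaluations
do not run at the same time.
-/

set_option autoImplicit false
set_option maxRecDepth 4000

namespace H17.HeisDeg.E8

open Cfsg.Lie H52 RootAct

theorem level1_ok : levelOK chevE8 prev1 rad1 betas1 nodes1 (chevE8.simple 7) 6 items1 = true := by decide +kernel

end H17.HeisDeg.E8
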