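import Cfsg.Agent.H17.HeisDegree.E8Level1

/-!
Level 2 of the degree bound of `E₈`. The level files are chained so that the kernel evaluations
do not run at the same time.
-/

set_option autoImplicit false
set_option maxRecDepth 4000

namespace H17.HeisDeg.E8

open Cfsg.Lie H52 RootAct

theorem level2_ok : levelOK chevE8 prev2 rad2 betas2 nodes2 (chevE8.simple 6) 5 items2 = true := by decide +kernel

end H17.HeisDeg.E8
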