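import Cfsg.Agent.H17.HeisDegree.E8Level4
import Cfsg.Agent.H17.HeisDegree.E8Arith
import Cfsg.Agent.H52.OrderE8
import Cfsg.Agent.H52.Simple

/-!
The minimal degree of `E₈(q)`.
-/

set_option autoImplicit false

namespace H17.HeisDeg.E8

open Cfsg.Lie H52 RootAct

theorem size1_eq (q : ℕ) : levelSize items1 q = 1 + q + q ^ 2 + q ^ 3 + q ^ 4 + 2 * q ^ 5 + 2 * q ^ 6 + 2 * q ^ 7 + 2 * q ^ 8 + 3 * q ^ 9 + 3 * q ^ 10 + 3 * q ^ 11 + 3 * q ^ 12 + 3 * q ^ 13 + 3 * q ^ 14 + 3 * q ^ 15 + 3 * q ^ 16 + 3 * q ^ 17 + 3 * q ^ 18 + 2 * q ^ 19 + 2 * q ^ 20 + 2 * q ^ 21 + 2 * q ^ 22 + q ^ 23 + q ^ 24 + q ^ 25 + q ^ 26 + q ^ 27 := by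
  rw [show levelSize items1 q = ((items1.map fun it => it.phi.length).map (q ^ ·)).sum by
      rw [List.map_map]; rfl,
    show (items1.map fun it => it.phi.length) = [0, 1, 2, 3, 4, 5, 5, 6, 6, 7, 7, 8, 8, 9, 9, 9, 10, 10, 10, 11, 11, 11, 12, 12, 12, 13, 13, 13, 14, 14, 14, 15, 15, 15, 16, 16, 16, 17, 17, 17, 18, 18, 18, 19, 19, 20, 20, 21, 21, 22, 22, 23, 24, 25, 26, 27] from rfl]
  simp only [List.map_cons, List.map_nil, List.sum_cons, List.sum_nil, pow_zero, pow_one]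
  ring

theorem size2_eq (q : ℕ) : levelSize items2 q = 1 + q + q ^ 2 + q ^ 3 + 2 * q ^ 4 + 2 * q ^ 5 + 2 * q ^ 6 + 2 * q ^ 7 + 3 * q ^ 8 + 2 * q ^ 9 + 2 * q ^ 10 + 2 * q ^ 11 + 2 * q ^ 12 + q ^ 13 + q ^ 14 + q ^ 15 + q ^ 16 := by
  rw [show levelSize items2 q = ((items2.map fun it => it.phi.length).map (q ^ ·)).sum by
      rw [List.map_map]; rfl,
    show (items2.map fun it => it.phi.length) = [0, 1, 2, 3, 4, 4, 5, 5, 6, 6, 7, 7, 8, 8, 8, 9, 9, 10, 10, 11, 11, 12, 12, 13, 14, 15, 16] from rfl]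
  simp only [List.map_cons, List.map_nil, List.sum_cons, List.sum_nil, pow_zero, pow_one]
  ring

theorem size3_eq (q : ℕ) : levelSize items3 q = 1 + q + q ^ 2 + 2 * q ^ 3 + 2 * q ^ 4 + 2 * q ^ 5 + 2 * q ^ 6 + 2 * q ^ 7 + q ^ 8 + q ^ 9 + q ^ 10 := by
  rw [show levelSize items3 q = ((items3.map fun it => it.phi.length).map (q ^ ·)).sum by
      rw [List.map_map]; rfl,
    show (items3.map fun it => it.phi.length) = [0, 1, 2, 3, 3, 4, 4, 5, 5, 6, 6, 7, 7, 8, 9, 10] from rfl]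
  simp only [List.map_cons, List.map_nil, List.sum_cons, List.sum_nil, pow_zero, pow_one]
  ring

theorem size4_eq (q : ℕ) : levelSize items4 q = 1 + q + 2 * q ^ 2 + 2 * q ^ 3 + 2 * q ^ 4 + q ^ 5 + q ^ 6 := by
  rw [show levelSize items4 q = ((items4.map fun it => it.phi.length).map (q ^ ·)).sum by
      rw [List.map_map]; rfl,
    show (items4.map fun it => it.phi.length) = [0, 1, 2, 2, 3, 3, 4, 4, 5, 6] from rfl]
  simp only [List.map_cons, List.map_nil, List.sum_cons, List.sum_nil, pow_zero, pow_one]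
  ring

theorem bound_facts {q j : ℕ} (hq : 2320 ≤ q) (hj : j ≤ 4) :
    j ≤ bound q ∧ q ∣ bound q ∧ q ^ 29 ≤ bound q := by
  have h29 : q ^ 29 ≤ bound q := by
    calc q ^ 29 = q * q ^ 12 * q ^ 10 * q ^ 6 := by ring
      _ ≤ _ := Nat.mul_le_mul (Nat.mul_le_mul (Nat.mul_le_mul_left _ (Nat.le_succ _)) (Nat.le_succ _))
        (Nat.le_succ _)
  refine ⟨le_trans (by omega) ((Nat.le_self_pow (by norm_num) q).trans h29), ?_, h29⟩
  exact ((dvd_mul_right q _).mul_right _).mul_right _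

theorem not_dvd1 {q : ℕ} (hq : IsPrimePow q) :
    ¬ bound q - 1 ∣ DegreeArith.orderProd 120 [2, 8, 12, 14, 18, 20, 24, 30] q := by
  by_cases hs : q < 2320
  · exact DegreeArith.not_dvd_small small1_ok hq.two_le hs
  obtain ⟨h1, h2, h3⟩ := bound_facts (not_lt.1 hs) (show 1 ≤ 4 by norm_num)
  refine DegreeArith.not_dvd_large cert1_ok hq (not_lt.1 hs) (by norm_num) (by omega) ?_ ?_ ?_
  · rw [Nat.cast_sub h1]
    simp [bound, shortPoly1, pEval]
    ring
  · rw [Nat.sub_add_cancel h1]; exact h2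
  · rw [Nat.sub_add_cancel h1]; exact h3

theorem not_dvd2 {q : ℕ} (hq : IsPrimePow q) :
    ¬ bound q - 2 ∣ DegreeArith.orderProd 120 [2, 8, 12, 14, 18, 20, 24, 30] q := by
  by_cases hs : q < 2320
  · exact DegreeArith.not_dvd_small small2_ok hq.two_le hs
  obtain ⟨h1, h2, h3⟩ := bound_facts (not_lt.1 hs) (show 2 ≤ 4 by norm_num)
  refine DegreeArith.not_dvd_large cert2_ok hq (not_lt.1 hs) (by norm_num) (by omega) ?_ ?_ ?_
  · rw [Nat.cast_sub h1]
    simp [bound, shortPoly2, pEval]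
    ring
  · rw [Nat.sub_add_cancel h1]; exact h2
  · rw [Nat.sub_add_cancel h1]; exact h3

theorem not_dvd3 {q : ℕ} (hq : IsPrimePow q) :
    ¬ bound q - 3 ∣ DegreeArith.orderProd 120 [2, 8, 12, 14, 18, 20, 24, 30] q := by
  by_cases hs : q < 2320
  · exact DegreeArith.not_dvd_small small3_ok hq.two_le hs
  obtain ⟨h1, h2, h3⟩ := bound_facts (not_lt.1 hs) (show 3 ≤ 4 by norm_num)
  refine DegreeArith.not_dvd_large cert3_ok hq (not_lt.1 hs) (by norm_num) (by omega) ?_ ?_ ?_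
  · rw [Nat.cast_sub h1]
    simp [bound, shortPoly3, pEval]
    ring
  · rw [Nat.sub_add_cancel h1]; exact h2
  · rw [Nat.sub_add_cancel h1]; exact h3

theorem not_dvd4 {q : ℕ} (hq : IsPrimePow q) :
    ¬ bound q - 4 ∣ DegreeArith.orderProd 120 [2, 8, 12, 14, 18, 20, 24, 30] q := by
  by_cases hs : q < 2320
  · exact DegreeArith.not_dvd_small small4_ok hq.two_le hs
  obtain ⟨h1, h2, h3⟩ := bound_facts (not_lt.1 hs) (show 4 ≤ 4 by norm_num)
  refine DegreeArith.not_dvd_large cert4_ok hq (not_lt.1 hs) (by norm_num) (by omega) ?_ ?_ ?_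
  · rw [Nat.cast_sub h1]
    simp [bound, shortPoly4, pEval]
    ring
  · rw [Nat.sub_add_cancel h1]; exact h2
  · rw [Nat.sub_add_cancel h1]; exact h3

/-- **The minimal degree of `E₈(q)`.** -/
theorem minimal_degree {F : Type*} [Field F] [Fintype F] {k : ℕ}
    (ρ : Representation ℂ ↥(chevE8.group F) (Fin k → ℂ)) (hirr : ρ.IsIrreducible) (hk : 2 ≤ k) :
    bound (Fintype.card F) ≤ k := by
  haveI : IsSimpleGroup ↥(chevE8.group F) := (group_simple (by simp) (by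
    rintro (h | h) <;> exact absurd (congrArg ChevalleyDatum.nroots h) (by decide))).1
  obtain ⟨A, hA, hkA, hle, hsingle⟩ := radical_count checkedE8 heis_ok cover_ok ρ hirr hk
  have hq : IsPrimePow (Fintype.card F) := FiniteField.isPrimePow_card F
  have hq2 : 2 ≤ Fintype.card F := hq.two_le
  obtain ⟨p, hp⟩ : ∃ p, Fintype.card F = p + 1 := ⟨Fintype.card F - 1, by omega⟩
  rw [hp] at hkA hle hq hq2 ⊢
  have htau : heis.tau.length = 27 := rfl
  rw [htau] at hkA hle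
  simp only [Nat.add_sub_cancel] at hkA hle
  rcases Nat.lt_or_ge A 2 with hA2 | hA2
  · obtain rfl : A = 1 := by omega
    obtain ⟨v, δ, hδ, hv⟩ := hsingle rfl
    change Single checkedE8 ρ v (chevE8.simple 7) δ at hv
    obtain ⟨v6, δ6, d6, h6⟩ := propagate checkedE8 ρ prop76_ok hδ hv
    obtain ⟨v5, δ5, d5, h5⟩ := propagate checkedE8 ρ prop65_ok d6 h6
    obtain ⟨v4, δ4, d4, h4⟩ := propagate checkedE8 ρ prop54_ok d5 h5
    obtain ⟨v3, δ3, d3, h3⟩ := propagate checkedE8 ρ prop43_ok d4 h4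
    obtain ⟨v2, δ2, d2, h2⟩ := propagate checkedE8 ρ prop32_ok d3 h3
    obtain ⟨v0, δ0, d0, h0⟩ := propagate checkedE8 ρ prop20_ok d2 h2
    obtain ⟨v1, δ1, d1, h1⟩ := propagate checkedE8 ρ prop31_ok d3 h3
    have hpos : ∀ p ∈ prev4 ++ rad4,
        p < chevE8.nroots ∧ chevE8.nroots / 2 ≤ p ∧ p ≠ chevE8.simple 2 := by decide +kernel
    have hb := bottom_bound checkedE8 ρ (l := 3) le_rfl levi_ok
      (i := (0 : Fin 5)) (j := (1 : Fin 5)) (by decide) (r := chevE8.simple 2) (by decide +kernel)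
      hpos d2 h2
    have l1 := level_bound checkedE8 ρ level1_ok (by decide +kernel) hδ hv
    have l2 := level_bound checkedE8 ρ level2_ok (by decide +kernel) d6 h6
    have l3 := level_bound checkedE8 ρ level3_ok (by decide +kernel) d0 h0
    have l4 := level_bound checkedE8 ρ level4_ok (by decide +kernel) d1 h1
    rw [show prev1 ++ rad1 = prev2 by decide +kernel] at l1
    rw [show prev2 ++ rad2 = prev3 by decide +kernel] at l2
    rw [show prev3 ++ rad3 = prev4 by decide +kernel] at l3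
    rw [show prev1 = [heis.z] from rfl] at l1
    simp only [hp, size1_eq, size2_eq, size3_eq, size4_eq, Nat.add_sub_cancel] at l1 l2 l3 l4 hb
    set X := Module.finrank ℂ (fixList checkedE8 ρ (prev4 ++ rad4))
    have hX : (p + 1) ^ 4 + (p + 1) ^ 3 + (p + 1) ^ 2 + (p + 1) ≤ X := by
      refine Nat.le_of_mul_le_mul_left ?_ (show 0 < p by linarith only [hq2])
      refine le_trans (Nat.le_sub_of_add_le (le_of_eq ?_)) hb
      ring
    have hmain : bound (p + 1) ≤ k + 4 := by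
      refine le_trans (le_of_eq ?_) (Nat.add_le_add_right ((Nat.add_le_add_right
        ((Nat.add_le_add_left ((Nat.add_le_add_left ((Nat.add_le_add_left ((Nat.add_le_add_left hX
          _).trans l4) _).trans l3) _).trans l2) _).trans l1) _).trans (le_of_eq hkA.symm)) 4)
      simp only [bound]
      ring
    by_contra hlt
    have hd := degree_dvd_order ρ hirr
    have hdiv : k ∣ DegreeArith.orderProd 120 [2, 8, 12, 14, 18, 20, 24, 30] (p + 1) := by
      have := e8_card (F := F) divisorsE8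
      simp only [hp, show chevE8.nroots / 2 = 120 by decide +kernel] at this
      rw [DegreeArith.orderProd]
      exact this ▸ hd.mul_left _
    have n1 := not_dvd1 hq
    have n2 := not_dvd2 hq
    have n3 := not_dvd3 hq
    have n4 := not_dvd4 hq
    rcases (by omega : k = bound (p + 1) - 1 ∨ k = bound (p + 1) - 2 ∨ k = bound (p + 1) - 3 ∨
        k = bound (p + 1) - 4) with e | e | e | e
    · exact n1 (e ▸ hdiv)
    · exact n2 (e ▸ hdiv)
    · exact n3 (e ▸ hdiv)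
    · exact n4 (e ▸ hdiv)
  · have h2 : p * 2 * ((p + 1) ^ 27 + (p + 1) ^ 27 * (p + 1)) ≤ k := by
      refine le_trans (Nat.mul_le_mul_right _ (Nat.mul_le_mul_left p hA2)) ?_
      rw [hkA, mul_add]
      exact Nat.add_le_add_right hle _
    refine le_trans ?_ h2
    obtain ⟨Q, hQ⟩ : ∃ Q, p + 1 = Q := ⟨_, rfl⟩
    rw [hQ] at hq2 ⊢
    have g0 : bound Q ≤ Q ^ 29 + 7 * Q ^ 23 := by
      have hm : ∀ i, i ≤ 23 → Q ^ i ≤ Q ^ 23 := fun i hi => Nat.pow_le_pow_right (by omega) hi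
      have e : bound Q = Q ^ 29 + Q ^ 23 + Q ^ 19 + Q ^ 17 + Q ^ 13 + Q ^ 11 + Q ^ 7 + Q ^ 1 := by
        simp only [bound]; ring
      rw [e]
      linarith [hm 19 (by norm_num), hm 17 (by norm_num), hm 13 (by norm_num), hm 11 (by norm_num),
        hm 7 (by norm_num), hm 1 (by norm_num)]
    have g5 : 2 * Q ^ 27 + 7 * Q ^ 23 ≤ Q ^ 29 := by
      have a1 : 4 ≤ Q ^ 2 := Nat.pow_le_pow_left hq2 2
      have a2 : 16 ≤ Q ^ 4 := Nat.pow_le_pow_left hq2 4
      calc 2 * Q ^ 27 + 7 * Q ^ 23 = Q ^ 23 * (2 * Q ^ 4 + 7) := by ring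
        _ ≤ Q ^ 23 * (Q ^ 2 * Q ^ 4) := Nat.mul_le_mul_left _
          (by linarith [Nat.mul_le_mul_right (Q ^ 4) a1])
        _ = _ := by ring
    have hid : p * 2 * (Q ^ 27 + Q ^ 27 * Q) + 2 * Q ^ 27 = 2 * Q ^ 29 := by
      rw [← hQ]; ring
    linarith

end H17.HeisDeg.E8
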