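import Mathlib

/-!
Eigenspaces of a finite abelian group mapped into a group with a complex representation:
dimensions, restriction to a subgroup, transfer along conjugation.
-/

set_option autoImplicit false

namespace H17.HeisDeg

open scoped BigOperators

variable {G : Type*} [Group G] {V : Type*} [AddCommGroup V] [Module ℂ V]
  {A : Type*} [AddCommGroup A]

/-- The joint eigenspace of the elements `u a` for the additive character `χ`. -/
def eig (ρ : Representation ℂ G V) (u : A → G) (χ : AddChar A ℂ) : Submodule ℂ V :=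
  ⨅ a, LinearMap.ker (ρ (u a) - χ a • LinearMap.id)

variable {ρ : Representation ℂ G V} {u : A → G}

theorem mem_eig {χ : AddChar A ℂ} {v : V} : v ∈ eig ρ u χ ↔ ∀ a, ρ (u a) v = χ a • v := by
  simp [eig, Submodule.mem_iInf, sub_eq_zero]

/-- The dimension of a joint eigenspace. -/
noncomputable def mult (ρ : Representation ℂ G V) (u : A → G) (χ : AddChar A ℂ) : ℕ :=
  Module.finrank ℂ (eig ρ u χ)

theorem map_zero_eq (hu : ∀ a b, u (a + b) = u a * u b) : u 0 = 1 := by
  have h := hu 0 0
  rw [add_zero] at h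
  exact mul_eq_left.1 h.symm

/-- The representation of `A` twisted by `χ`, whose invariants form the eigenspace. -/
noncomputable def twRep (ρ : Representation ℂ G V) (hu : ∀ a b, u (a + b) = u a * u b)
    (χ : AddChar A ℂ) : Representation ℂ (Multiplicative A) V where
  toFun a := χ (-a.toAdd) • ρ (u a.toAdd)
  map_one' := by simp [map_zero_eq hu]
  map_mul' a b := by
    simp only [toAdd_mul, hu, map_mul, neg_add, AddChar.map_add_eq_mul]
    rw [smul_mul_smul_comm]

theorem invariants_twRep (hu : ∀ a b, u (a + b) = u a * u b) (χ : AddChar A ℂ) :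
    (twRep ρ hu χ).invariants = eig ρ u χ := by
  have hc : ∀ a, χ a * χ (-a) = 1 := fun a => by
    rw [← AddChar.map_add_eq_mul, add_neg_cancel, AddChar.map_zero_eq_one]
  ext v
  rw [Representation.mem_invariants, mem_eig]
  constructor
  · intro h a
    have := congrArg (fun w => χ a • w) (h (Multiplicative.ofAdd a))
    simpa [twRep, smul_smul, hc] using this
  · intro h a
    show χ (-a.toAdd) • ρ (u a.toAdd) v = v
    rw [h, smul_smul, mul_comm, hc, one_smul]

variable [FiniteDimensional ℂ V]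

theorem mult_eq [Fintype A] (hu : ∀ a b, u (a + b) = u a * u b) (χ : AddChar A ℂ) :
    (mult ρ u χ : ℂ) = (Fintype.card A : ℂ)⁻¹ * ∑ a, χ (-a) * LinearMap.trace ℂ V (ρ (u a)) := by
  have hne : (Fintype.card (Multiplicative A) : ℂ) ≠ 0 := Nat.cast_ne_zero.2 Fintype.card_ne_zero
  letI : Invertible (Fintype.card (Multiplicative A) : ℂ) := invertibleOfNonzero hne
  have h := (Representation.isProj_averageMap (twRep ρ hu χ)).trace
  rw [invariants_twRep hu] at h
  rw [mult, ← h, Representation.averageMap, GroupAlgebra.average]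
  simp only [map_smul, map_sum, Representation.asAlgebraHom_of, invOf_eq_inv, smul_eq_mul,
    Fintype.card_multiplicative]
  refine congrArg _ (Fintype.sum_equiv Multiplicative.toAdd _ _ fun a => ?_)
  simp [twRep]

/-- Eigenspaces for a subgroup: sum of those of the characters above. -/
theorem mult_comp [Fintype A] {B : Type*} [AddCommGroup B] [Fintype B]
    (hu : ∀ a b, u (a + b) = u a * u b) (j : B →+ A) (χ₀ : AddChar B ℂ)
    [DecidablePred fun χ : AddChar A ℂ => χ.compAddMonoidHom j = χ₀] :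
    mult ρ (fun b => u (j b)) χ₀ =
      ∑ χ ∈ Finset.univ.filter (fun χ : AddChar A ℂ => χ.compAddMonoidHom j = χ₀), mult ρ u χ := by
  classical
  have hv : ∀ a b : B, u (j (a + b)) = u (j a) * u (j b) := fun a b => by rw [map_add, hu]
  suffices h : (mult ρ (fun b => u (j b)) χ₀ : ℂ) =
      ∑ χ ∈ Finset.univ.filter (fun χ : AddChar A ℂ => χ.compAddMonoidHom j = χ₀), (mult ρ u χ : ℂ) by
    exact_mod_cast h
  have hB : (Fintype.card B : ℂ) ≠ 0 := Nat.cast_ne_zero.2 Fintype.card_ne_zero
  have hA : (Fintype.card A : ℂ) ≠ 0 := Nat.cast_ne_zero.2 Fintype.card_ne_zero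
  set T : A → ℂ := fun a => LinearMap.trace ℂ V (ρ (u a))
  have ind : ∀ χ : AddChar A ℂ, (if χ.compAddMonoidHom j = χ₀ then (1 : ℂ) else 0) =
      (Fintype.card B : ℂ)⁻¹ * ∑ b, χ (j b) * χ₀ (-b) := by
    intro χ
    have := AddChar.sum_eq_ite (χ.compAddMonoidHom j * χ₀⁻¹)
    simp only [AddChar.mul_apply, AddChar.inv_apply, AddChar.compAddMonoidHom_apply] at this
    rw [this]
    have heq : (χ.compAddMonoidHom j * χ₀⁻¹ = 0) ↔ (χ.compAddMonoidHom j = χ₀) := by
      rw [show (0 : AddChar B ℂ) = 1 from rfl]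
      exact mul_inv_eq_one
    split_ifs with h1 h2 h2 <;> first | (simp [hB]; done) | exact absurd (heq.2 h1) h2 | exact absurd (heq.1 h2) h1
  rw [Finset.sum_filter]
  calc (mult ρ (fun b => u (j b)) χ₀ : ℂ)
      = (Fintype.card B : ℂ)⁻¹ * ∑ b, χ₀ (-b) * T (j b) := mult_eq hv χ₀
    _ = (Fintype.card B : ℂ)⁻¹ * ∑ b, χ₀ (-b) *
          ((Fintype.card A : ℂ)⁻¹ * ∑ a, T a * ∑ χ : AddChar A ℂ, χ (j b - a)) := by
        refine congrArg _ (Finset.sum_congr rfl fun b _ => congrArg _ ?_)
        rw [Finset.sum_eq_single (j b)]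
        · rw [sub_self, AddChar.sum_apply_eq_ite, if_pos rfl, mul_comm (T _), ← mul_assoc,
            inv_mul_cancel₀ hA, one_mul]
        · intro a _ ha
          rw [AddChar.sum_apply_eq_ite, if_neg (sub_ne_zero.2 (Ne.symm ha)), mul_zero]
        · simp
    _ = ∑ χ : AddChar A ℂ, ((Fintype.card B : ℂ)⁻¹ * ∑ b, χ (j b) * χ₀ (-b)) * (mult ρ u χ : ℂ) := by
        simp only [mult_eq hu, Finset.mul_sum, Finset.sum_mul, T]
        rw [Finset.sum_comm]
        conv_lhs => enter [2, a]; rw [Finset.sum_comm]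
        rw [Finset.sum_comm]
        refine Finset.sum_congr rfl fun χ _ => Finset.sum_congr rfl fun a _ =>
          Finset.sum_congr rfl fun b _ => ?_
        rw [sub_eq_add_neg, AddChar.map_add_eq_mul]
        ring
    _ = _ := Finset.sum_congr rfl fun χ _ => by
        rw [← ind]
        split_ifs <;> simp

/-- The eigenspaces exhaust the space. -/
theorem sum_mult [Fintype A] (hu : ∀ a b, u (a + b) = u a * u b) :
    ∑ χ : AddChar A ℂ, mult ρ u χ = Module.finrank ℂ V := by
  classical
  suffices h : ∑ χ : AddChar A ℂ, (mult ρ u χ : ℂ) = (Module.finrank ℂ V : ℂ) by exact_mod_cast h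
  simp only [mult_eq hu, ← Finset.mul_sum]
  rw [Finset.sum_comm]
  simp only [← Finset.sum_mul, AddChar.sum_apply_eq_ite, neg_eq_zero, ite_mul, zero_mul,
    Finset.sum_ite_eq', Finset.mem_univ, if_true]
  rw [map_zero_eq hu, map_one, LinearMap.trace_one, ← mul_assoc,
    inv_mul_cancel₀ (Nat.cast_ne_zero.2 Fintype.card_ne_zero), one_mul]

omit [FiniteDimensional ℂ V] in
/-- Conjugation moves eigenspaces. -/
theorem eig_map {B : Type*} [AddCommGroup B] {w : B → G} {χ : AddChar A ℂ} {χ' : AddChar B ℂ}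
    (g : G) (h : ∀ v ∈ eig ρ u χ, ∀ b, ρ (g⁻¹ * w b * g) v = χ' b • v) :
    (eig ρ u χ).map (ρ g) ≤ eig ρ w χ' := by
  rintro _ ⟨v, hv, rfl⟩
  rw [mem_eig]
  intro b
  rw [← map_smul, ← h v hv b, ← Module.End.mul_apply, ← Module.End.mul_apply, ← map_mul, ← map_mul]
  congr 2
  group

omit [FiniteDimensional ℂ V] in
theorem rho_injective (g : G) : Function.Injective (ρ g) :=
  Function.LeftInverse.injective (g := ρ g⁻¹) fun v => by
    rw [← Module.End.mul_apply, ← map_mul, inv_mul_cancel, map_one, Module.End.one_apply]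

theorem mult_le_of_conj {B : Type*} [AddCommGroup B] {w : B → G} {χ : AddChar A ℂ}
    {χ' : AddChar B ℂ} (g : G)
    (h : ∀ v ∈ eig ρ u χ, ∀ b, ρ (g⁻¹ * w b * g) v = χ' b • v) :
    mult ρ u χ ≤ mult ρ w χ' := by
  unfold mult
  rw [LinearEquiv.finrank_eq
    (Submodule.equivMapOfInjective (ρ g) (rho_injective g) (eig ρ u χ))]
  exact Submodule.finrank_mono (eig_map g h)

omit [FiniteDimensional ℂ V] in
/-- Eigenvectors of distinct characters are independent. -/
theorem linearIndependent_eig [Finite A] {ι : Type*} (c : ι → AddChar A ℂ)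
    (hc : Function.Injective c) {v : ι → V} (hv : ∀ i, v i ∈ eig ρ u (c i)) (h0 : ∀ i, v i ≠ 0) :
    LinearIndependent ℂ v := by
  classical
  haveI := Fintype.ofFinite A
  rw [linearIndependent_iff']
  intro s g hg i hi
  let L : V →ₗ[ℂ] V := ∑ a : A, c i (-a) • ρ (u a)
  have hL : ∀ j, L (v j) = if j = i then (Fintype.card A : ℂ) • v j else 0 := by
    intro j
    simp only [L, LinearMap.coe_sum, Finset.sum_apply, LinearMap.smul_apply,
      mem_eig.1 (hv j), smul_smul, ← Finset.sum_smul]
    have := AddChar.sum_eq_ite ((c j) * (c i)⁻¹)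
    simp only [AddChar.mul_apply, AddChar.inv_apply] at this
    rw [show ∑ a, c i (-a) * c j a = ∑ a, c j a * c i (-a) from
      Finset.sum_congr rfl fun a _ => mul_comm _ _, this]
    have heq : (c j * (c i)⁻¹ = 0) ↔ j = i := by
      rw [show (0 : AddChar A ℂ) = 1 from rfl]
      exact mul_inv_eq_one.trans hc.eq_iff
    by_cases hj : j = i
    · rw [if_pos (heq.2 hj), if_pos hj]
    · rw [if_neg fun h => hj (heq.1 h), if_neg hj, zero_smul]
  have hsum := congrArg L hg
  simp only [map_sum, map_smul, hL, map_zero, smul_ite, smul_zero, Finset.sum_ite_eq', hi,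
    if_true, smul_smul] at hsum
  rcases smul_eq_zero.1 hsum with h | h
  · exact (mul_eq_zero.1 h).resolve_right (Nat.cast_ne_zero.2 Fintype.card_ne_zero)
  · exact absurd h (h0 i)

end H17.HeisDeg
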