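import Cfsg.Prelude.Def_ChevStructure

/-!
Chain rows packed into numbers, for cheap evaluation in the kernel.
-/

set_option autoImplicit false

namespace H17.HeisDeg.FastTable

open Cfsg.Lie

/-- The code of a chain entry: `4k+1` for `[(k, 1)]`, `4k+2` for `[(k, -1)]`, else `3`. -/
def code : List (ℕ × ℤ) → ℕ
  | [(k, c)] => if k < 255 then (if c = 1 then 4 * k + 1 else if c = -1 then 4 * k + 2 else 3) else 3
  | _ => 3

/-- The ten bits at a position. -/
def slot (x b : ℕ) : ℕ := (x >>> (10 * b)) % 1024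

/-- A row packed into a number. -/
def pack : List (ℕ × Array (ℕ × ℤ)) → ℕ
  | [] => 0
  | e :: l => Nat.lor ((if slot (pack l) e.1 = 0 then code e.2.toList else 3) <<< (10 * e.1)) (pack l)

theorem code_pos (l : List (ℕ × ℤ)) : code l ≠ 0 ∧ code l < 1024 := by
  unfold code
  split
  · split_ifs <;> omega
  · omega

theorem code_valid {l : List (ℕ × ℤ)} (h : code l % 4 ≠ 3) :
    l = [(code l / 4, if code l % 4 = 1 then 1 else -1)] ∧ (code l % 4 = 1 ∨ code l % 4 = 2) := by
  unfold code at h ⊢
  split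
  · rename_i k c
    simp only at h
    split_ifs at h ⊢ <;> simp_all <;> omega
  · simp at h

theorem slot_lor_shift {v : ℕ} (hv : v < 1024) (k x b : ℕ) :
    slot (Nat.lor (v <<< (10 * k)) x) b = if b = k then v ||| slot x b else slot x b := by
  have hor : slot (Nat.lor (v <<< (10 * k)) x) b = slot (v <<< (10 * k)) b ||| slot x b := by
    show ((v <<< (10 * k) ||| x) >>> (10 * b)) % 2 ^ 10 = _
    rw [Nat.shiftRight_or_distrib, Nat.or_mod_two_pow]
    rfl
  rw [hor]
  rcases lt_trichotomy b k with hbk | rfl | hkb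
  · rw [if_neg (Nat.ne_of_lt hbk)]
    have : slot (v <<< (10 * k)) b = 0 := by
      rw [slot, Nat.shiftLeft_eq, Nat.shiftRight_eq_div_pow,
        show 2 ^ (10 * k) = 2 ^ (10 * (k - b - 1)) * 1024 * 2 ^ (10 * b) by
          rw [show (1024 : ℕ) = 2 ^ 10 from rfl, ← pow_add, ← pow_add]; congr 1; omega,
        ← mul_assoc, Nat.mul_div_cancel _ (by positivity), ← mul_assoc, Nat.mul_mod_left]
    rw [this, Nat.zero_or]
  · rw [if_pos rfl]
    have : slot (v <<< (10 * b)) b = v := by
      rw [slot, Nat.shiftLeft_eq, Nat.shiftRight_eq_div_pow, Nat.mul_div_cancel _ (by positivity),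
        Nat.mod_eq_of_lt hv]
    rw [this]
  · rw [if_neg (Nat.ne_of_gt hkb)]
    have : slot (v <<< (10 * k)) b = 0 := by
      rw [slot, Nat.shiftLeft_eq, Nat.shiftRight_eq_div_pow,
        Nat.div_eq_of_lt, Nat.zero_mod]
      calc v * 2 ^ (10 * k) < 2 ^ 10 * 2 ^ (10 * k) := Nat.mul_lt_mul_of_pos_right hv (by positivity)
        _ ≤ 2 ^ (10 * b) := by rw [← pow_add]; exact Nat.pow_le_pow_right (by norm_num) (by omega)
    rw [this, Nat.zero_or]

theorem pack_spec : ∀ (l : List (ℕ × Array (ℕ × ℤ))) (b : ℕ),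
    (slot (pack l) b = 0 → ∀ e ∈ l, e.1 ≠ b) ∧
      (slot (pack l) b ≠ 0 → slot (pack l) b % 4 ≠ 3 →
        ∃ e, l.find? (fun e => decide (e.1 = b)) = some e ∧ code e.2.toList = slot (pack l) b)
  | [], b => ⟨fun _ e he => by simp at he, fun h => absurd (by simp [pack, slot]) h⟩
  | e :: l, b => by
    obtain ⟨h0, h1⟩ := pack_spec l b
    obtain ⟨hc0, hc1⟩ := code_pos e.2.toList
    have hv : (if slot (pack l) e.1 = 0 then code e.2.toList else 3) < 1024 := by
      split <;> omega
    rw [pack, slot_lor_shift hv]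
    by_cases hb : b = e.1
    · subst hb
      rw [if_pos rfl]
      by_cases hr : slot (pack l) e.1 = 0
      · rw [if_pos hr, hr, Nat.or_zero]
        exact ⟨fun h => absurd h hc0, fun _ _ => ⟨e, by simp, rfl⟩⟩
      · rw [if_neg hr]
        refine ⟨fun h => absurd (Nat.or_eq_zero_iff.1 h).1 (by norm_num), fun _ h => absurd ?_ h⟩
        rw [show (4 : ℕ) = 2 ^ 2 from rfl, Nat.or_mod_two_pow]
        have : slot (pack l) e.1 % 2 ^ 2 < 4 := Nat.mod_lt _ (by norm_num)
        generalize slot (pack l) e.1 % 2 ^ 2 = r at this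
        interval_cases r <;> rfl
    · rw [if_neg hb]
      refine ⟨fun h x hx => ?_, fun h h' => ?_⟩
      · rcases List.mem_cons.1 hx with rfl | hx
        · exact fun h => hb h.symm
        · exact h0 h x hx
      · obtain ⟨x, hx, hx'⟩ := h1 h h'
        exact ⟨x, by rw [List.find?_cons_of_neg (by simpa using fun h => hb h.symm)]; exact hx, hx'⟩

/-- The packed row of a root. -/
def row (D : ChevalleyDatum) (a : ℕ) : ℕ := pack (D.chain.getD a #[]).toList

/-- `f a`, with the argument evaluated first. -/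
def strict {α : Type} (a : ℕ) (f : ℕ → α) : α := Nat.rec (f 0) (fun n _ => f (n + 1)) a

theorem strict_eq {α : Type} (a : ℕ) (f : ℕ → α) : strict a f = f a := by
  cases a <;> rfl

/-- The packed chain entry of a pair. -/
def entry (D : ChevalleyDatum) (a b : ℕ) : ℕ := strict a fun a => slot (row D a) b

theorem chainEntry_of_zero {D : ChevalleyDatum} {a b : ℕ} (h : entry D a b = 0) :
    D.chainEntry a b = [] := by
  rw [entry, strict_eq] at h
  have hno := (pack_spec _ b).1 h
  unfold ChevalleyDatum.chainEntry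
  rw [List.find?_eq_none.2 fun e he => by simpa using hno e he]

theorem chainEntry_of_valid {D : ChevalleyDatum} {a b : ℕ}
    (h : entry D a b % 4 = 1 ∨ entry D a b % 4 = 2) :
    D.chainEntry a b = [(entry D a b / 4, if entry D a b % 4 = 1 then 1 else -1)] := by
  simp only [entry, strict_eq] at h ⊢
  unfold row at h ⊢
  obtain ⟨e, he, hcode⟩ := (pack_spec (D.chain.getD a #[]).toList b).2 (fun h0 => by rw [h0] at h; omega)
    (fun h3 => by omega)
  rw [← hcode] at h ⊢
  unfold ChevalleyDatum.chainEntry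
  rw [he]
  exact (code_valid (l := e.2.toList) (by omega)).1

end H17.HeisDeg.FastTable
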