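import Cfsg.Agent.H17.HeisDegree.Abstract

/-!
Counting in a unipotent radical of Heisenberg type with split pairing: an abelian subgroup
`T₂ · R · Z` and the conjugations relating its characters.
-/

set_option autoImplicit false

namespace H17.HeisDeg

open scoped BigOperators

/-- The abelian subgroup and the conjugations entering the count. -/
structure Core (G : Type*) [Group G] (P : Type*) [Field P] (ι : Type*) [Fintype ι] where
  /-- The abelian part. -/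
  T2 : (ι → P) → G
  /-- The root group of the simple root. -/
  r : P → G
  /-- The root group of the highest root. -/
  z : P → G
  T2_add : ∀ a b, T2 (a + b) = T2 a * T2 b
  r_add : ∀ a b, r (a + b) = r a * r b
  z_add : ∀ a b, z (a + b) = z a * z b
  T2_r : ∀ c d, Commute (T2 c) (r d)
  T2_z : ∀ c e, Commute (T2 c) (z e)
  r_z : ∀ d e, Commute (r d) (z e)
  shift : ∀ (b : ι → P) (a : P), ∃ g : G, (∀ e, g⁻¹ * z e * g = z e) ∧
    (∀ d, g⁻¹ * r d * g = r d * z (a * d)) ∧ ∀ c, g⁻¹ * T2 c * g = T2 c * z (b ⬝ᵥ c)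
  raise : ∀ t : ι → P, ∃ g : G, (∀ e, g⁻¹ * z e * g = z e) ∧ (∀ d, g⁻¹ * r d * g = r d) ∧
    ∀ c, g⁻¹ * T2 c * g = T2 c * r (t ⬝ᵥ c)
  conj_z : ∃ (w : G) (ε : P), ε ≠ 0 ∧ ∀ e, w⁻¹ * z e * w = r (ε * e)
  scal : ∀ μ : P, μ ≠ 0 → ∃ g : G, (∀ d, g⁻¹ * r d * g = r (μ * d)) ∧
    (∀ e, ∃ e', g⁻¹ * z e * g = z e') ∧ ∀ c, ∃ c', g⁻¹ * T2 c * g = T2 c'

namespace Core

variable {G : Type*} [Group G] {P : Type*} [Field P] {ι : Type*} [Fintype ι] (F : Core G P ι)

/-- The abelian group `T₂ · R · Z`. -/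
def u (a : (ι → P) × P × P) : G := F.T2 a.1 * F.r a.2.1 * F.z a.2.2

theorem u_add (a b : (ι → P) × P × P) : F.u (a + b) = F.u a * F.u b := by
  simp only [u, Prod.fst_add, Prod.snd_add, F.T2_add, F.r_add, F.z_add]
  rw [((F.T2_z b.1 a.2.2).symm.mul_right (F.r_z b.2.1 a.2.2).symm).mul_mul_mul_comm,
    (F.T2_r b.1 a.2.1).symm.mul_mul_mul_comm]

theorem u_r (d : P) : F.u (0, d, 0) = F.r d := by
  simp [u, map_zero_eq F.T2_add, map_zero_eq F.z_add]

theorem u_z (e : P) : F.u (0, 0, e) = F.z e := by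
  simp [u, map_zero_eq F.T2_add, map_zero_eq F.r_add]

theorem u_rz (d e : P) : F.u (0, d, e) = F.r d * F.z e := by
  simp [u, map_zero_eq F.T2_add]

/-- A character of `T₂ · R · Z`. -/
def pc (γ : AddChar (ι → P) ℂ) (δ ψ : AddChar P ℂ) : AddChar ((ι → P) × P × P) ℂ where
  toFun a := γ a.1 * δ a.2.1 * ψ a.2.2
  map_zero_eq_one' := by simp
  map_add_eq_mul' a b := by simp [AddChar.map_add_eq_mul]; ring

omit [Field P] [Fintype ι] in
theorem prod_split {P Q : Type*} [AddCommGroup P] [AddCommGroup Q] (a : Q × P × P) :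
    a = (a.1, 0, 0) + (0, a.2.1, 0) + (0, 0, a.2.2) := by simp

/-- Characters of the product are triples. -/
def pcEquiv : AddChar (ι → P) ℂ × AddChar P ℂ × AddChar P ℂ ≃ AddChar ((ι → P) × P × P) ℂ where
  toFun t := pc t.1 t.2.1 t.2.2
  invFun χ :=
    (χ.compAddMonoidHom (AddMonoidHom.inl (ι → P) (P × P)),
      χ.compAddMonoidHom ((AddMonoidHom.inr (ι → P) (P × P)).comp (AddMonoidHom.inl P P)),
      χ.compAddMonoidHom ((AddMonoidHom.inr (ι → P) (P × P)).comp (AddMonoidHom.inr P P)))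
  left_inv t := by
    obtain ⟨γ, δ, ψ⟩ := t
    refine Prod.ext ?_ (Prod.ext ?_ ?_) <;> ext a <;> simp [pc]
  right_inv χ := by
    ext a
    conv_rhs => rw [prod_split a, AddChar.map_add_eq_mul, AddChar.map_add_eq_mul]
    rfl

variable {V : Type*} [AddCommGroup V] [Module ℂ V] (ρ : Representation ℂ G V)

/-- The multiplicity of a triple of characters. -/
noncomputable def m (γ : AddChar (ι → P) ℂ) (δ ψ : AddChar P ℂ) : ℕ := mult ρ F.u (pc γ δ ψ)

variable {ρ}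

theorem mem_pc {γ : AddChar (ι → P) ℂ} {δ ψ : AddChar P ℂ} {v : V} (hv : v ∈ eig ρ F.u (pc γ δ ψ)) :
    (∀ c, ρ (F.T2 c) v = γ c • v) ∧ (∀ d, ρ (F.r d) v = δ d • v) ∧
      ∀ e, ρ (F.z e) v = ψ e • v := by
  refine ⟨fun c => ?_, fun d => ?_, fun e => ?_⟩
  · have h := mem_eig.1 hv (c, 0, 0)
    simpa [u, pc, map_zero_eq F.r_add, map_zero_eq F.z_add] using h
  · have h := mem_eig.1 hv (0, d, 0)
    simpa [u_r, pc] using h
  · have h := mem_eig.1 hv (0, 0, e)
    simpa [u_z, pc] using h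

/-- A criterion for conjugation to move a triple eigenspace. -/
theorem conj_u {γ' : AddChar (ι → P) ℂ} {δ' ψ' : AddChar P ℂ} {g : G} {v : V}
    (h1 : ∀ c, ρ (g⁻¹ * F.T2 c * g) v = γ' c • v) (h2 : ∀ d, ρ (g⁻¹ * F.r d * g) v = δ' d • v)
    (h3 : ∀ e, ρ (g⁻¹ * F.z e * g) v = ψ' e • v) (a : (ι → P) × P × P) :
    ρ (g⁻¹ * F.u a * g) v = pc γ' δ' ψ' a • v := by
  rw [show g⁻¹ * F.u a * g = (g⁻¹ * F.T2 a.1 * g) * (g⁻¹ * F.r a.2.1 * g) * (g⁻¹ * F.z a.2.2 * g) by
    unfold u; group]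
  rw [map_mul, map_mul, Module.End.mul_apply, Module.End.mul_apply, h3, map_smul, map_smul, h2,
    map_smul, h1, smul_smul, smul_smul]
  congr 1
  show _ = γ' a.1 * δ' a.2.1 * ψ' a.2.2
  ring

theorem m_le_of_conj [FiniteDimensional ℂ V] {γ γ' : AddChar (ι → P) ℂ} {δ δ' ψ ψ' : AddChar P ℂ}
    (g : G) (h : ∀ v : V, (∀ c, ρ (F.T2 c) v = γ c • v) → (∀ d, ρ (F.r d) v = δ d • v) →
      (∀ e, ρ (F.z e) v = ψ e • v) →
      (∀ c, ρ (g⁻¹ * F.T2 c * g) v = γ' c • v) ∧ (∀ d, ρ (g⁻¹ * F.r d * g) v = δ' d • v) ∧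
        ∀ e, ρ (g⁻¹ * F.z e * g) v = ψ' e • v) :
    F.m ρ γ δ ψ ≤ F.m ρ γ' δ' ψ' := by
  refine mult_le_of_conj g fun v hv a => ?_
  obtain ⟨h1, h2, h3⟩ := F.mem_pc hv
  obtain ⟨k1, k2, k3⟩ := h v h1 h2 h3
  exact F.conj_u k1 k2 k3 a

variable [Fintype P] [DecidableEq ι] [FiniteDimensional ℂ V]

omit [Fintype P] [FiniteDimensional ℂ V] in
theorem dot_surj (t : ι → P) (ht : t ≠ 0) (e : P) : ∃ c, t ⬝ᵥ c = e := by
  obtain ⟨i, hi⟩ := Function.ne_iff.1 ht
  refine ⟨Pi.single i (e / t i), ?_⟩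
  rw [dotProduct_single]
  field_simp [show t i ≠ 0 from hi]

theorem m_le_of_psi {ψ : AddChar P ℂ} (hψ : ψ ≠ 1) (γ γ' : AddChar (ι → P) ℂ) (δ δ' : AddChar P ℂ) :
    F.m ρ γ δ ψ ≤ F.m ρ γ' δ' ψ := by
  obtain ⟨b, hb⟩ := pairing_bijective (fun b c : ι → P => b ⬝ᵥ c) add_dotProduct dotProduct_add
    dot_surj hψ (γ' * γ⁻¹)
  obtain ⟨a, ha⟩ := pairing_bijective (fun a d : P => a * d) (fun a b c => by ring)
    (fun a b c => by ring) (fun t ht e => ⟨e / t, by field_simp⟩) hψ (δ' * δ⁻¹)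
  obtain ⟨g, g1, g2, g3⟩ := F.shift b a
  refine F.m_le_of_conj g fun v h1 h2 h3 => ⟨fun c => ?_, fun d => ?_, fun e => by rw [g1, h3]⟩
  · rw [g3, map_mul, Module.End.mul_apply, h3, map_smul, h1, smul_smul, hb]
    congr 1
    rw [AddChar.mul_apply, AddChar.inv_apply, mul_assoc, ← AddChar.map_add_eq_mul, neg_add_cancel,
      AddChar.map_zero_eq_one, mul_one]
  · rw [g2, map_mul, Module.End.mul_apply, h3, map_smul, h2, smul_smul, ha]
    congr 1
    rw [AddChar.mul_apply, AddChar.inv_apply, mul_assoc, ← AddChar.map_add_eq_mul, neg_add_cancel,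
      AddChar.map_zero_eq_one, mul_one]

theorem m_le_of_delta {δ : AddChar P ℂ} (hδ : δ ≠ 1) (γ γ' : AddChar (ι → P) ℂ) :
    F.m ρ γ δ 1 ≤ F.m ρ γ' δ 1 := by
  obtain ⟨t, ht⟩ := pairing_bijective (fun b c : ι → P => b ⬝ᵥ c) add_dotProduct dotProduct_add
    dot_surj hδ (γ' * γ⁻¹)
  obtain ⟨g, g1, g2, g3⟩ := F.raise t
  refine F.m_le_of_conj g fun v h1 h2 h3 => ⟨fun c => ?_, fun d => by rw [g2, h2], fun e => by rw [g1, h3]⟩
  rw [g3, map_mul, Module.End.mul_apply, h2, map_smul, h1, smul_smul, ht]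
  congr 1
  rw [AddChar.mul_apply, AddChar.inv_apply, mul_assoc, ← AddChar.map_add_eq_mul, neg_add_cancel,
    AddChar.map_zero_eq_one, mul_one]

theorem m_le_of_scal {δ δ' : AddChar P ℂ} (hδ : δ ≠ 1) (hδ' : δ' ≠ 1) :
    F.m ρ 1 δ 1 ≤ F.m ρ 1 δ' 1 := by
  obtain ⟨μ, hμ⟩ := pairing_bijective (fun a d : P => a * d) (fun a b c => by ring)
    (fun a b c => by ring) (fun t ht e => ⟨e / t, by field_simp⟩) hδ δ'
  have hμ0 : μ ≠ 0 := by
    rintro rfl
    exact hδ' (DFunLike.ext _ _ fun d => by rw [← hμ, zero_mul, AddChar.map_zero_eq_one]; rfl)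
  obtain ⟨g, g1, g2, g3⟩ := F.scal μ hμ0
  refine F.m_le_of_conj g fun v h1 h2 h3 => ⟨fun c => ?_, fun d => ?_, fun e => ?_⟩
  · obtain ⟨c', hc⟩ := g3 c
    rw [hc, h1]
    simp
  · rw [g1, h2, hμ]
  · obtain ⟨e', he⟩ := g2 e
    rw [he, h3]
    simp

/-- Fibre sums over characters of a coordinate. -/
theorem mult_sum {B : Type*} [AddCommGroup B] [Fintype B] (j : B →+ (ι → P) × P × P)
    (S : Finset (AddChar (ι → P) ℂ × AddChar P ℂ × AddChar P ℂ))
    (hS : ∀ t, t ∈ S ↔ (pcEquiv t).compAddMonoidHom j = 1) :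
    mult ρ (fun b => F.u (j b)) 1 = ∑ t ∈ S, F.m ρ t.1 t.2.1 t.2.2 := by
  classical
  rw [mult_comp F.u_add j 1]
  exact (Finset.sum_equiv pcEquiv (fun t => by simp [hS]) fun t _ => rfl).symm

theorem mult_z_eq_r : mult ρ F.z 1 = mult ρ F.r 1 := by
  obtain ⟨w, ε, hε, hw⟩ := F.conj_z
  refine le_antisymm (mult_le_of_conj w⁻¹ fun v hv b => ?_) (mult_le_of_conj w fun v hv e => ?_)
  · rw [inv_inv, show w * F.r b * w⁻¹ = F.z (b / ε) by
      have := hw (b / ε); rw [mul_div_cancel₀ b hε] at this; rw [← this]; group, mem_eig.1 hv]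
    simp
  · rw [hw, mem_eig.1 hv]
    simp

open Classical in
/-- **Counting**: the dimension and that of the fixed space of `Z`. -/
theorem counting {δ₀ : AddChar P ℂ} (hδ₀ : δ₀ ≠ 1) :
    let q := Fintype.card P
    let Q := q ^ Fintype.card ι
    let A := F.m ρ 1 δ₀ 1
    Module.finrank ℂ V = mult ρ F.z 1 + (q - 1) * A * (Q * q) ∧
      (q - 1) * A * Q ≤ mult ρ F.z 1 := by
  intro q Q A
  have cK : Fintype.card (AddChar (ι → P) ℂ) = Q := AddChar.card_eq.trans Fintype.card_fun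
  have cP : Fintype.card (AddChar P ℂ) = q := AddChar.card_eq
  have hψ : ∀ ψ : AddChar P ℂ, ψ ≠ 1 → ∀ γ δ, F.m ρ γ δ ψ = F.m ρ 1 1 ψ := fun ψ h γ δ =>
    le_antisymm (F.m_le_of_psi h γ 1 δ 1) (F.m_le_of_psi h 1 γ 1 δ)
  have hδ : ∀ δ : AddChar P ℂ, δ ≠ 1 → ∀ γ, F.m ρ γ δ 1 = F.m ρ 1 δ₀ 1 := fun δ h γ =>
    le_antisymm ((F.m_le_of_delta h γ 1).trans (F.m_le_of_scal h hδ₀))
      ((F.m_le_of_scal hδ₀ h).trans (F.m_le_of_delta h 1 γ))
  set N0 := ∑ γ, F.m ρ γ 1 1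
  set M := ∑ ψ ∈ Finset.univ.erase (1 : AddChar P ℂ), F.m ρ 1 1 ψ
  -- the fixed space of `Z`
  have hd1 : mult ρ F.z 1 = N0 + (q - 1) * A * Q := by
    rw [show F.z = fun e => F.u (((AddMonoidHom.inr (ι → P) (P × P)).comp (AddMonoidHom.inr P P)) e) from
      funext fun e => (F.u_z e).symm,
      F.mult_sum _ (Finset.univ ×ˢ Finset.univ ×ˢ {1}) fun t => by
        obtain ⟨γ, δ, ψ⟩ := t
        simp only [Finset.mem_product, Finset.mem_univ, Finset.mem_singleton, true_and, and_true]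
        constructor
        · rintro rfl
          ext a
          simp [pcEquiv, pc]
        · intro h
          ext a
          simpa [pcEquiv, pc] using DFunLike.congr_fun h a]
    simp only [Finset.sum_product, Finset.sum_singleton]
    rw [Finset.sum_comm, ← Finset.add_sum_erase _ _ (Finset.mem_univ (1 : AddChar P ℂ))]
    congr 1
    rw [Finset.sum_congr rfl fun δ hδ' => Finset.sum_congr rfl fun γ _ =>
      hδ δ (Finset.ne_of_mem_erase hδ') γ]
    simp [A, cK, cP, Finset.card_erase_of_mem, mul_assoc, mul_comm (F.m ρ 1 δ₀ 1)]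
  -- the fixed space of `R`
  have hX : mult ρ F.r 1 = N0 + M * Q := by
    rw [show F.r = fun d => F.u (((AddMonoidHom.inr (ι → P) (P × P)).comp (AddMonoidHom.inl P P)) d) from
      funext fun d => (F.u_r d).symm,
      F.mult_sum _ (Finset.univ ×ˢ {1} ×ˢ Finset.univ) fun t => by
        obtain ⟨γ, δ, ψ⟩ := t
        simp only [Finset.mem_product, Finset.mem_univ, Finset.mem_singleton, true_and, and_true]
        constructor
        · rintro rfl
          ext a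
          simp [pcEquiv, pc]
        · intro h
          ext a
          simpa [pcEquiv, pc] using DFunLike.congr_fun h a]
    simp only [Finset.sum_product, Finset.sum_singleton]
    rw [Finset.sum_comm, ← Finset.add_sum_erase _ _ (Finset.mem_univ (1 : AddChar P ℂ))]
    congr 1
    rw [Finset.sum_congr rfl fun ψ hψ' => Finset.sum_congr rfl fun γ _ =>
      hψ ψ (Finset.ne_of_mem_erase hψ') γ 1]
    simp [cK, M, ← Finset.mul_sum, mul_comm]
  have hM : M = (q - 1) * A := by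
    have h0 : 0 < Q := pow_pos Fintype.card_pos _
    have := (hd1.symm.trans F.mult_z_eq_r).trans hX
    exact Nat.eq_of_mul_eq_mul_right h0 (by omega)
  refine ⟨?_, hd1.symm ▸ Nat.le_add_left _ _⟩
  have hsum : Module.finrank ℂ V = mult ρ F.z 1 + M * (Q * q) := by
    rw [← sum_mult (ρ := ρ) F.u_add, ← pcEquiv.sum_comp fun χ => mult ρ F.u χ]
    rw [show F.z = fun e => F.u (((AddMonoidHom.inr (ι → P) (P × P)).comp (AddMonoidHom.inr P P)) e) from
      funext fun e => (F.u_z e).symm,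
      F.mult_sum _ (Finset.univ ×ˢ Finset.univ ×ˢ {1}) fun t => by
        obtain ⟨γ, δ, ψ⟩ := t
        simp only [Finset.mem_product, Finset.mem_univ, Finset.mem_singleton, true_and, and_true]
        constructor
        · rintro rfl
          ext a
          simp [pcEquiv, pc]
        · intro h
          ext a
          simpa [pcEquiv, pc] using DFunLike.congr_fun h a]
    simp only [Fintype.sum_prod_type, Finset.sum_product, Finset.sum_singleton]
    change ∑ γ, ∑ δ, ∑ ψ, F.m ρ γ δ ψ = _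
    have hin : ∀ γ δ, ∑ ψ, F.m ρ γ δ ψ = F.m ρ γ δ 1 + M := fun γ δ => by
      rw [← Finset.add_sum_erase _ _ (Finset.mem_univ (1 : AddChar P ℂ))]
      congr 1
      exact Finset.sum_congr rfl fun ψ h => hψ ψ (Finset.ne_of_mem_erase h) γ δ
    simp only [hin, Finset.sum_add_distrib]
    simp [cK, cP]
    ring
  rw [hsum, hM]

end Core

end H17.HeisDeg
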