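import Cfsg.Agent.H17.HeisDegree.Eigen
import Cfsg.Agent.H52.ChevBN
import Cfsg.Agent.H17.HeisDegree.FastTable

/-!
Root elements acting on simultaneous eigenvectors in a representation of a Chevalley group.
-/

set_option autoImplicit false
set_option linter.unusedSectionVars false

namespace H17.HeisDeg.RootAct

open Cfsg.Lie H52

theorem commTerms_of_nil {D : ChevalleyDatum} {a b : ℕ} (h : D.chainEntry a b = [])
    (h' : D.chainEntry b a = []) : D.commTerms a b = [] := by
  simp [ChevalleyDatum.commTerms, ChevalleyDatum.chainRoot, h, h']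

theorem commTerms_of_single {D : ChevalleyDatum} {a b k : ℕ} {c : ℤ} {e : ℕ × ℤ}
    (h : D.chainEntry a b = [(k, c)]) (h' : D.chainEntry b a = [e]) :
    D.commTerms a b = [(k, c, 1, 1)] := by
  simp [ChevalleyDatum.commTerms, ChevalleyDatum.chainRoot, ChevalleyDatum.chainM, h, h']

/-- The sign of a packed entry. -/
def entrySign (D : ChevalleyDatum) (a b : ℕ) : ℤ :=
  if FastTable.entry D a b % 4 = 1 then 1 else -1

/-- A packed entry holding a single term with a sign. -/
def validEntry (x : ℕ) : Bool := x % 4 == 1 || x % 4 == 2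

/-- `a` and `b` have commuting root elements up to roots in `allowed`. -/
def okPair (D : ChevalleyDatum) (a b : ℕ) (allowed : ℕ → Bool) : Bool :=
  decide (a < D.nroots) && decide (b < D.nroots) &&
    (a == b || (b != D.neg a &&
      ((FastTable.entry D a b == 0 && FastTable.entry D b a == 0) ||
        (validEntry (FastTable.entry D a b) && validEntry (FastTable.entry D b a) &&
          allowed (FastTable.entry D a b / 4)))))

/-- `k = a + b` with coefficient `±1` in the commutator formula. -/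
def sumOK (D : ChevalleyDatum) (a b k : ℕ) : Bool :=
  decide (a < D.nroots) && decide (b < D.nroots) && decide (k < D.nroots) && (b != a) && (b != D.neg a) &&
    validEntry (FastTable.entry D a b) && validEntry (FastTable.entry D b a) &&
    (FastTable.entry D a b / 4 == k)

/-- Coefficient of the commutator term of `a` and `b`. -/
def sumCoef (D : ChevalleyDatum) (a b : ℕ) : ℤ := ((D.commTerms a b).getD 0 (0, 0, 0, 0)).2.1

theorem commTerms_of_valid {D : ChevalleyDatum} {a b : ℕ}
    (h : validEntry (FastTable.entry D a b) = true) (h' : validEntry (FastTable.entry D b a) = true) :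
    D.commTerms a b = [(FastTable.entry D a b / 4, entrySign D a b, 1, 1)] := by
  simp only [validEntry, Bool.or_eq_true, beq_iff_eq] at h h'
  exact commTerms_of_single (FastTable.chainEntry_of_valid h) (FastTable.chainEntry_of_valid h')

theorem sumOK_spec {D : ChevalleyDatum} {a b k : ℕ} (h : sumOK D a b k = true) :
    a < D.nroots ∧ b < D.nroots ∧ k < D.nroots ∧ b ≠ a ∧ b ≠ D.neg a ∧
      D.commTerms a b = [(k, sumCoef D a b, 1, 1)] ∧ sumCoef D a b * sumCoef D a b = 1 := by
  simp only [sumOK, Bool.and_eq_true, decide_eq_true_eq, bne_iff_ne, ne_eq, beq_iff_eq] at h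
  obtain ⟨⟨⟨⟨⟨⟨⟨ha, hb⟩, hk⟩, hne⟩, hneg⟩, h1⟩, h2⟩, h3⟩ := h
  have e := commTerms_of_valid h1 h2
  rw [h3] at e
  have hs : sumCoef D a b = entrySign D a b := by simp [sumCoef, e]
  refine ⟨ha, hb, hk, hne, hneg, hs ▸ e, ?_⟩
  rw [hs, entrySign]
  split_ifs <;> norm_num

theorem sumCoef_of_sum {D : ChevalleyDatum} {a b k : ℕ} (h : sumOK D a b k = true) :
    sumCoef D a b = entrySign D a b := by
  simp only [sumOK, Bool.and_eq_true] at h
  simp [sumCoef, commTerms_of_valid h.1.1.2 h.1.2]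

theorem okPair_spec {D : ChevalleyDatum} {a b : ℕ} {al : ℕ → Bool} (h : okPair D a b al = true) :
    a < D.nroots ∧ b < D.nroots ∧ (a = b ∨ (b ≠ a ∧ b ≠ D.neg a ∧ (D.commTerms a b = [] ∨
      ∃ k c, D.commTerms a b = [(k, c, 1, 1)] ∧ al k = true))) := by
  simp only [okPair, Bool.and_eq_true, decide_eq_true_eq, Bool.or_eq_true, beq_iff_eq,
    bne_iff_ne, ne_eq] at h
  obtain ⟨⟨ha, hb⟩, h⟩ := h
  refine ⟨ha, hb, ?_⟩
  by_cases hab : a = b
  · exact Or.inl hab
  · obtain ⟨hneg, h⟩ := h.resolve_left hab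
    refine Or.inr ⟨Ne.symm hab, hneg, ?_⟩
    rcases h with ⟨h1, h2⟩ | ⟨⟨h1, h2⟩, h3⟩
    · exact Or.inl (commTerms_of_nil (FastTable.chainEntry_of_zero h1) (FastTable.chainEntry_of_zero h2))
    · exact Or.inr ⟨_, _, commTerms_of_valid h1 h2, h3⟩

theorem okPair_mono {D : ChevalleyDatum} {a b : ℕ} {al al' : ℕ → Bool}
    (hal : ∀ k, al k = true → al' k = true) (h : okPair D a b al = true) :
    okPair D a b al' = true := by
  simp only [okPair, Bool.and_eq_true, Bool.or_eq_true] at h ⊢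
  exact ⟨h.1, h.2.imp id fun h => ⟨h.1, h.2.imp id fun h => ⟨h.1, hal _ h.2⟩⟩⟩

theorem okPair_of_sum {D : ChevalleyDatum} {a b k : ℕ} (h : sumOK D a b k = true) :
    okPair D a b (fun r => r == k) = true := by
  simp only [sumOK, okPair, Bool.and_eq_true, Bool.or_eq_true, decide_eq_true_eq] at h ⊢
  obtain ⟨⟨⟨⟨⟨⟨⟨ha, hb⟩, -⟩, -⟩, hneg⟩, h1⟩, h2⟩, h3⟩ := h
  exact ⟨⟨ha, hb⟩, Or.inr ⟨hneg, Or.inr ⟨⟨h1, h2⟩, h3⟩⟩⟩

variable {D : ChevalleyDatum} {F : Type*} [Field F] {T : Tables}

/-- A root element of the group. -/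
noncomputable def xe (hC : Checked D T) (r : ℕ) (t : F) : ↥(D.group F) :=
  ⟨rt D r t, hC.rt_mem_group r t⟩

variable (hC : Checked D T)

theorem xe_add (r : ℕ) (t u : F) : xe hC r (t + u) = xe hC r t * xe hC r u :=
  Subtype.ext (hC.rt_mul r t u).symm

theorem xe_zero (r : ℕ) : xe hC r (0 : F) = 1 := Subtype.ext (hC.rt_zero r)

theorem xe_inv (r : ℕ) (t : F) : (xe hC r t)⁻¹ = xe hC r (-t) :=
  inv_eq_of_mul_eq_one_right (by rw [← xe_add, add_neg_cancel, xe_zero])

theorem xe_ne_one {r : ℕ} (hr : r < D.nroots) {t : F} (ht : t ≠ 0) : xe hC r t ≠ 1 := fun h =>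
  ht (hC.rt_injective hr ((congrArg Subtype.val h).trans (hC.rt_zero r).symm))

theorem xe_comm {a b : ℕ} (ha : a < D.nroots) (hb : b < D.nroots) (hne : b ≠ a)
    (hneg : b ≠ D.neg a) (h : D.commTerms a b = []) (t u : F) :
    xe hC b u * xe hC a t = xe hC a t * xe hC b u := by
  have := hC.comm_rt ha hb hne hneg t u
  rw [ChevalleyDatum.commWord, h] at this
  exact Subtype.ext (by simpa [wordRt, xe] using this)

theorem xe_swap {a b k : ℕ} {c : ℤ} (ha : a < D.nroots) (hb : b < D.nroots) (hne : b ≠ a)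
    (hneg : b ≠ D.neg a) (h : D.commTerms a b = [(k, c, 1, 1)]) (t u : F) :
    xe hC b u * xe hC a t = xe hC a t * xe hC b u * xe hC k ((c : F) * (-t) * u) := by
  have := hC.comm_rt ha hb hne hneg t u
  rw [ChevalleyDatum.commWord, h] at this
  exact Subtype.ext (by simpa [wordRt, mul_assoc, xe] using this)

variable {V : Type*} [AddCommGroup V] [Module ℂ V] (ρ : Representation ℂ ↥(D.group F) V)

/-- `w` is an eigenvector of the root group of `r` with character `χ`. -/
def Eg (w : V) (r : ℕ) (χ : AddChar F ℂ) : Prop := ∀ t, ρ (xe hC r t) w = χ t • w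

variable {hC ρ}

theorem Eg.fixed {w : V} {r : ℕ} (h : Eg hC ρ w r 1) (t : F) : ρ (xe hC r t) w = w := by
  rw [h t]; simp

theorem eg_one_iff {w : V} {r : ℕ} : Eg hC ρ w r 1 ↔ ∀ t, ρ (xe hC r t) w = w :=
  ⟨fun h t => h.fixed t, fun h t => by rw [h t]; simp⟩

theorem Eg.eq {w : V} {r : ℕ} {χ χ' : AddChar F ℂ} (h : Eg hC ρ w r χ) (h' : Eg hC ρ w r χ')
    (hw : w ≠ 0) : χ = χ' :=
  DFunLike.ext _ _ fun t => smul_left_injective ℂ hw ((h t).symm.trans (h' t))

theorem ne_zero_map {w : V} (hw : w ≠ 0) (g : ↥(D.group F)) : ρ g w ≠ 0 := fun h =>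
  hw (rho_injective g (h.trans (map_zero _).symm))

theorem Eg.smul {w : V} {r : ℕ} {χ : AddChar F ℂ} (h : Eg hC ρ w r χ) (c : ℂ) :
    Eg hC ρ (c • w) r χ := fun t => by rw [map_smul, h t, smul_comm]

/-- Eigenvalues are kept by root elements commuting up to fixing elements. -/
theorem push {a b : ℕ} {al : ℕ → Bool} (h : okPair D a b al = true) {w : V} {χ : AddChar F ℂ}
    (hfix : ∀ k, al k = true → Eg hC ρ w k 1) (hb : Eg hC ρ w b χ) (t : F) :
    Eg hC ρ (ρ (xe hC a t) w) b χ := by
  intro u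
  obtain ⟨ha', hb', h⟩ := okPair_spec h
  rcases h with rfl | ⟨hne, hneg, h | ⟨k, c, h, hk⟩⟩
  · rw [← Module.End.mul_apply, ← map_mul, ← xe_add, add_comm, xe_add, map_mul,
      Module.End.mul_apply, hb u, map_smul]
  · rw [← Module.End.mul_apply, ← map_mul, xe_comm hC ha' hb' hne hneg h, map_mul,
      Module.End.mul_apply, hb u, map_smul]
  · rw [← Module.End.mul_apply, ← map_mul, xe_swap hC ha' hb' hne hneg h, map_mul, map_mul,
      Module.End.mul_apply, Module.End.mul_apply, (hfix k hk).fixed, hb u, map_smul]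

/-- The new eigenvalue after a root element creating the root `k`. -/
theorem push_sum {a b k : ℕ} (h : sumOK D a b k = true) {w : V} {χ δ : AddChar F ℂ}
    (hb : Eg hC ρ w b χ) (hk : Eg hC ρ w k δ) (t u : F) :
    ρ (xe hC b u) (ρ (xe hC a t) w) =
      (χ u * δ ((sumCoef D a b : F) * (-t) * u)) • ρ (xe hC a t) w := by
  obtain ⟨ha', hb', -, hne, hneg, h, -⟩ := sumOK_spec h
  rw [← Module.End.mul_apply, ← map_mul, xe_swap hC ha' hb' hne hneg h, map_mul, map_mul,
    Module.End.mul_apply, Module.End.mul_apply, hk _, map_smul, hb u, map_smul, map_smul, smul_smul,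
    mul_comm (δ _)]

/-- A character evaluated at a scaled argument. -/
def chScale (χ : AddChar F ℂ) (μ : F) : AddChar F ℂ := χ.compAddMonoidHom (AddMonoidHom.mulLeft μ)

theorem chScale_apply (χ : AddChar F ℂ) (μ t : F) : chScale χ μ t = χ (μ * t) := rfl

theorem chScale_one (μ : F) : chScale (1 : AddChar F ℂ) μ = 1 := rfl

theorem chScale_ne_one {χ : AddChar F ℂ} (hχ : χ ≠ 1) {μ : F} (hμ : μ ≠ 0) : chScale χ μ ≠ 1 := by
  obtain ⟨t, ht⟩ := AddChar.ne_one_iff.1 hχ
  refine AddChar.ne_one_iff.2 ⟨t / μ, ?_⟩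
  rwa [chScale_apply, mul_div_cancel₀ t hμ]

theorem intCast_ne_zero {c : ℤ} (hc : c * c = 1) : (c : F) ≠ 0 := fun h =>
  one_ne_zero (α := F) (by rw [← Int.cast_one, ← hc, Int.cast_mul, h, zero_mul])

/-- Two root groups acting on a vector by scalars fix it by their commutator. -/
theorem fixed_of_scalar {a b k : ℕ} (h : sumOK D a b k = true) {v : V}
    {fa fb : F → ℂ} (hfa : ∀ t, ρ (xe hC a t) v = fa t • v) (hfb : ∀ t, ρ (xe hC b t) v = fb t • v) :
    Eg hC ρ v k 1 := by
  obtain ⟨ha', hb', -, hne, hneg, h, hc⟩ := sumOK_spec h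
  rw [eg_one_iff]
  intro s
  have hc0 := intCast_ne_zero (F := F) hc
  set t : F := -(s / (sumCoef D a b : F))
  have ht : (sumCoef D a b : F) * (-t) * 1 = s := by
    simp only [t, neg_neg, mul_one, mul_div_cancel₀ s hc0]
  have e := congrArg (fun g => ρ g v) (xe_swap hC ha' hb' hne hneg h t 1)
  simp only [map_mul, Module.End.mul_apply, hfa, hfb, map_smul, smul_smul, ht] at e
  rw [mul_comm (fa t)] at e
  apply rho_injective (ρ := ρ) (xe hC a t * xe hC b (1 : F))
  rw [map_mul, Module.End.mul_apply, Module.End.mul_apply, ← e, hfb, map_smul, hfa, smul_smul]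

section Weyl

/-- The element of a fundamental reflection. -/
noncomputable def ne (hC : Checked D T) (i : ℕ) : ↥(D.group F) :=
  xe hC (D.simple i) 1 * xe hC (D.neg (D.simple i)) (-1) * xe hC (D.simple i) 1

theorem coe_ne (i : ℕ) : ((ne (F := F) hC i : ↥(D.group F)) : GL D.Idx F) = nElt D (D.simple i) (1 : F) := by
  rw [Checked.nElt_eq, inv_one]
  rfl

theorem ne_conj {i r : ℕ} (hi : i < D.rank) (hr : r < D.nroots) (t : F) :
    (ne hC i : ↥(D.group F))⁻¹ * xe hC (D.reflectRoot i r) t * ne hC i =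
      xe hC r ((T.eps i r : F) * t) := by
  have h := hC.sig_conj_rt (F := F) hi hr ((T.eps i r : F) * t)
  rw [← mul_assoc, Checked.eps_cast_mul_self, one_mul] at h
  apply Subtype.ext
  show ((ne (F := F) hC i : ↥(D.group F)) : GL D.Idx F)⁻¹ * rt D _ t * ((ne (F := F) hC i : ↥(D.group F)) : GL D.Idx F) = rt D r _
  rw [coe_ne, ← h]
  group

/-- A fundamental reflection moves eigenvectors. -/
theorem Eg.reflect {i r : ℕ} (hi : i < D.rank) (hr : r < D.nroots) {w : V} {χ : AddChar F ℂ}
    (h : Eg hC ρ w r χ) :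
    Eg hC ρ (ρ (ne hC i) w) (D.reflectRoot i r) (chScale χ (T.eps i r : F)) := by
  intro t
  rw [chScale_apply, ← map_smul, ← h, ← ne_conj hi hr t, ← Module.End.mul_apply,
    ← Module.End.mul_apply, ← map_mul, ← map_mul]
  congr 2
  group

/-- A torus element of the group. -/
noncomputable def te (hC : Checked D T) (c : Fin D.rank → Fˣ) : ↥(D.group F) :=
  ⟨torus D c, by
    rw [hC.torus_eq_prod c]
    refine Subgroup.list_prod_mem _ fun g hg => ?_
    obtain ⟨i, -, rfl⟩ := List.mem_map.1 hg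
    rw [Checked.hElt_eq, Checked.nElt_eq, Checked.nElt_eq]
    exact mul_mem (mul_mem (mul_mem (hC.rt_mem_group _ _) (hC.rt_mem_group _ _)) (hC.rt_mem_group _ _))
      (mul_mem (mul_mem (hC.rt_mem_group _ _) (hC.rt_mem_group _ _)) (hC.rt_mem_group _ _))⟩

theorem te_conj (c : Fin D.rank → Fˣ) {r : ℕ} (hr : r < D.nroots) (t : F) :
    (te hC c)⁻¹ * xe hC r t * te hC c =
      xe hC r (((∏ i : Fin D.rank, c⁻¹ i ^ D.cartan i.val r : Fˣ) : F) * t) := by
  apply Subtype.ext
  show (torus D c)⁻¹ * rt D r t * torus D c = rt D r _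
  have := hC.torus_conj_rt c⁻¹ hr t
  rw [map_inv, inv_inv] at this
  exact this

theorem Eg.torus (c : Fin D.rank → Fˣ) {r : ℕ} (hr : r < D.nroots) {w : V} {χ : AddChar F ℂ}
    (h : Eg hC ρ w r χ) :
    Eg hC ρ (ρ (te hC c) w) r
      (chScale χ ((∏ i : Fin D.rank, c⁻¹ i ^ D.cartan i.val r : Fˣ) : F)) := by
  intro t
  rw [chScale_apply, ← map_smul, ← h, ← te_conj c hr t, ← Module.End.mul_apply,
    ← Module.End.mul_apply, ← map_mul, ← map_mul]
  congr 2
  group

/-- A torus element scaling a given root by a given scalar. -/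
theorem exists_te_scale {i r : ℕ} (hi : i < D.rank) (hr : r < D.nroots)
    (hcart : D.cartan i r = -1) {μ : F} (hμ : μ ≠ 0) :
    ∃ c : Fin D.rank → Fˣ, ((∏ l : Fin D.rank, c⁻¹ l ^ D.cartan l.val r : Fˣ) : F) = μ := by
  classical
  refine ⟨Pi.mulSingle ⟨i, hi⟩ (Units.mk0 μ hμ), ?_⟩
  rw [Finset.prod_eq_single ⟨i, hi⟩]
  · simp [hcart]
  · intro l _ hl
    simp [Pi.mulSingle_eq_of_ne hl]
  · simp

end Weyl

section Indep

/-- Simultaneous eigenvectors with distinct systems of eigenvalues are independent. -/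
theorem eigen_indep {J ι : Type*} [DecidableEq ι] (O : J → Module.End ℂ V) (f : ι → J → ℂ)
    (hf : Function.Injective f) :
    ∀ (s : Finset ι) (v : ι → V), (∀ i ∈ s, ∀ j, O j (v i) = f i j • v i) → ∑ i ∈ s, v i = 0 →
      ∀ i ∈ s, v i = 0 := by
  intro s
  induction s using Finset.induction with
  | empty => simp
  | insert a s ha ih =>
    intro v hv hsum
    rw [Finset.sum_insert ha] at hsum
    have key : ∀ b ∈ s, v b = 0 := by
      intro b hb
      obtain ⟨j, hj⟩ : ∃ j, f b j ≠ f a j :=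
        Function.ne_iff.1 fun e => ha (hf e ▸ hb)
      have h0 : ∑ i ∈ s, (f i j - f a j) • v i = 0 := by
        have h := congrArg (fun x => O j x - f a j • x) hsum
        simp only [map_add, map_sum, map_zero, smul_zero, sub_zero, smul_add, Finset.smul_sum] at h
        rw [hv a (Finset.mem_insert_self a s) j,
          Finset.sum_congr rfl fun i hi => hv i (Finset.mem_insert_of_mem hi) j,
          add_sub_add_left_eq_sub, ← Finset.sum_sub_distrib] at h
        simpa [sub_smul] using h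
      have := ih (fun i => (f i j - f a j) • v i)
        (fun i hi l => by rw [map_smul, hv i (Finset.mem_insert_of_mem hi) l, smul_comm]) h0 b hb
      exact (smul_eq_zero.1 this).resolve_left (sub_ne_zero.2 hj)
    intro i hi
    rcases Finset.mem_insert.1 hi with rfl | hi
    · simpa [Finset.sum_eq_zero key] using hsum
    · exact key i hi

end Indep

end H17.HeisDeg.RootAct
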