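import Cfsg.Agent.H17.HeisDegree.RootLevel
import Cfsg.Agent.H19.OM.Constituent
import Cfsg.Agent.H40.StPresentation

/-!
A special linear Levi factor acting on the vectors fixed by a radical.
-/

set_option autoImplicit false
set_option linter.unusedSectionVars false

namespace H17.HeisDeg.RootAct

open Cfsg.Lie H52 Matrix Module

/-- The root groups and signs of a special linear Levi factor. -/
structure LeviTable where
  roots : List (List ℕ)
  signs : List (List ℤ)

/-- The root at a position. -/
def LeviTable.root (L : LeviTable) (i j : ℕ) : ℕ := (L.roots.getD i []).getD j 0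

/-- The sign at a position. -/
def LeviTable.sign (L : LeviTable) (i j : ℕ) : ℤ := (L.signs.getD i []).getD j 0

/-- The checks on a Levi table. -/
def leviOK (D : ChevalleyDatum) (P : List ℕ) (n : ℕ) (L : LeviTable) : Bool :=
  (List.range n).all fun i => (List.range n).all fun j => i == j ||
    ((L.sign i j * L.sign i j == 1) &&
     (P.all fun p => okPair D (L.root i j) p (fun k => P.contains k)) &&
     ((List.range n).all fun k => (List.range n).all fun l =>
       k == l || i == l || j == k || okPair D (L.root i j) (L.root k l) noRoot) &&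
     (List.range n).all fun l => i == l || j == l ||
       (sumOK D (L.root i j) (L.root j l) (L.root i l) &&
        okPair D (L.root i l) (L.root i j) noRoot && okPair D (L.root i l) (L.root j l) noRoot &&
        (entrySign D (L.root i j) (L.root j l) * (L.sign i j * L.sign j l) == L.sign i l)))

variable {D : ChevalleyDatum} {T : Tables} {F : Type*} [Field F] (hC : Checked D T)
  {V : Type*} [AddCommGroup V] [Module ℂ V] (ρ : Representation ℂ ↥(D.group F) V)

/-- The root groups of a closed set are fixed pointwise on a subspace their normalizers keep. -/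
theorem mem_stab_fixList {P : List ℕ} {a : ℕ}
    (h : ∀ p ∈ P, okPair D a p (fun k => P.contains k) = true) (t : F) :
    xe hC a t ∈ stab ρ (fixList hC ρ P) := by
  have hle : ∀ t, (fixList hC ρ P).map (ρ (xe hC a t)) ≤ fixList hC ρ P := by
    rintro t _ ⟨y, hy, rfl⟩
    rw [SetLike.mem_coe, mem_fixList] at hy
    rw [mem_fixList]
    exact fun p hp => push (h p hp) (fun k hk => hy k (List.contains_iff_mem.1 hk)) (hy p hp) t
  refine le_antisymm (hle t) fun y hy => ?_
  refine ⟨ρ (xe hC a (-t)) y, hle (-t) ⟨y, hy, rfl⟩, ?_⟩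
  rw [← Module.End.mul_apply, ← map_mul, ← xe_add, add_neg_cancel, xe_zero, map_one,
    Module.End.one_apply]

variable [Fintype F] [FiniteDimensional ℂ V]

/-- **The bottom bound**: a single vector inside the Levi factor costs the minimal degree of
`SL_{l+2}`. -/
theorem bottom_bound {P : List ℕ} {l : ℕ} {L : LeviTable} (hl : 3 ≤ l)
    (hok : leviOK D P (l + 1 + 1) L = true) {i j : Fin (l + 1 + 1)} (hij : i ≠ j) {r : ℕ}
    (hr : L.root i j = r) (hP : ∀ p ∈ P, p < D.nroots ∧ D.nroots / 2 ≤ p ∧ p ≠ r)
    {v : V} {δ : AddChar F ℂ} (hδ : δ ≠ 1) (hv : Single hC ρ v r δ) :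
    Fintype.card F ^ (l + 2) - Fintype.card F ≤
      (Fintype.card F - 1) * Module.finrank ℂ (fixList hC ρ P) := by
  classical
  simp only [leviOK, List.all_eq_true, List.mem_range, Bool.or_eq_true, Bool.and_eq_true,
    beq_iff_eq] at hok
  have hok' : ∀ i j : Fin (l + 1 + 1), i ≠ j →
      (L.sign i j * L.sign i j = 1 ∧
      (∀ p ∈ P, okPair D (L.root i j) p (fun k => P.contains k) = true) ∧
      (∀ k m : Fin (l + 1 + 1), k ≠ m → i ≠ m → j ≠ k →
        okPair D (L.root i j) (L.root k m) noRoot = true) ∧
      ∀ m : Fin (l + 1 + 1), i ≠ m → j ≠ m →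
        sumOK D (L.root i j) (L.root j m) (L.root i m) = true ∧
        okPair D (L.root i m) (L.root i j) noRoot = true ∧
        okPair D (L.root i m) (L.root j m) noRoot = true ∧
        sumCoef D (L.root i j) (L.root j m) * (L.sign i j * L.sign j m) = L.sign i m) := by
    intro i j h
    obtain ⟨⟨⟨h1, h2⟩, h3⟩, h4⟩ := (hok i i.isLt j j.isLt).resolve_left fun e => h (Fin.ext e)
    refine ⟨h1, h2, fun k m hkm him hjk => ?_, fun m him hjm => ?_⟩
    · rcases h3 k k.isLt m m.isLt with ((e | e) | e) | e
      · exact absurd (Fin.ext e) hkm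
      · exact absurd (Fin.ext e) him
      · exact absurd (Fin.ext e) hjk
      · exact e
    · rcases h4 m m.isLt with (e | e) | ⟨⟨⟨e1, e2⟩, e3⟩, e4⟩
      · exact absurd (Fin.ext e) him
      · exact absurd (Fin.ext e) hjm
      · exact ⟨e1, e2, e3, by rw [sumCoef_of_sum e1]; exact e4⟩
  set Y := fixList hC ρ P
  let x : Fin (l + 1 + 1) → Fin (l + 1 + 1) → F → ↥(stab ρ Y) := fun a b t =>
    if h : a ≠ b then
      ⟨xe hC (L.root a b) ((L.sign a b : F) * t), mem_stab_fixList hC ρ (hok' a b h).2.1 _⟩
    else 1
  have hx : ∀ {a b : Fin (l + 1 + 1)}, a ≠ b → ∀ t,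
      ((x a b t : ↥(stab ρ Y)) : ↥(D.group F)) = xe hC (L.root a b) ((L.sign a b : F) * t) := by
    intro a b h t
    simp only [x, dif_pos h]
  have S : H40.StRel x := by
    refine ⟨fun a b h t u => ?_, fun a b c d hab hcd had hbc t u => ?_,
      fun a b c hab hbc hac t u => ?_⟩
    · apply Subtype.ext
      rw [Subgroup.coe_mul, hx h, hx h, hx h, mul_add, xe_add]
    · apply Subtype.ext
      rw [Subgroup.coe_mul, Subgroup.coe_mul, hx hab, hx hcd]
      exact (okPair_commute hC ((hok' a b hab).2.2.1 c d hcd had hbc) _ _).eq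
    · apply Subtype.ext
      rw [Subgroup.coe_mul, Subgroup.coe_mul, Subgroup.coe_mul, Subgroup.coe_inv, Subgroup.coe_inv,
        hx hab, hx hbc, hx hac]
      obtain ⟨hs, hka, hkb, hsg⟩ := (hok' a b hab).2.2.2 c hac hbc
      obtain ⟨ha, hb, -, hne, hneg, hcomm, -⟩ := sumOK_spec hs
      set A : F := (L.sign a b : F) * t
      set B : F := (L.sign b c : F) * u
      have hC' : (L.sign a c : F) * (t * u) =
          (sumCoef D (L.root a b) (L.root b c) : F) * A * B := by
        rw [← hsg]
        push_cast
        ring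
      rw [hC']
      have key := xe_swap hC ha hb hne hneg hcomm A B
      rw [show (sumCoef D (L.root a b) (L.root b c) : F) * -A * B =
        -((sumCoef D (L.root a b) (L.root b c) : F) * A * B) by ring, ← xe_inv] at key
      set K := xe hC (L.root a c) ((sumCoef D (L.root a b) (L.root b c) : F) * A * B)
      have e : xe hC (L.root a b) A * xe hC (L.root b c) B =
          xe hC (L.root b c) B * xe hC (L.root a b) A * K := by
        rw [key, inv_mul_cancel_right]
      rw [e, mul_assoc (xe hC (L.root b c) B), ← (okPair_commute hC hka _ A).eq, ← mul_assoc,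
        mul_inv_cancel_right, ← (okPair_commute hC hkb _ B).eq, mul_inv_cancel_right]
  let e := MulEquiv.ofBijective (H40.stHom (l + 1 + 1) F) (H40.stHom_bijective (by omega))
  let f : SpecialLinearGroup (Fin (l + 1 + 1)) F →* ↥(stab ρ Y) :=
    (PresentedGroup.toGroup (H40.lift_stRels S)).comp e.symm.toMonoidHom
  have hf : ∀ {a b : Fin (l + 1 + 1)} (h : a ≠ b) (t : F),
      f (SpecialLinearGroup.transvection h t) = x a b t := by
    intro a b h t
    have he : e.symm (SpecialLinearGroup.transvection h t) = H40.stGen (l + 1 + 1) F a b t :=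
      e.symm_apply_eq.2 (H40.stHom_gen h t).symm
    simp only [f, MonoidHom.coe_comp, MulEquiv.coe_toMonoidHom, Function.comp_apply, he,
      H40.stGen_of h]
    exact PresentedGroup.toGroup.of _
  let σ : Representation ℂ (SpecialLinearGroup (Fin (l + 1 + 1)) F) ↥Y := (subRep ρ Y).comp f
  -- the single vector is moved
  obtain ⟨t, ht⟩ := AddChar.ne_one_iff.1 hδ
  have hs0 : (L.sign i j : F) ≠ 0 := intCast_ne_zero (hok' i j hij).1
  have hvY : v ∈ Y := (mem_fixList hC ρ).2 fun p hp => hv.2.2 p (hP p hp).1 (hP p hp).2.1 (hP p hp).2.2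
  have hne : σ (SpecialLinearGroup.transvection hij (t / (L.sign i j : F))) ≠ 1 := by
    intro h1
    have h2 : ρ (f (SpecialLinearGroup.transvection hij (t / (L.sign i j : F))) : ↥(D.group F)) v = v :=
      congrArg Subtype.val (LinearMap.congr_fun h1 ⟨v, hvY⟩)
    rw [hf hij, hx hij, mul_div_cancel₀ t hs0, hr, hv.2.1 t] at h2
    exact ht (smul_left_injective ℂ hv.1 (h2.trans (one_smul ℂ v).symm))
  refine H19.OM.sl_degree_bound (by omega) ?_ σ hij _ hne
  rintro (⟨h, -⟩ | ⟨h, -⟩) <;> omega

end H17.HeisDeg.RootAct
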