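import Cfsg.Agent.H17.HeisDegree.RootHeis

/-!
The one-dimensional eigenspace of the minimal orbit is fixed by every positive root group other
than that of the simple root.
-/

set_option autoImplicit false
set_option linter.unusedSectionVars false

namespace H17.HeisDeg.RootAct

open Cfsg.Lie H52

namespace HeisTable

variable (H : HeisTable)

/-- The roots of the abelian subgroup. -/
def base : List ℕ := H.tau ++ [H.r, H.z]

/-- `γ` keeps the minimal eigenspace, given that the roots in `S` fix it. -/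
def scalOK (D : ChevalleyDatum) (S : List ℕ) (γ : ℕ) : Bool :=
  H.base.all fun β => okPair D γ β fun k => S.contains k

/-- The checks on a closure certificate. -/
def stagesOK (D : ChevalleyDatum) : List ℕ → List (List (ℕ × ℕ × ℕ)) → Bool
  | _, [] => true
  | S, st :: rest => (st.all fun p => sumOK D p.2.1 p.2.2 p.1 && H.scalOK D S p.2.1 &&
      H.scalOK D S p.2.2) && stagesOK D (S ++ st.map Prod.fst) rest

/-- The roots shown to fix the eigenspace. -/
def fixedList : List ℕ → List (List (ℕ × ℕ × ℕ)) → List ℕ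
  | S, [] => S
  | S, st :: rest => fixedList (S ++ st.map Prod.fst) rest

/-- All positive roots other than `r` are covered. -/
def coverOK (D : ChevalleyDatum) (stages : List (List (ℕ × ℕ × ℕ))) : Bool :=
  H.stagesOK D (H.tau ++ [H.z]) stages &&
    (List.range D.nroots).all fun p =>
      decide (p < D.nroots / 2) || p == H.r || (fixedList (H.tau ++ [H.z]) stages).contains p

variable {H} {D : ChevalleyDatum} {T : Tables} {F : Type*} [Field F] {hC : Checked D T}
  {V : Type*} [AddCommGroup V] [Module ℂ V] {ρ : Representation ℂ ↥(D.group F) V}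
  (hH : H.Facts D)

/-- Vectors with the eigenvalues of the minimal orbit lie in its eigenspace. -/
theorem mem_line {δ : AddChar F ℂ} {w : V} (h1 : ∀ i, Eg hC ρ w (H.τ i) 1)
    (h2 : Eg hC ρ w H.r δ) (h3 : Eg hC ρ w H.z 1) :
    w ∈ eig ρ (core hC hH).u (Core.pc 1 δ 1) := by
  refine mem_eig.2 fun a => ?_
  show ρ (T2v hC hH a.1 * xe hC H.r a.2.1 * xe hC H.z a.2.2) w = _
  have hT : ρ (T2v hC hH a.1) w = w := by
    refine pi_induction (P := fun c => ρ (T2v hC hH c) w = w) ?_ (fun x y hx hy => ?_) (fun i t => ?_) a.1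
    · simp [T2v_zero]
    · rw [T2v_add, map_mul, Module.End.mul_apply, hy, hx]
    · rw [T2v_single]; exact (h1 i).fixed t
  rw [map_mul, map_mul, Module.End.mul_apply, Module.End.mul_apply, h3.fixed, h2, map_smul, hT]
  simp [Core.pc]

theorem base_cases {β : ℕ} (h : β ∈ H.base) : (∃ i, H.τ i = β) ∨ β = H.r ∨ β = H.z := by
  simp only [base, List.mem_append, List.mem_cons, List.not_mem_nil, or_false] at h
  rcases h with h | h
  · obtain ⟨n, hn, rfl⟩ := List.getElem_of_mem h
    exact Or.inl ⟨⟨n, hn⟩, List.getD_eq_getElem _ 0 hn⟩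
  · exact Or.inr h

theorem tau_mem (i : H.idx) : H.τ i ∈ H.tau := by
  rw [τ, List.getD_eq_getElem _ 0 i.isLt]
  exact List.getElem_mem _

/-- The vector of the minimal orbit is fixed by all positive root groups other than `r`. -/
theorem single_vector [Fintype F] [FiniteDimensional ℂ V] {δ : AddChar F ℂ} (hδ : δ ≠ 1)
    (hA : (core hC hH).m ρ 1 δ 1 = 1) {stages : List (List (ℕ × ℕ × ℕ))}
    (hcov : H.coverOK D stages = true) :
    ∃ v : V, v ≠ 0 ∧ Eg hC ρ v H.r δ ∧
      ∀ p, p < D.nroots → D.nroots / 2 ≤ p → p ≠ H.r → Eg hC ρ v p 1 := by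
  obtain ⟨w, hw0, hspan⟩ := finrank_eq_one_iff'.1 hA
  obtain ⟨v, hv⟩ : ∃ v : V, (w : V) = v := ⟨_, rfl⟩
  have hv0 : v ≠ 0 := fun h => hw0 (Subtype.ext (hv.trans h))
  obtain ⟨hT, hR, hZ⟩ := (core hC hH).mem_pc (v := v) (hv ▸ w.2)
  have hτ : ∀ i, Eg hC ρ v (H.τ i) 1 := fun i t => by
    have := hT (Pi.single i t)
    change ρ (T2v hC hH (Pi.single i t)) v = _ at this
    rw [T2v_single] at this
    rw [this]
    rfl
  have hz : Eg hC ρ v H.z 1 := hZ
  have hr : Eg hC ρ v H.r δ := hR
  have scal : ∀ (S : List ℕ), (∀ k ∈ S, Eg hC ρ v k 1) → ∀ γ, H.scalOK D S γ = true →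
      ∃ f : F → ℂ, ∀ t, ρ (xe hC γ t) v = f t • v := by
    intro S hS γ hγ
    simp only [scalOK, List.all_eq_true] at hγ
    have hfix : ∀ k, (fun k => S.contains k) k = true → Eg hC ρ v k 1 := fun k hk =>
      hS k (by simpa using hk)
    have : ∀ t, ∃ c : ℂ, ρ (xe hC γ t) v = c • v := by
      intro t
      have hmem := mem_line hH (δ := δ) (w := ρ (xe hC γ t) v)
        (fun i => push (hγ _ (List.mem_append_left _ (tau_mem i))) hfix (hτ i) t)
        (push (hγ _ (by simp [base])) hfix hr t) (push (hγ _ (by simp [base])) hfix hz t)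
      obtain ⟨c, hc⟩ := hspan ⟨_, hmem⟩
      have h := congrArg Subtype.val hc
      simp only [SetLike.val_smul, hv] at h
      exact ⟨c, h.symm⟩
    exact ⟨fun t => (this t).choose, fun t => (this t).choose_spec⟩
  have main : ∀ (stages : List (List (ℕ × ℕ × ℕ))) (S : List ℕ), (∀ k ∈ S, Eg hC ρ v k 1) →
      H.stagesOK D S stages = true → ∀ k ∈ fixedList S stages, Eg hC ρ v k 1 := by
    intro stages
    induction stages with
    | nil => intro S hS _ k hk; exact hS k hk
    | cons st rest ih =>
      intro S hS hok k hk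
      simp only [stagesOK, Bool.and_eq_true, List.all_eq_true] at hok
      refine ih _ (fun k' hk' => ?_) hok.2 k hk
      rcases List.mem_append.1 hk' with hk' | hk'
      · exact hS k' hk'
      · obtain ⟨p, hp, rfl⟩ := List.mem_map.1 hk'
        obtain ⟨⟨h1, h2⟩, h3⟩ := hok.1 p hp
        obtain ⟨fa, hfa⟩ := scal S hS _ h2
        obtain ⟨fb, hfb⟩ := scal S hS _ h3
        exact fixed_of_scalar h1 hfa hfb
  simp only [coverOK, Bool.and_eq_true, List.all_eq_true, List.mem_range, Bool.or_eq_true,
    decide_eq_true_eq, beq_iff_eq, List.contains_iff_mem] at hcov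
  refine ⟨v, hv0, hr, fun p hp hpos hpr => main stages _ (fun k hk => ?_) hcov.1 p ?_⟩
  · rcases List.mem_append.1 hk with hk | hk
    · obtain ⟨n, hn, rfl⟩ := List.getElem_of_mem hk
      have := hτ ⟨n, hn⟩
      rwa [τ, List.getD_eq_getElem _ 0 hn] at this
    · rw [List.mem_singleton.1 hk]; exact hz
  · rcases hcov.2 p hp with (h | h) | h
    · omega
    · exact absurd h hpr
    · exact h

end HeisTable

end H17.HeisDeg.RootAct
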