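import Cfsg.Agent.H17.HeisDegree.RootBottom
import Cfsg.Agent.H17.HeisDegree.RootLine
import Cfsg.Agent.H12.Integral

/-!
The degree of an irreducible representation of a simple Chevalley group in terms of the fixed
vectors of the highest root group.
-/

set_option autoImplicit false
set_option linter.unusedSectionVars false

namespace H17.HeisDeg.RootAct

open Cfsg.Lie H52

variable {D : ChevalleyDatum} {T : Tables} {F : Type*} [Field F] [Fintype F] (hC : Checked D T)

/-- Irreducible representations of degree at least two are faithful on a simple group. -/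
theorem eq_one_of_rho_eq_one {G : Type*} [Group G] [IsSimpleGroup G] {k : ℕ}
    (ρ : Representation ℂ G (Fin k → ℂ)) (hirr : ρ.IsIrreducible) (hk : 2 ≤ k) {g : G}
    (hg : ρ g = 1) : g = 1 := by
  rcases (MonoidHom.normal_ker ρ).eq_bot_or_eq_top with hker | hker
  · rw [← Subgroup.mem_bot, ← hker]
    exact MonoidHom.mem_ker.2 hg
  · have htriv : ∀ g, ρ g = 1 := fun g => MonoidHom.mem_ker.1 (hker ▸ Subgroup.mem_top g)
    let i0 : Fin k := ⟨0, by omega⟩
    let S : Subrepresentation ρ :=
      { toSubmodule := Submodule.span ℂ {Pi.single i0 (1 : ℂ)}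
        apply_mem_toSubmodule := fun g v hv => by rw [htriv g]; exact hv }
    haveI := hirr
    exfalso
    rcases IsSimpleOrder.eq_bot_or_eq_top S with h' | h'
    · have e' : S.toSubmodule = ⊥ := by rw [h']; rfl
      simp [S, Pi.single_eq_zero_iff] at e'
    · have e' : S.toSubmodule = ⊤ := by rw [h']; rfl
      have hfr := congrArg (fun U : Submodule ℂ (Fin k → ℂ) => Module.finrank ℂ U) e'
      simp only [S, finrank_top, Module.finrank_fin_fun] at hfr
      rw [finrank_span_singleton (by simp [Pi.single_eq_zero_iff])] at hfr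
      omega

open Classical in
/-- **The count**: the degree is the fixed space of the highest root group and a multiple of
`(q - 1) q^{|τ| + 1}`; if the multiple is one there is a single vector. -/
theorem radical_count {H : HeisTable} (hH : H.ok D = true) {stages : List (List (ℕ × ℕ × ℕ))}
    (hcov : H.coverOK D stages = true) [IsSimpleGroup ↥(D.group F)] {k : ℕ}
    (ρ : Representation ℂ ↥(D.group F) (Fin k → ℂ)) (hirr : ρ.IsIrreducible) (hk : 2 ≤ k) :
    ∃ A : ℕ, 1 ≤ A ∧
      k = Module.finrank ℂ (fixList hC ρ [H.z]) +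
        (Fintype.card F - 1) * A * (Fintype.card F ^ H.tau.length * Fintype.card F) ∧
      (Fintype.card F - 1) * A * Fintype.card F ^ H.tau.length ≤
        Module.finrank ℂ (fixList hC ρ [H.z]) ∧
      (A = 1 → ∃ (v : Fin k → ℂ) (δ : AddChar F ℂ), δ ≠ 1 ∧ Single hC ρ v H.r δ) := by
  have hF := HeisTable.facts hH
  obtain ⟨δ, hδ⟩ : ∃ δ : AddChar F ℂ, δ ≠ 1 := by
    haveI : Nontrivial (AddChar F ℂ) := Fintype.one_lt_card_iff_nontrivial.1 (by
      rw [AddChar.card_eq]; exact Fintype.one_lt_card)
    exact exists_ne 1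
  obtain ⟨hk', hle⟩ := (HeisTable.core hC hF).counting (ρ := ρ) hδ
  rw [Fintype.card_fin] at hk' hle
  rw [Module.finrank_fin_fun] at hk'
  have hz : fixList hC ρ [H.z] = eig ρ (HeisTable.core hC hF).z 1 := by
    ext w
    rw [mem_fixList, mem_eig]
    simp [Eg, HeisTable.core]
  have hmult : mult ρ (HeisTable.core hC hF).z 1 = Module.finrank ℂ (fixList hC ρ [H.z]) := by
    rw [hz]; rfl
  rw [hmult] at hk' hle
  refine ⟨_, ?_, hk', hle, fun hA => ?_⟩
  · by_contra h0
    rw [Nat.lt_one_iff.1 (not_le.1 h0), Nat.mul_zero, zero_mul, add_zero] at hk'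
    have htop : fixList hC ρ [H.z] = ⊤ :=
      Submodule.eq_top_of_finrank_eq (by rw [Module.finrank_fin_fun]; exact hk'.symm)
    refine xe_ne_one hC (okPair_spec hF.r_z).2.1 (one_ne_zero (α := F))
      (eq_one_of_rho_eq_one ρ hirr hk (LinearMap.ext fun w => ?_))
    have hw : w ∈ fixList hC ρ [H.z] := htop ▸ Submodule.mem_top
    rw [mem_fixList] at hw
    exact (hw H.z (by simp)).fixed 1
  · obtain ⟨v, hv0, hvr, hvp⟩ := HeisTable.single_vector hF hδ hA hcov
    exact ⟨v, δ, hδ, hv0, hvr, hvp⟩

/-- The degree divides the order. -/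
theorem degree_dvd_order {G : Type*} [Group G] [Finite G] {k : ℕ}
    (ρ : Representation ℂ G (Fin k → ℂ)) (hirr : ρ.IsIrreducible) : k ∣ Nat.card G := by
  haveI := Fintype.ofFinite G
  have := H12.irr_degree_dvd_card (⟨ρ.character, k, ρ, hirr, rfl⟩ : Cfsg.IrrCharacter G)
  simpa [H12.degree, Representation.character] using this

end H17.HeisDeg.RootAct
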