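import Cfsg.Agent.H17.HeisDegree.RootAct
import Cfsg.Agent.H17.HeisDegree.Heis

/-!
The counting data of the Heisenberg radical of a simply laced Chevalley group from a table.
-/

set_option autoImplicit false
set_option linter.unusedSectionVars false

namespace H17.HeisDeg.RootAct

open Cfsg.Lie H52

/-- No root allowed. -/
def noRoot : ℕ → Bool := fun _ => false

variable {D : ChevalleyDatum} {T : Tables} {F : Type*} [Field F] (hC : Checked D T)

theorem okPair_commute {a b : ℕ} (h : okPair D a b noRoot = true) (t u : F) :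
    Commute (xe hC a t) (xe hC b u) := by
  obtain ⟨ha, hb, h⟩ := okPair_spec h
  rcases h with rfl | ⟨hne, hneg, h | ⟨k, c, -, hk⟩⟩
  · show _ * _ = _ * _
    rw [← xe_add, ← xe_add, add_comm]
  · exact (xe_comm hC ha hb hne hneg h t u).symm
  · simp [noRoot] at hk

theorem conj_of_ok {a b : ℕ} (h : okPair D a b noRoot = true) (t u : F) :
    (xe hC a t)⁻¹ * xe hC b u * xe hC a t = xe hC b u := by
  rw [mul_assoc, ← (okPair_commute hC h t u).eq, inv_mul_cancel_left]

theorem conj_of_sum {a b k : ℕ} (h : sumOK D a b k = true) (s u : F) :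
    (xe hC a (-((sumCoef D a b : F) * s)))⁻¹ * xe hC b u * xe hC a (-((sumCoef D a b : F) * s)) =
      xe hC b u * xe hC k (s * u) := by
  obtain ⟨ha, hb, -, hne, hneg, h, hc⟩ := sumOK_spec h
  rw [mul_assoc, xe_swap hC ha hb hne hneg h, ← mul_assoc, inv_mul_cancel_left]
  congr 2
  have hc' : (sumCoef D a b : F) * (sumCoef D a b : F) = 1 := by
    rw [← Int.cast_mul, hc, Int.cast_one]
  rw [neg_neg, ← mul_assoc, hc', one_mul]

/-- A word in the fundamental reflections conjugating a root group onto another. -/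
theorem exists_word_conj (L : List ℕ) (r : ℕ) (hr : r < D.nroots) (hL : ∀ i ∈ L, i < D.rank) :
    L.foldr D.reflectRoot r < D.nroots ∧ ∃ (g : ↥(D.group F)) (ε : F), ε ≠ 0 ∧
      ∀ t, g⁻¹ * xe hC (L.foldr D.reflectRoot r) t * g = xe hC r (ε * t) := by
  induction L with
  | nil => exact ⟨hr, 1, 1, one_ne_zero, fun t => by simp⟩
  | cons i L ih =>
    obtain ⟨hlt, g, ε, hε, hg⟩ := ih fun j hj => hL j (List.mem_cons_of_mem _ hj)
    have hi := hL i List.mem_cons_self
    refine ⟨hC.reflect_lt hi hlt, ne hC i * g, ε * (T.eps i (L.foldr D.reflectRoot r) : F),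
      mul_ne_zero hε fun h => by simpa [h] using Checked.eps_cast_mul_self (T := T) (F := F) i (L.foldr D.reflectRoot r),
      fun t => ?_⟩
    rw [List.foldr_cons, mul_inv_rev, mul_assoc ε, ← hg, ← ne_conj hi hlt]
    group

/-- The table of a Heisenberg radical. -/
structure HeisTable where
  l : ℕ
  r : ℕ
  z : ℕ
  tau : List ℕ
  aa : List ℕ
  sigma : List ℕ
  word : List ℕ
  node : ℕ

namespace HeisTable

variable (H : HeisTable)

/-- The checks on a table. -/
def ok (D : ChevalleyDatum) : Bool :=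
  (H.aa.length == H.tau.length) && (H.sigma.length == H.tau.length) &&
  decide (H.node < D.rank) && (D.cartan H.node H.r == -1) &&
  (H.word.all fun i => decide (i < D.rank)) && (H.word.foldr D.reflectRoot H.r == H.z) &&
  sumOK D H.l H.r H.z && okPair D H.l H.z noRoot &&
  okPair D H.r H.z noRoot &&
  (List.range H.tau.length).all fun i =>
    let τ := H.tau.getD i 0
    okPair D τ H.r noRoot && okPair D τ H.z noRoot && okPair D H.l τ noRoot &&
    sumOK D (H.aa.getD i 0) τ H.z && okPair D (H.aa.getD i 0) H.r noRoot &&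
    okPair D (H.aa.getD i 0) H.z noRoot &&
    sumOK D (H.sigma.getD i 0) τ H.r && okPair D (H.sigma.getD i 0) H.r noRoot &&
    okPair D (H.sigma.getD i 0) H.z noRoot &&
    (List.range H.tau.length).all fun j =>
      okPair D τ (H.tau.getD j 0) noRoot && (i == j ||
        (okPair D (H.aa.getD i 0) (H.tau.getD j 0) noRoot &&
         okPair D (H.sigma.getD i 0) (H.tau.getD j 0) noRoot))

/-- The index of the abelian part. -/
abbrev idx : Type := Fin H.tau.length

/-- The abelian root. -/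
def τ (i : H.idx) : ℕ := H.tau.getD i.val 0

structure Facts (D : ChevalleyDatum) : Prop where
  node_lt : H.node < D.rank
  cart : D.cartan H.node H.r = -1
  word_lt : ∀ i ∈ H.word, i < D.rank
  word_eq : H.word.foldr D.reflectRoot H.r = H.z
  l_r : sumOK D H.l H.r H.z = true
  l_z : okPair D H.l H.z noRoot = true
  r_z : okPair D H.r H.z noRoot = true
  t_r : ∀ i, okPair D (H.τ i) H.r noRoot = true
  t_z : ∀ i, okPair D (H.τ i) H.z noRoot = true
  l_t : ∀ i, okPair D H.l (H.τ i) noRoot = true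
  a_t : ∀ i : H.idx, sumOK D (H.aa.getD i.val 0) (H.τ i) H.z = true
  a_r : ∀ i : H.idx, okPair D (H.aa.getD i.val 0) H.r noRoot = true
  a_z : ∀ i : H.idx, okPair D (H.aa.getD i.val 0) H.z noRoot = true
  s_t : ∀ i : H.idx, sumOK D (H.sigma.getD i.val 0) (H.τ i) H.r = true
  s_r : ∀ i : H.idx, okPair D (H.sigma.getD i.val 0) H.r noRoot = true
  s_z : ∀ i : H.idx, okPair D (H.sigma.getD i.val 0) H.z noRoot = true
  t_t : ∀ i j, okPair D (H.τ i) (H.τ j) noRoot = true
  a_t' : ∀ i j : H.idx, i ≠ j → okPair D (H.aa.getD i.val 0) (H.τ j) noRoot = true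
  s_t' : ∀ i j : H.idx, i ≠ j → okPair D (H.sigma.getD i.val 0) (H.τ j) noRoot = true

variable {H}

theorem facts (h : H.ok D = true) : H.Facts D := by
  simp only [ok, Bool.and_eq_true, beq_iff_eq, decide_eq_true_eq, List.all_eq_true, List.mem_range,
    Bool.or_eq_true] at h
  obtain ⟨⟨⟨⟨⟨⟨⟨⟨⟨-, -⟩, hn⟩, hc⟩, hw⟩, hwe⟩, hlr⟩, hlz⟩, hrz⟩, hi⟩ := h
  refine { node_lt := hn, cart := hc, word_lt := hw, word_eq := hwe, l_r := hlr, l_z := hlz, r_z := hrz,
           t_r := ?_, t_z := ?_, l_t := ?_, a_t := ?_, a_r := ?_, a_z := ?_, s_t := ?_, s_r := ?_,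
           s_z := ?_, t_t := ?_, a_t' := ?_, s_t' := ?_ } <;> intro i <;>
    obtain ⟨⟨⟨⟨⟨⟨⟨⟨⟨h1, h2⟩, h3⟩, h4⟩, h5⟩, h6⟩, h7⟩, h8⟩, h9⟩, h10⟩ := hi i.val i.isLt
  · exact h1
  · exact h2
  · exact h3
  · exact h4
  · exact h5
  · exact h6
  · exact h7
  · exact h8
  · exact h9
  · exact fun j => (h10 j.val j.isLt).1
  · exact fun j hij => (((h10 j.val j.isLt).2).resolve_left fun e => hij (Fin.ext e)).1
  · exact fun j hij => (((h10 j.val j.isLt).2).resolve_left fun e => hij (Fin.ext e)).2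

variable (H)

/-- A root group as a homomorphism. -/
noncomputable def xeHom (hC : Checked D T) (r : ℕ) : Multiplicative F →* ↥(D.group F) where
  toFun t := xe hC r t.toAdd
  map_one' := xe_zero hC r
  map_mul' a b := xe_add hC r a.toAdd b.toAdd

variable {H} (hH : H.Facts D)

/-- The abelian part as a homomorphism. -/
noncomputable def T2hom : (H.idx → Multiplicative F) →* ↥(D.group F) :=
  MonoidHom.noncommPiCoprod (fun i => xeHom hC (H.τ i))
    fun i j _ x y => okPair_commute hC (hH.t_t i j) x.toAdd y.toAdd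

/-- The abelian part. -/
noncomputable def T2v (c : H.idx → F) : ↥(D.group F) :=
  T2hom hC hH fun i => Multiplicative.ofAdd (c i)

theorem T2v_add (a b : H.idx → F) : T2v hC hH (a + b) = T2v hC hH a * T2v hC hH b := by
  rw [T2v, T2v, T2v, ← map_mul]
  rfl

theorem T2v_single (i : H.idx) (u : F) : T2v hC hH (Pi.single i u) = xe hC (H.τ i) u := by
  rw [T2v, show (fun j => Multiplicative.ofAdd ((Pi.single i u : H.idx → F) j)) =
      Pi.mulSingle i (Multiplicative.ofAdd u) by
    funext j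
    by_cases hj : j = i
    · subst hj; simp
    · simp [Pi.single_eq_of_ne hj, Pi.mulSingle_eq_of_ne hj],
    T2hom]
  exact MonoidHom.noncommPiCoprod_mulSingle _ _ _

theorem T2v_zero : T2v hC hH (0 : H.idx → F) = 1 := map_zero_eq (T2v_add hC hH)

omit hH in
/-- Induction on vectors. -/
@[elab_as_elim]
theorem pi_induction {P : (H.idx → F) → Prop} (h0 : P 0) (hadd : ∀ a b, P a → P b → P (a + b))
    (hs : ∀ i u, P (Pi.single i u)) (c : H.idx → F) : P c := by
  rw [← Finset.univ_sum_single c]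
  exact Finset.sum_induction _ P hadd h0 fun i _ => hs i _

theorem T2v_commute {b : ℕ} (h : ∀ i, okPair D (H.τ i) b noRoot = true) (u : F) (c : H.idx → F) :
    Commute (T2v hC hH c) (xe hC b u) := by
  refine pi_induction ?_ (fun a b' ha hb => ?_) (fun i t => ?_) c
  · rw [T2v_zero]; exact Commute.one_left _
  · rw [T2v_add]; exact ha.mul_left hb
  · rw [T2v_single]; exact okPair_commute hC (h i) t u

theorem conj_T2 {g : ↥(D.group F)} {k : ℕ} (b : H.idx → F)
    (hk : ∀ i, okPair D (H.τ i) k noRoot = true)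
    (hs : ∀ i u, g⁻¹ * xe hC (H.τ i) u * g = xe hC (H.τ i) u * xe hC k (b i * u)) (c : H.idx → F) :
    g⁻¹ * T2v hC hH c * g = T2v hC hH c * xe hC k (b ⬝ᵥ c) := by
  refine pi_induction ?_ (fun x y hx hy => ?_) (fun i t => ?_) c
  · rw [T2v_zero, dotProduct_zero, xe_zero]; group
  · rw [T2v_add, dotProduct_add, xe_add,
      show g⁻¹ * (T2v hC hH x * T2v hC hH y) * g =
        (g⁻¹ * T2v hC hH x * g) * (g⁻¹ * T2v hC hH y * g) by group, hx, hy]
    rw [mul_assoc, ← mul_assoc (xe hC k _), ← (T2v_commute hC hH hk _ y).eq]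
    simp only [mul_assoc]
  · rw [T2v_single, dotProduct_single, hs]

/-- The counting data. -/
noncomputable def core : Core ↥(D.group F) F H.idx where
  T2 := T2v hC hH
  r := xe hC H.r
  z := xe hC H.z
  T2_add := T2v_add hC hH
  r_add := xe_add hC H.r
  z_add := xe_add hC H.z
  T2_r c d := T2v_commute hC hH hH.t_r d c
  T2_z c e := T2v_commute hC hH hH.t_z e c
  r_z d e := okPair_commute hC hH.r_z d e
  shift b a := by
    have key : ∀ b : H.idx → F, ∃ g : ↥(D.group F), (∀ e, g⁻¹ * xe hC H.z e * g = xe hC H.z e) ∧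
        (∀ d, g⁻¹ * xe hC H.r d * g = xe hC H.r d) ∧
        ∀ c, g⁻¹ * T2v hC hH c * g = T2v hC hH c * xe hC H.z (b ⬝ᵥ c) := by
      refine fun b => pi_induction ?_ (fun x y hx hy => ?_) (fun i t => ?_) b
      · exact ⟨1, fun e => by simp, fun d => by simp, fun c => by simp [xe_zero]⟩
      · obtain ⟨g, g1, g2, g3⟩ := hx
        obtain ⟨g', k1, k2, k3⟩ := hy
        refine ⟨g * g', fun e => ?_, fun d => ?_, fun c => ?_⟩
        · rw [show (g * g')⁻¹ * xe hC H.z e * (g * g') = g'⁻¹ * (g⁻¹ * xe hC H.z e * g) * g' by group,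
            g1, k1]
        · rw [show (g * g')⁻¹ * xe hC H.r d * (g * g') = g'⁻¹ * (g⁻¹ * xe hC H.r d * g) * g' by group,
            g2, k2]
        · rw [show (g * g')⁻¹ * T2v hC hH c * (g * g') = g'⁻¹ * (g⁻¹ * T2v hC hH c * g) * g' by group,
            g3, show g'⁻¹ * (T2v hC hH c * xe hC H.z (x ⬝ᵥ c)) * g' =
              (g'⁻¹ * T2v hC hH c * g') * (g'⁻¹ * xe hC H.z (x ⬝ᵥ c) * g') by group, k3, k1,
            mul_assoc, ← xe_add, add_dotProduct, add_comm]
      · refine ⟨xe hC (H.aa.getD i.val 0) (-((sumCoef D (H.aa.getD i.val 0) (H.τ i) : F) * t)),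
          fun e => conj_of_ok hC (hH.a_z i) _ e, fun d => conj_of_ok hC (hH.a_r i) _ d,
          conj_T2 hC hH _ hH.t_z fun j u => ?_⟩
        by_cases hij : i = j
        · subst hij
          rw [conj_of_sum hC (hH.a_t i), Pi.single_eq_same]
        · rw [conj_of_ok hC (hH.a_t' i j hij), Pi.single_eq_of_ne (Ne.symm hij), zero_mul, xe_zero,
            mul_one]
    obtain ⟨g, g1, g2, g3⟩ := key b
    set l := xe hC H.l (-((sumCoef D H.l H.r : F) * a))
    have lT : ∀ c, l⁻¹ * T2v hC hH c * l = T2v hC hH c := by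
      intro c
      refine pi_induction ?_ (fun x y hx hy => ?_) (fun i t => ?_) c
      · rw [T2v_zero]; group
      · rw [T2v_add, show l⁻¹ * (T2v hC hH x * T2v hC hH y) * l =
          (l⁻¹ * T2v hC hH x * l) * (l⁻¹ * T2v hC hH y * l) by group, hx, hy]
      · rw [T2v_single]; exact conj_of_ok hC (hH.l_t i) _ t
    refine ⟨g * l, fun e => ?_, fun d => ?_, fun c => ?_⟩
    · rw [show (g * l)⁻¹ * xe hC H.z e * (g * l) = l⁻¹ * (g⁻¹ * xe hC H.z e * g) * l by group, g1]
      exact conj_of_ok hC hH.l_z _ e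
    · rw [show (g * l)⁻¹ * xe hC H.r d * (g * l) = l⁻¹ * (g⁻¹ * xe hC H.r d * g) * l by group, g2]
      exact conj_of_sum hC hH.l_r a d
    · rw [show (g * l)⁻¹ * T2v hC hH c * (g * l) = l⁻¹ * (g⁻¹ * T2v hC hH c * g) * l by group, g3,
        show l⁻¹ * (T2v hC hH c * xe hC H.z (b ⬝ᵥ c)) * l =
          (l⁻¹ * T2v hC hH c * l) * (l⁻¹ * xe hC H.z (b ⬝ᵥ c) * l) by group, lT,
        conj_of_ok hC hH.l_z]
  raise t := by
    refine pi_induction ?_ (fun x y hx hy => ?_) (fun i s => ?_) t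
    · exact ⟨1, fun e => by simp, fun d => by simp, fun c => by simp [xe_zero]⟩
    · obtain ⟨g, g1, g2, g3⟩ := hx
      obtain ⟨g', k1, k2, k3⟩ := hy
      refine ⟨g * g', fun e => ?_, fun d => ?_, fun c => ?_⟩
      · rw [show (g * g')⁻¹ * xe hC H.z e * (g * g') = g'⁻¹ * (g⁻¹ * xe hC H.z e * g) * g' by group,
          g1, k1]
      · rw [show (g * g')⁻¹ * xe hC H.r d * (g * g') = g'⁻¹ * (g⁻¹ * xe hC H.r d * g) * g' by group,
          g2, k2]
      · rw [show (g * g')⁻¹ * T2v hC hH c * (g * g') = g'⁻¹ * (g⁻¹ * T2v hC hH c * g) * g' by group,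
          g3, show g'⁻¹ * (T2v hC hH c * xe hC H.r (x ⬝ᵥ c)) * g' =
            (g'⁻¹ * T2v hC hH c * g') * (g'⁻¹ * xe hC H.r (x ⬝ᵥ c) * g') by group, k3, k2,
          mul_assoc, ← xe_add, add_dotProduct, add_comm]
    · refine ⟨xe hC (H.sigma.getD i.val 0) (-((sumCoef D (H.sigma.getD i.val 0) (H.τ i) : F) * s)),
        fun e => conj_of_ok hC (hH.s_z i) _ e, fun d => conj_of_ok hC (hH.s_r i) _ d,
        conj_T2 hC hH _ hH.t_r fun j u => ?_⟩
      by_cases hij : i = j
      · subst hij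
        rw [conj_of_sum hC (hH.s_t i), Pi.single_eq_same]
      · rw [conj_of_ok hC (hH.s_t' i j hij), Pi.single_eq_of_ne (Ne.symm hij), zero_mul, xe_zero,
          mul_one]
  conj_z := by
    have hr := (okPair_spec hH.r_z).1
    obtain ⟨-, g, ε, hε, hg⟩ := exists_word_conj (F := F) hC H.word H.r hr hH.word_lt
    exact ⟨g, ε, hε, by rwa [hH.word_eq] at hg⟩
  scal μ hμ := by
    have hr := (okPair_spec hH.r_z).1
    have hz := (okPair_spec hH.r_z).2.1
    obtain ⟨c, hc⟩ := exists_te_scale (F := F) hH.node_lt hr hH.cart hμ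
    refine ⟨te hC c, fun d => ?_, fun e => ⟨_, te_conj c hz e⟩, fun x => ?_⟩
    · rw [te_conj c hr, hc]
    · refine pi_induction ?_ (fun a b ha hb => ?_) (fun i t => ?_) x
      · exact ⟨0, by rw [T2v_zero]; group⟩
      · obtain ⟨a', ha'⟩ := ha
        obtain ⟨b', hb'⟩ := hb
        refine ⟨a' + b', ?_⟩
        rw [T2v_add, T2v_add, ← ha', ← hb']
        group
      · refine ⟨Pi.single i (((∏ l : Fin D.rank, c⁻¹ l ^ D.cartan l.val (H.τ i) : Fˣ) : F) * t), ?_⟩
        rw [T2v_single, T2v_single]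
        exact te_conj c (okPair_spec (hH.t_r i)).1 t

end HeisTable

end H17.HeisDeg.RootAct
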