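import Cfsg.Agent.H17.HeisDegree.RootProp

/-!
The orbit of a single vector under a Levi factor gives independent eigenvectors of the radical.
-/

set_option autoImplicit false
set_option linter.unusedSectionVars false

namespace H17.HeisDeg.RootAct

open Cfsg.Lie H52

/-- One root of the radical: the reflection and root it comes from, and its translating roots,
each with the root it moves to the given one. -/
structure LevelItem where
  M : ℕ
  node : ℕ
  parent : ℕ
  phi : List (ℕ × ℕ)

/-- Membership in `prev` or being a later root of the radical. -/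
def goodRoot (prev U : List ℕ) (M p : ℕ) : Bool := prev.contains p || (U.contains p && decide (M < p))

/-- The translating roots move `prev` into itself and raise the roots of the radical. -/
def betaOK (D : ChevalleyDatum) (prev U : List ℕ) (β : ℕ) : Bool :=
  (prev.all fun p => okPair D β p (fun k => prev.contains k)) &&
    U.all fun p => okPair D β p (fun k => prev.contains k || (U.contains k && decide (p < k)))

/-- A fundamental reflection permutes `prev` and the radical. -/
def nodeOK (D : ChevalleyDatum) (prev U : List ℕ) (i : ℕ) : Bool :=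
  (prev.all fun p => prev.contains (D.reflectRoot i p) && (D.reflectRoot i (D.reflectRoot i p) == p)) &&
    U.all fun p => U.contains (D.reflectRoot i p) && (D.reflectRoot i (D.reflectRoot i p) == p)

/-- The checks on an item. -/
def itemOK (D : ChevalleyDatum) (prev U betas nodes : List ℕ) (jr : ℕ) (earlier : List ℕ) (it : LevelItem) : Bool :=
  U.contains it.M &&
  (it.M == jr || (decide (it.node < D.rank) && earlier.contains it.parent && U.contains it.parent &&
    (D.reflectRoot it.node it.parent == it.M) && nodes.contains it.node)) &&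
  (it.phi.all fun x => U.contains x.2 && (x.2 != it.M) && sumOK D x.1 x.2 it.M && okPair D x.1 it.M noRoot &&
    betas.contains x.1 &&
    it.phi.all fun y => x.1 == y.1 || okPair D x.1 y.2 noRoot) &&
  decide ((it.phi.map Prod.fst).Nodup)

/-- The checks on all items, in order. -/
def itemsOK (D : ChevalleyDatum) (prev U betas nodes : List ℕ) (jr : ℕ) : List ℕ → List LevelItem → Bool
  | _, [] => true
  | earlier, it :: rest => itemOK D prev U betas nodes jr earlier it && itemsOK D prev U betas nodes jr (earlier ++ [it.M]) rest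

/-- The checks on a level. -/
def levelOK (D : ChevalleyDatum) (prev U betas nodes : List ℕ) (jr adj : ℕ) (items : List LevelItem) : Bool :=
  itemsOK D prev U betas nodes jr [] items && decide ((items.map LevelItem.M).Nodup) &&
    decide (adj < D.rank) && (D.cartan adj jr == -1) && !prev.contains jr &&
    ((prev ++ U).all fun p => decide (p < D.nroots) && decide (D.nroots / 2 ≤ p)) &&
    betas.all (betaOK D prev U) && nodes.all (nodeOK D prev U)

/-- The number of vectors of a level, per nontrivial character. -/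
def levelSize (items : List LevelItem) (q : ℕ) : ℕ := (items.map fun it => q ^ it.phi.length).sum

variable {D : ChevalleyDatum} {T : Tables} {F : Type*} [Field F] (hC : Checked D T)
  {V : Type*} [AddCommGroup V] [Module ℂ V] (ρ : Representation ℂ ↥(D.group F) V)

/-- The vectors fixed by a list of root groups. -/
noncomputable def fixList (P : List ℕ) : Submodule ℂ V := fixSpace hC ρ fun p => P.contains p

theorem mem_fixList {P : List ℕ} {w : V} : w ∈ fixList hC ρ P ↔ ∀ p ∈ P, Eg hC ρ w p 1 := by
  rw [fixList, mem_fixSpace]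
  simp

/-- A vector realising a root of the radical for a character. -/
def Real (prev U : List ℕ) (M : ℕ) (δ : AddChar F ℂ) (w : V) : Prop :=
  w ≠ 0 ∧ Eg hC ρ w M δ ∧ (∀ p ∈ prev, Eg hC ρ w p 1) ∧ ∀ p ∈ U, p ≠ M → Eg hC ρ w p 1

/-- Translation by a list of root elements. -/
noncomputable def mvec : (L : List (ℕ × ℕ)) → (Fin L.length → F) → V → V
  | [], _, w => w
  | x :: L, u, w => ρ (xe hC x.1 (u ⟨0, Nat.succ_pos _⟩)) (mvec L (fun i => u i.succ) w)

theorem mvec_good {prev U : List ℕ} {M : ℕ} {δ : AddChar F ℂ} {w : V} (hw : w ≠ 0)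
    (hM : Eg hC ρ w M δ) :
    ∀ (L : List (ℕ × ℕ)) (u : Fin L.length → F),
      (∀ x ∈ L, okPair D x.1 M noRoot = true ∧
        ∀ p ∈ prev ++ U, goodRoot prev U M p = true → okPair D x.1 p (goodRoot prev U M) = true) →
      (∀ p, goodRoot prev U M p = true → Eg hC ρ w p 1) →
      mvec hC ρ L u w ≠ 0 ∧ Eg hC ρ (mvec hC ρ L u w) M δ ∧
        ∀ p, goodRoot prev U M p = true → Eg hC ρ (mvec hC ρ L u w) p 1 := by
  intro L
  induction L with
  | nil => exact fun u _ h => ⟨hw, hM, h⟩
  | cons x L ih =>
    intro u hok h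
    obtain ⟨i0, i1, i2⟩ := ih (fun i => u i.succ) (fun y hy => hok y (List.mem_cons_of_mem _ hy)) h
    obtain ⟨h1, h2⟩ := hok x List.mem_cons_self
    refine ⟨ne_zero_map i0 _, push h1 (fun k hk => by simp [noRoot] at hk) i1 _,
      fun p hp => push (h2 p ?_ hp) i2 (i2 p hp) _⟩
    simp only [goodRoot, Bool.or_eq_true, Bool.and_eq_true, List.contains_iff_mem] at hp
    rcases hp with hp | hp
    · exact List.mem_append_left _ hp
    · exact List.mem_append_right _ hp.1

theorem mvec_coord {M : ℕ} {δ : AddChar F ℂ} {w : V} (hM : Eg hC ρ w M δ) :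
    ∀ (L : List (ℕ × ℕ)) (u : Fin L.length → F),
      (L.map Prod.fst).Nodup →
      (∀ x ∈ L, sumOK D x.1 x.2 M = true ∧ okPair D x.1 M noRoot = true) →
      ∀ g, Eg hC ρ w g 1 →
      ((∀ x ∈ L, okPair D x.1 g noRoot = true) → Eg hC ρ (mvec hC ρ L u w) g 1) ∧
      (∀ i : Fin L.length, L[i.val].2 = g → (∀ x ∈ L, x.1 ≠ L[i.val].1 → okPair D x.1 g noRoot = true) →
        Eg hC ρ (mvec hC ρ L u w) g
          (chScale δ ((sumCoef D L[i.val].1 L[i.val].2 : F) * (-u i)))) ∧
      Eg hC ρ (mvec hC ρ L u w) M δ := by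
  intro L
  induction L with
  | nil => exact fun u _ _ g hg => ⟨fun _ => hg, fun i => i.elim0, hM⟩
  | cons x L ih =>
    intro u hnd hok g hg
    rw [List.map_cons, List.nodup_cons] at hnd
    obtain ⟨a1, a2, a3⟩ := ih (fun i => u i.succ) hnd.2 (fun y hy => hok y (List.mem_cons_of_mem _ hy)) g hg
    have hno : ∀ k, noRoot k = true → Eg hC ρ (mvec hC ρ L (fun i => u i.succ) w) k 1 :=
      fun k hk => by simp [noRoot] at hk
    refine ⟨fun h => ?_, fun i hi h => ?_, push (hok x List.mem_cons_self).2 hno a3 _⟩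
    · exact push (h x List.mem_cons_self) hno (a1 fun y hy => h y (List.mem_cons_of_mem _ hy)) _
    · rcases i with ⟨_ | n, hn⟩
      · have hi' : x.2 = g := hi
        subst hi'
        have hrest : Eg hC ρ (mvec hC ρ L (fun i => u i.succ) w) x.2 1 :=
          a1 fun y hy => h y (List.mem_cons_of_mem _ hy) fun e => hnd.1 (by
            rw [show x.1 = y.1 from e.symm]
            exact List.mem_map.2 ⟨y, hy, rfl⟩)
        intro t
        show ρ (xe hC x.2 t) (ρ (xe hC x.1 (u ⟨0, hn⟩)) _) = _
        rw [push_sum (hok x List.mem_cons_self).1 hrest a3 _ t, AddChar.one_apply, one_mul]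
        rfl
      · have hne : x.1 ≠ (x :: L)[n + 1].1 := fun e => hnd.1 (by
          rw [e, List.getElem_cons_succ]
          exact List.mem_map.2 ⟨_, List.getElem_mem _, rfl⟩)
        have := a2 ⟨n, Nat.lt_of_succ_lt_succ hn⟩ (by simpa using hi)
          fun y hy hy' => h y (List.mem_cons_of_mem _ hy) (by simpa using hy')
        exact push (h x List.mem_cons_self hne) hno (by simpa using this) _

/-- The checks on an item, as propositions. -/
structure ItemFacts (D : ChevalleyDatum) (prev U : List ℕ) (it : LevelItem) : Prop where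
  hM : it.M ∈ U
  nodup : (it.phi.map Prod.fst).Nodup
  gam : ∀ x ∈ it.phi, x.2 ∈ U
  gam_ne : ∀ x ∈ it.phi, x.2 ≠ it.M
  hsum : ∀ x ∈ it.phi, sumOK D x.1 x.2 it.M = true
  fixM : ∀ x ∈ it.phi, okPair D x.1 it.M noRoot = true
  closed : ∀ x ∈ it.phi, ∀ p ∈ prev ++ U, okPair D x.1 p (fun k => (prev ++ U).contains k) = true
  good : ∀ x ∈ it.phi, ∀ p ∈ prev ++ U, goodRoot prev U it.M p = true →
    okPair D x.1 p (goodRoot prev U it.M) = true
  sep : ∀ x ∈ it.phi, ∀ y ∈ it.phi, x.1 ≠ y.1 → okPair D x.1 y.2 noRoot = true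

theorem goodRoot_iff {prev U : List ℕ} {M p : ℕ} :
    goodRoot prev U M p = true ↔ p ∈ prev ∨ p ∈ U ∧ M < p := by
  simp [goodRoot]

theorem betaOK_spec {D : ChevalleyDatum} {prev U : List ℕ} {β : ℕ} (h : betaOK D prev U β = true)
    (M : ℕ) : (∀ p ∈ prev ++ U, okPair D β p (fun k => (prev ++ U).contains k) = true) ∧
      ∀ p ∈ prev ++ U, goodRoot prev U M p = true → okPair D β p (goodRoot prev U M) = true := by
  simp only [betaOK, Bool.and_eq_true, List.all_eq_true] at h
  refine ⟨fun p hp => ?_, fun p _ hg => ?_⟩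
  · rcases List.mem_append.1 hp with hp | hp
    · exact okPair_mono (fun k hk => by
        rw [List.contains_iff_mem] at hk ⊢; exact List.mem_append_left _ hk) (h.1 p hp)
    · exact okPair_mono (fun k hk => by
        simp only [Bool.or_eq_true, Bool.and_eq_true, List.contains_iff_mem] at hk
        rw [List.contains_iff_mem]
        rcases hk with hk | hk
        · exact List.mem_append_left _ hk
        · exact List.mem_append_right _ hk.1) (h.2 p hp)
  · rcases goodRoot_iff.1 hg with hp | ⟨hp, hlt⟩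
    · exact okPair_mono (fun k hk => goodRoot_iff.2 (Or.inl (List.contains_iff_mem.1 hk))) (h.1 p hp)
    · exact okPair_mono (fun k hk => by
        simp only [Bool.or_eq_true, Bool.and_eq_true, List.contains_iff_mem, decide_eq_true_eq] at hk
        exact goodRoot_iff.2 (hk.imp id fun hk => ⟨hk.1, hlt.trans hk.2⟩)) (h.2 p hp)

theorem itemOK_facts {D : ChevalleyDatum} {prev U betas nodes : List ℕ} {jr : ℕ} {earlier : List ℕ}
    {it : LevelItem} (hb : betas.all (betaOK D prev U) = true)
    (h : itemOK D prev U betas nodes jr earlier it = true) : ItemFacts D prev U it := by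
  rw [List.all_eq_true] at hb
  unfold itemOK at h
  rw [Bool.and_eq_true, Bool.and_eq_true, Bool.and_eq_true, List.contains_iff_mem, decide_eq_true_eq,
    List.all_eq_true] at h
  obtain ⟨⟨⟨hM, -⟩, hphi⟩, hnd⟩ := h
  simp only [Bool.and_eq_true, List.all_eq_true, bne_iff_ne, Bool.or_eq_true, beq_iff_eq,
    List.contains_iff_mem] at hphi
  exact
    { hM := hM
      nodup := hnd
      gam := fun x hx => (hphi x hx).1.1.1.1.1
      gam_ne := fun x hx => (hphi x hx).1.1.1.1.2
      hsum := fun x hx => (hphi x hx).1.1.1.2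
      fixM := fun x hx => (hphi x hx).1.1.2
      closed := fun x hx => (betaOK_spec (hb _ (hphi x hx).1.2) it.M).1
      good := fun x hx => (betaOK_spec (hb _ (hphi x hx).1.2) it.M).2
      sep := fun x hx y hy hne => ((hphi x hx).2 y hy).resolve_left hne }

theorem itemsOK_facts {D : ChevalleyDatum} {prev U betas nodes : List ℕ} {jr : ℕ}
    (hb : betas.all (betaOK D prev U) = true) :
    ∀ {l : List LevelItem} {earlier : List ℕ}, itemsOK D prev U betas nodes jr earlier l = true →
      ∀ it ∈ l, ItemFacts D prev U it := by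
  intro l
  induction l with
  | nil => simp
  | cons it rest ih =>
    intro earlier h x hx
    simp only [itemsOK, Bool.and_eq_true] at h
    rcases List.mem_cons.1 hx with rfl | hx
    · exact itemOK_facts hb h.1
    · exact ih h.2 x hx

/-- Every root of the radical is realised for every nontrivial character. -/
theorem exists_real [Fintype F] {prev U betas nodes : List ℕ} {jr adj : ℕ}
    (hadj : adj < D.rank) (hcart : D.cartan adj jr = -1) (hjn : jr < D.nroots)
    (hposall : ∀ p ∈ prev ++ U, p < D.nroots ∧ D.nroots / 2 ≤ p) (hjp : jr ∉ prev)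
    (hnodes : ∀ i ∈ nodes, nodeOK D prev U i = true)
    {v : V} {δ₁ : AddChar F ℂ} (hδ₁ : δ₁ ≠ 1) (hv : Single hC ρ v jr δ₁) :
    ∀ (items : List LevelItem) (earlier : List ℕ),
      (∀ M ∈ earlier, ∀ δ : AddChar F ℂ, δ ≠ 1 → ∃ w, Real hC ρ prev U M δ w) →
      itemsOK D prev U betas nodes jr earlier items = true →
      ∀ it ∈ items, ∀ δ : AddChar F ℂ, δ ≠ 1 → ∃ w, Real hC ρ prev U it.M δ w := by
  have base : ∀ δ : AddChar F ℂ, δ ≠ 1 → ∃ w, Real hC ρ prev U jr δ w := by
    intro δ hδ
    obtain ⟨μ, hμ⟩ := pairing_bijective (fun a d : F => a * d) (fun a b c => by ring)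
      (fun a b c => by ring) (fun t ht e => ⟨e / t, by field_simp⟩) hδ₁ δ
    have hμ0 : μ ≠ 0 := by
      rintro rfl
      exact hδ (DFunLike.ext _ _ fun d => by rw [← hμ, zero_mul, AddChar.map_zero_eq_one]; rfl)
    obtain ⟨c, hc⟩ := exists_te_scale (F := F) hadj hjn hcart hμ0
    have h1 : ∀ p ∈ prev ++ U, p ≠ jr → Eg hC ρ (ρ (te hC c) v) p 1 := by
      intro p hp hpj
      have := (hv.2.2 p (hposall p hp).1 (hposall p hp).2 hpj).torus c (hposall p hp).1
      rwa [chScale_one] at this
    refine ⟨ρ (te hC c) v, ne_zero_map hv.1 _, fun t => ?_,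
      fun p hp => h1 p (List.mem_append_left _ hp) fun e => hjp (e ▸ hp),
      fun p hp hne => h1 p (List.mem_append_right _ hp) hne⟩
    rw [hv.2.1.torus c hjn t, chScale_apply, hc, hμ]
  intro items
  induction items with
  | nil => simp
  | cons it rest ih =>
    intro earlier hear hok
    simp only [itemsOK, Bool.and_eq_true] at hok
    have hit : ∀ δ : AddChar F ℂ, δ ≠ 1 → ∃ w, Real hC ρ prev U it.M δ w := by
      intro δ hδ
      have h := hok.1
      unfold itemOK at h
      rw [Bool.and_eq_true, Bool.and_eq_true, Bool.and_eq_true, Bool.or_eq_true, beq_iff_eq] at h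
      rcases h.1.1.2 with hM | hstep
      · rw [hM]; exact base δ hδ
      · simp only [Bool.and_eq_true, List.all_eq_true, decide_eq_true_eq, beq_iff_eq,
          List.contains_iff_mem] at hstep
        obtain ⟨⟨⟨⟨hn, hpar⟩, hparU'⟩, href⟩, hmem⟩ := hstep
        have hnode := hnodes _ hmem
        simp only [nodeOK, Bool.and_eq_true, List.all_eq_true, beq_iff_eq, List.contains_iff_mem] at hnode
        obtain ⟨hprev, hU⟩ := hnode
        set ε : F := (T.eps it.node it.parent : F) with hε
        have hε1 : ε * ε = 1 := Checked.eps_cast_mul_self _ _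
        have hε0 : ε ≠ 0 := fun h => by simp [h] at hε1
        obtain ⟨w, w0, wM, wp, wU⟩ := hear _ hpar (chScale δ ε) (chScale_ne_one hδ hε0)
        have hparU : ∀ {p}, p ∈ U → p < D.nroots := fun hp => (hposall _ (List.mem_append_right _ hp)).1
        have hpn : it.parent < D.nroots := hparU hparU'
        refine ⟨ρ (ne hC it.node) w, ne_zero_map w0 _, ?_, fun p hp => ?_, fun p hp hpM => ?_⟩
        · have hw := wM.reflect hn hpn
          rw [href] at hw
          intro t
          rw [hw t, chScale_apply, chScale_apply, ← hε, ← mul_assoc, hε1, one_mul]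
        · obtain ⟨hp1, hp2⟩ := hprev p hp
          have hw := (wp _ hp1).reflect hn (hposall _ (List.mem_append_left _ hp1)).1
          rwa [chScale_one, hp2] at hw
        · obtain ⟨hp1, hp2⟩ := hU p hp
          have hne : D.reflectRoot it.node p ≠ it.parent := fun e => hpM (by rw [← hp2, e, href])
          have hw := (wU _ hp1 hne).reflect hn (hparU hp1)
          rwa [chScale_one, hp2] at hw
    intro x hx
    rcases List.mem_cons.1 hx with rfl | hx
    · exact hit
    · refine ih _ (fun M hM => ?_) hok.2 x hx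
      rcases List.mem_append.1 hM with hM | hM
      · exact hear M hM
      · rw [List.mem_singleton.1 hM]; exact hit

/-- Translated vectors are common eigenvectors of a closed set of root groups. -/
theorem mvec_scalar {P : List ℕ} {w : V}
    (hw : ∀ p ∈ P, ∀ t, ∃ c : ℂ, ρ (xe hC p t) w = c • w) :
    ∀ (L : List (ℕ × ℕ)) (u : Fin L.length → F),
      (∀ x ∈ L, ∀ p ∈ P, okPair D x.1 p (fun k => P.contains k) = true) →
      ∀ p ∈ P, ∀ t, ∃ c : ℂ, ρ (xe hC p t) (mvec hC ρ L u w) = c • mvec hC ρ L u w := by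
  intro L
  induction L with
  | nil => exact fun u _ => hw
  | cons x L ih =>
    intro u hok p hp t
    obtain ⟨ha, hb, h⟩ := okPair_spec (hok x List.mem_cons_self p hp)
    obtain ⟨c, hc⟩ := ih (fun i => u i.succ) (fun y hy => hok y (List.mem_cons_of_mem _ hy)) p hp t
    show ∃ c : ℂ, ρ (xe hC p t) (ρ (xe hC x.1 (u ⟨0, Nat.succ_pos _⟩)) (mvec hC ρ L (fun i => u i.succ) w)) =
      c • ρ (xe hC x.1 (u ⟨0, Nat.succ_pos _⟩)) (mvec hC ρ L (fun i => u i.succ) w)
    generalize u ⟨0, Nat.succ_pos _⟩ = s
    rcases h with rfl | ⟨hne, hneg, h | ⟨k, c', h, hk⟩⟩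
    · refine ⟨c, ?_⟩
      rw [← Module.End.mul_apply, ← map_mul, ← xe_add, add_comm, xe_add, map_mul,
        Module.End.mul_apply, hc, map_smul]
    · refine ⟨c, ?_⟩
      rw [← Module.End.mul_apply, ← map_mul, xe_comm hC ha hb hne hneg h, map_mul,
        Module.End.mul_apply, hc, map_smul]
    · obtain ⟨d, hd⟩ := ih (fun i => u i.succ) (fun y hy => hok y (List.mem_cons_of_mem _ hy)) k
        (List.contains_iff_mem.1 hk) ((c' : F) * (-s) * t)
      refine ⟨d * c, ?_⟩
      rw [← Module.End.mul_apply, ← map_mul, xe_swap hC ha hb hne hneg h, map_mul, map_mul,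
        Module.End.mul_apply, Module.End.mul_apply, hd, map_smul, hc, map_smul, map_smul, smul_smul]

/-- The index set of a level's vectors. -/
abbrev LevelIdx (F : Type*) [Field F] (items : List LevelItem) : Type _ :=
  Σ m : Fin items.length, {δ : AddChar F ℂ // δ ≠ 1} × (Fin (items[m.val]).phi.length → F)

theorem card_levelIdx [Fintype F] [DecidableEq (AddChar F ℂ)] (items : List LevelItem) :
    Fintype.card (LevelIdx F items) = (Fintype.card F - 1) * levelSize items (Fintype.card F) := by
  rw [Fintype.card_sigma]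
  simp only [Fintype.card_prod, Fintype.card_fun, Fintype.card_fin]
  rw [← Finset.mul_sum, levelSize]
  congr 1
  · rw [Fintype.card_subtype_compl, Fintype.card_subtype_eq, AddChar.card_eq]
  · rw [Fin.sum_univ_fun_getElem items fun it => Fintype.card F ^ it.phi.length]

variable [Fintype F] [FiniteDimensional ℂ V]

/-- A level's vectors, with their eigenvalues. -/
theorem level_vectors {prev U betas nodes : List ℕ} {jr adj : ℕ} {items : List LevelItem}
    (hok : levelOK D prev U betas nodes jr adj items = true) (hjn : jr < D.nroots)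
    {v : V} {δ₁ : AddChar F ℂ} (hδ₁ : δ₁ ≠ 1) (hv : Single hC ρ v jr δ₁) :
    ∃ vec : LevelIdx F items → V, ∀ a : LevelIdx F items,
      vec a ≠ 0 ∧ Eg hC ρ (vec a) (items[a.1.val]).M a.2.1.1 ∧
      (∀ p, goodRoot prev U (items[a.1.val]).M p = true → Eg hC ρ (vec a) p 1) ∧
      (∀ i : Fin (items[a.1.val]).phi.length, Eg hC ρ (vec a) ((items[a.1.val]).phi[i.val]).2
        (chScale a.2.1.1 ((sumCoef D ((items[a.1.val]).phi[i.val]).1 ((items[a.1.val]).phi[i.val]).2 : F) *
          (-a.2.2 i)))) ∧
      ∀ p ∈ prev ++ U, ∀ t, ∃ c : ℂ, ρ (xe hC p t) (vec a) = c • vec a := by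
  simp only [levelOK, Bool.and_eq_true, decide_eq_true_eq, beq_iff_eq, Bool.not_eq_true',
    List.all_eq_true] at hok
  obtain ⟨⟨⟨⟨⟨⟨⟨hitems, hnd⟩, hadj⟩, hcart⟩, hjp⟩, hpos⟩, hbetas⟩, hnodes⟩ := hok
  have hjp' : jr ∉ prev := fun h => by
    rw [List.contains_iff_mem.2 h] at hjp
    exact Bool.noConfusion hjp
  have hreal := exists_real hC ρ hadj hcart hjn hpos hjp' hnodes hδ₁ hv items [] (by simp) hitems
  choose w hw using fun (m : Fin items.length) (δ : {δ : AddChar F ℂ // δ ≠ 1}) =>
    hreal items[m.val] (List.getElem_mem _) δ.1 δ.2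
  refine ⟨fun a => mvec hC ρ (items[a.1.val]).phi a.2.2 (w a.1 a.2.1), ?_⟩
  rintro ⟨m, δ, u⟩
  have hf := itemsOK_facts (List.all_eq_true.2 hbetas) hitems items[m.val] (List.getElem_mem _)
  obtain ⟨w0, wM, wp, wU⟩ := hw m δ
  have hgood : ∀ p, goodRoot prev U (items[m.val]).M p = true → Eg hC ρ (w m δ) p 1 := by
    intro p hp
    rcases goodRoot_iff.1 hp with hp | ⟨hp, hlt⟩
    · exact wp p hp
    · exact wU p hp (ne_of_gt hlt)
  obtain ⟨g0, g1, g2⟩ := mvec_good hC ρ w0 wM (items[m.val]).phi u
    (fun x h => ⟨hf.fixM x h, hf.good x h⟩) hgood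
  refine ⟨g0, g1, g2, fun i => ?_, mvec_scalar hC ρ (fun p hp t => ?_) _ u hf.closed⟩
  · have hi : ((items[m.val]).phi[i.val]) ∈ (items[m.val]).phi := List.getElem_mem _
    exact (mvec_coord hC ρ wM (items[m.val]).phi u hf.nodup
      (fun x h => ⟨hf.hsum x h, hf.fixM x h⟩) _
      (wU _ (hf.gam _ hi) (hf.gam_ne _ hi))).2.1 i rfl
      fun x h hne => hf.sep x h _ hi hne
  · rcases List.mem_append.1 hp with hp | hp
    · exact ⟨1, by rw [one_smul]; exact (wp p hp).fixed t⟩
    · by_cases hpM : p = (items[m.val]).M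
      · subst hpM; exact ⟨δ.1 t, wM t⟩
      · exact ⟨1, by rw [one_smul]; exact (wU p hp hpM).fixed t⟩

/-- Distinct indices have distinct systems of eigenvalues. -/
theorem level_indep {prev U : List ℕ} {items : List LevelItem}
    (hfacts : ∀ it ∈ items, ItemFacts D prev U it) (hnd : (items.map LevelItem.M).Nodup)
    {vec : LevelIdx F items → V} {f : LevelIdx F items → {p : ℕ // p ∈ prev ++ U} × F → ℂ}
    (hf : ∀ a j, ρ (xe hC j.1.1 j.2) (vec a) = f a j • vec a)
    (hne : ∀ a, vec a ≠ 0) (hM : ∀ a, Eg hC ρ (vec a) (items[a.1.val]).M a.2.1.1)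
    (hgood : ∀ (a : LevelIdx F items), ∀ p, goodRoot prev U (items[a.1.val]).M p = true →
      Eg hC ρ (vec a) p 1)
    (hphi : ∀ (a : LevelIdx F items) (i : Fin (items[a.1.val]).phi.length),
      Eg hC ρ (vec a) ((items[a.1.val]).phi[i.val]).2
        (chScale a.2.1.1 ((sumCoef D ((items[a.1.val]).phi[i.val]).1 ((items[a.1.val]).phi[i.val]).2 : F) *
          (-a.2.2 i)))) :
    Function.Injective f ∧ ∀ a, f a ≠ fun _ => 1 := by
  have fval : ∀ a p (hp : p ∈ prev ++ U) χ, Eg hC ρ (vec a) p χ → ∀ t, f a (⟨p, hp⟩, t) = χ t := by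
    intro a p hp χ h t
    exact smul_left_injective ℂ (hne a) ((hf a (⟨p, hp⟩, t)).symm.trans (h t))
  have hMmem : ∀ m : Fin items.length, (items[m.val]).M ∈ prev ++ U := fun m =>
    List.mem_append_right _ (hfacts _ (List.getElem_mem _)).hM
  refine ⟨?_, fun a h => ?_⟩
  · rintro ⟨m, δ, u⟩ ⟨m', δ', u'⟩ h
    have hlt : ∀ (a b : LevelIdx F items), f a = f b → ¬ (items[a.1.val]).M < (items[b.1.val]).M := by
      intro a b hab hlt
      obtain ⟨t, ht⟩ := AddChar.ne_one_iff.1 b.2.1.2
      apply ht
      have h1 := congrFun hab (⟨_, hMmem b.1⟩, t)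
      rw [fval b _ _ _ (hM b), fval a _ _ _ (hgood a _ (goodRoot_iff.2 (Or.inr
        ⟨(hfacts _ (List.getElem_mem _)).hM, hlt⟩)))] at h1
      exact h1.symm.trans rfl
    have hMeq : (items[m.val]).M = (items[m'.val]).M :=
      le_antisymm (not_lt.1 (hlt _ _ h.symm)) (not_lt.1 (hlt _ _ h))
    obtain rfl : m = m' := Fin.ext ((List.getElem_inj (h₀ := by simp [m.isLt])
      (h₁ := by simp [m'.isLt]) hnd).1 (by simpa using hMeq))
    obtain rfl : δ = δ' := by
      refine Subtype.ext (DFunLike.ext _ _ fun t => ?_)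
      have h1 := congrFun h (⟨_, hMmem m⟩, t)
      rwa [fval _ _ _ _ (hM ⟨m, δ, u⟩), fval _ _ _ _ (hM ⟨m, δ', u'⟩)] at h1
    obtain rfl : u = u' := by
      funext i
      have hi : ((items[m.val]).phi[i.val]) ∈ (items[m.val]).phi := List.getElem_mem _
      have hmem : ((items[m.val]).phi[i.val]).2 ∈ prev ++ U :=
        List.mem_append_right _ ((hfacts _ (List.getElem_mem _)).gam _ hi)
      by_contra hne'
      obtain ⟨t, ht⟩ := AddChar.ne_one_iff.1 δ.2
      apply ht
      set c : F := (sumCoef D ((items[m.val]).phi[i.val]).1 ((items[m.val]).phi[i.val]).2 : F)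
      have hc : c ≠ 0 := intCast_ne_zero (sumOK_spec
        ((hfacts _ (List.getElem_mem _)).hsum _ hi)).2.2.2.2.2.2
      set s : F := t / (c * (u' i - u i))
      have h1 := congrFun h (⟨_, hmem⟩, s)
      rw [fval _ _ _ _ (hphi ⟨m, δ, u⟩ i), fval _ _ _ _ (hphi ⟨m, δ, u'⟩ i),
        chScale_apply, chScale_apply] at h1
      have e : c * -u i * s = t + c * -u' i * s := by
        simp only [s]
        field_simp [sub_ne_zero.2 (Ne.symm hne')]
        ring
      change δ.1 (c * -u i * s) = δ.1 (c * -u' i * s) at h1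
      rw [e, AddChar.map_add_eq_mul] at h1
      exact (mul_eq_right₀ (AddChar.val_isUnit δ.1 _).ne_zero).1 h1
    rfl
  · obtain ⟨t, ht⟩ := AddChar.ne_one_iff.1 a.2.1.2
    apply ht
    have := congrFun h (⟨_, hMmem a.1⟩, t)
    rw [fval a _ (hMmem a.1) _ (hM a)] at this
    exact this

open Classical in
/-- **The orbit bound of a level.** -/
theorem level_bound {prev U betas nodes : List ℕ} {jr adj : ℕ} {items : List LevelItem}
    (hok : levelOK D prev U betas nodes jr adj items = true) (hjn : jr < D.nroots)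
    {v : V} {δ₁ : AddChar F ℂ} (hδ₁ : δ₁ ≠ 1) (hv : Single hC ρ v jr δ₁) :
    (Fintype.card F - 1) * levelSize items (Fintype.card F) +
        Module.finrank ℂ (fixList hC ρ (prev ++ U)) ≤
      Module.finrank ℂ (fixList hC ρ prev) := by
  obtain ⟨vec, facts⟩ := level_vectors hC ρ hok hjn hδ₁ hv
  simp only [levelOK, Bool.and_eq_true, decide_eq_true_eq] at hok
  choose f hf using fun (a : LevelIdx F items) (j : {p : ℕ // p ∈ prev ++ U} × F) =>
    (facts a).2.2.2.2 j.1.1 j.1.2 j.2
  obtain ⟨finj, fne⟩ := level_indep hC ρ (itemsOK_facts hok.1.2 hok.1.1.1.1.1.1.1) hok.1.1.1.1.1.1.2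
    hf (fun a => (facts a).1) (fun a => (facts a).2.1) (fun a => (facts a).2.2.1)
    (fun a => (facts a).2.2.2.1)
  let O : {p : ℕ // p ∈ prev ++ U} × F → Module.End ℂ V := fun j => ρ (xe hC j.1.1 j.2)
  let Fx := fixList hC ρ (prev ++ U)
  let Ψ : ((LevelIdx F items → ℂ) × Fx) →ₗ[ℂ] V :=
    (∑ a : LevelIdx F items,
      ((LinearMap.proj a).comp (LinearMap.fst ℂ (LevelIdx F items → ℂ) Fx)).smulRight (vec a)) +
      Fx.subtype.comp (LinearMap.snd ℂ (LevelIdx F items → ℂ) Fx)
  have hΨ : ∀ x, Ψ x = ∑ a, x.1 a • vec a + (x.2 : V) := fun x => by simp [Ψ]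
  have hinj : Function.Injective Ψ := by
    rw [← LinearMap.ker_eq_bot, Submodule.eq_bot_iff]
    rintro ⟨cf, y⟩ hx
    rw [LinearMap.mem_ker, hΨ] at hx
    have hsum : ∑ o : Option (LevelIdx F items), o.elim (y : V) (fun a => cf a • vec a) = 0 := by
      rw [Fintype.sum_option]
      simpa [add_comm] using hx
    have ginj : Function.Injective fun o : Option (LevelIdx F items) => o.elim (fun _ => (1 : ℂ)) f := by
      rintro (_ | a) (_ | b) h
      · rfl
      · exact absurd h.symm (fne b)
      · exact absurd h (fne a)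
      · exact congrArg some (finj h)
    have hzero := eigen_indep O _ ginj Finset.univ (fun o => o.elim (y : V) (fun a => cf a • vec a))
      (fun o _ j => by
        rcases o with _ | a
        · show ρ (xe hC j.1.1 j.2) (y : V) = (1 : ℂ) • (y : V)
          rw [one_smul]
          exact ((mem_fixList hC ρ).1 y.2 _ j.1.2).fixed j.2
        · show O j (cf a • vec a) = f a j • (cf a • vec a)
          rw [map_smul, hf, smul_comm]) hsum
    refine Prod.ext (funext fun a => ?_) (Subtype.ext (hzero none (Finset.mem_univ _)))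
    exact (smul_eq_zero.1 (hzero (some a) (Finset.mem_univ _))).resolve_right (facts a).1
  have hmaps : ∀ x, Ψ x ∈ fixList hC ρ prev := by
    intro x
    rw [hΨ]
    refine add_mem (Submodule.sum_mem _ fun a _ => Submodule.smul_mem _ _ ?_) ?_
    · exact (mem_fixList hC ρ).2 fun p hp => (facts a).2.2.1 p (goodRoot_iff.2 (Or.inl hp))
    · exact (mem_fixList hC ρ).2 fun p hp => (mem_fixList hC ρ).1 x.2.2 p (List.mem_append_left _ hp)
  have hle := LinearMap.finrank_le_finrank_of_injective (f := Ψ.codRestrict _ hmaps)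
    fun a b h => hinj (congrArg Subtype.val h)
  rw [Module.finrank_prod, Module.finrank_fintype_fun_eq_card, card_levelIdx] at hle
  exact hle

end H17.HeisDeg.RootAct
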