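import Cfsg.Agent.H17.HeisDegree.RootHeis

/-!
Eigenvectors with a single simple root in their support propagate along the Dynkin diagram.
-/

set_option autoImplicit false
set_option linter.unusedSectionVars false

namespace H17.HeisDeg.RootAct

open Cfsg.Lie H52

/-- The positive roots outside the rank two subsystem. -/
def outside (D : ChevalleyDatum) (i j k : ℕ) (p : ℕ) : Bool :=
  decide (p < D.nroots) && decide (D.nroots / 2 ≤ p) && (p != i) && (p != j) && (p != k)

/-- The checks on a pair of adjacent nodes. -/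
def propOK (D : ChevalleyDatum) (ni nj : ℕ) : Bool :=
  let i := D.simple ni
  let j := D.simple nj
  let k := D.reflectRoot ni j
  decide (ni < D.rank) && decide (nj < D.rank) && decide (D.nroots / 2 ≤ i) && decide (D.nroots / 2 ≤ j) &&
    decide (D.nroots / 2 ≤ k) && (i != j) && (k != i) && (k != j) &&
    sumOK D j i k && (D.reflectRoot nj i == k) && okPair D i k noRoot && okPair D j k noRoot &&
    okPair D k i noRoot && ([i, j, k, D.neg i, D.neg j].all fun a => (List.range D.nroots).all fun p =>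
      !outside D i j k p || okPair D a p (outside D i j k))

variable {D : ChevalleyDatum} {T : Tables} {F : Type*} [Field F] (hC : Checked D T)
  {V : Type*} [AddCommGroup V] [Module ℂ V] (ρ : Representation ℂ ↥(D.group F) V)

/-- A vector fixed by all positive root groups but that of `j`, on which it is an eigenvector. -/
def Single (v : V) (j : ℕ) (δ : AddChar F ℂ) : Prop :=
  v ≠ 0 ∧ Eg hC ρ v j δ ∧ ∀ p, p < D.nroots → D.nroots / 2 ≤ p → p ≠ j → Eg hC ρ v p 1

/-- The vectors fixed by a set of root groups. -/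
noncomputable def fixSpace (P : ℕ → Bool) : Submodule ℂ V :=
  ⨅ p : {p // P p = true}, eig ρ (fun t => xe hC p.1 t) 1

theorem mem_fixSpace {P : ℕ → Bool} {w : V} :
    w ∈ fixSpace hC ρ P ↔ ∀ p, P p = true → Eg hC ρ w p 1 := by
  simp only [fixSpace, Submodule.mem_iInf, mem_eig, Subtype.forall]
  exact ⟨fun h p hp t => h p hp t, fun h p hp t => h p hp t⟩

/-- The elements preserving a subspace. -/
def stab (Y : Submodule ℂ V) : Subgroup ↥(D.group F) where
  carrier := {g | Y.map (ρ g) = Y}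
  one_mem' := by
    show Y.map (ρ 1) = Y
    rw [map_one]
    exact Submodule.map_id Y
  mul_mem' := by
    intro a b (ha : Y.map (ρ a) = Y) (hb : Y.map (ρ b) = Y)
    show Y.map (ρ (a * b)) = Y
    rw [map_mul, Module.End.mul_eq_comp, Submodule.map_comp, hb, ha]
  inv_mem' := by
    intro a (ha : Y.map (ρ a) = Y)
    show Y.map (ρ a⁻¹) = Y
    conv_lhs => rw [← ha]
    rw [← Submodule.map_comp, ← Module.End.mul_eq_comp, ← map_mul, inv_mul_cancel, map_one]
    exact Submodule.map_id Y

/-- The action on a subspace of its stabilizer. -/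
def subRep (Y : Submodule ℂ V) : Representation ℂ ↥(stab ρ Y) ↥Y where
  toFun g := (ρ (g : ↥(D.group F))).restrict (fun v hv => by
    have h : Y.map (ρ (g : ↥(D.group F))) = Y := g.2
    exact le_of_eq h (Submodule.mem_map_of_mem hv))
  map_one' := by
    apply LinearMap.ext
    intro v
    apply Subtype.ext
    simp
  map_mul' a b := by
    apply LinearMap.ext
    intro v
    apply Subtype.ext
    simp [LinearMap.restrict_apply]

theorem subRep_coe (Y : Submodule ℂ V) (g : ↥(stab ρ Y)) (v : ↥Y) :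
    ((subRep ρ Y g v : ↥Y) : V) = ρ (g : ↥(D.group F)) v := rfl

variable [Fintype F]

/-- The averaging operator of a root group twisted by a character. -/
noncomputable def avg (j : ℕ) (δ : AddChar F ℂ) : Module.End ℂ V :=
  ∑ s : F, δ (-s) • ρ (xe hC j s)

theorem avg_eigen (j : ℕ) (δ : AddChar F ℂ) (y : V) : Eg hC ρ (avg hC ρ j δ y) j δ := by
  intro t
  simp only [avg, LinearMap.coe_sum, Finset.sum_apply, LinearMap.smul_apply, map_sum, map_smul,
    Finset.smul_sum, smul_smul]
  refine Fintype.sum_equiv (Equiv.addLeft t) _ _ fun s => ?_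
  rw [← Module.End.mul_apply, ← map_mul, ← xe_add, Equiv.coe_addLeft, ← AddChar.map_add_eq_mul]
  congr 2
  ring

theorem avg_push {j r : ℕ} {al : ℕ → Bool} (hok : okPair D j r al = true) {y : V}
    (hy : Eg hC ρ y r 1) (hfix : ∀ k, al k = true → Eg hC ρ y k 1) (δ : AddChar F ℂ) :
    Eg hC ρ (avg hC ρ j δ y) r 1 := by
  rw [eg_one_iff]
  intro u
  simp only [avg, LinearMap.coe_sum, Finset.sum_apply, LinearMap.smul_apply, map_sum, map_smul]
  exact Finset.sum_congr rfl fun s _ => by rw [(push hok hfix hy s).fixed]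

variable [FiniteDimensional ℂ V]

open Classical in
/-- **Propagation**: a single vector at `i` gives one at an adjacent node `j`. -/
theorem propagate {ni nj : ℕ} (hok : propOK D ni nj = true) {v : V} {δ : AddChar F ℂ} (hδ : δ ≠ 1)
    (hv : Single hC ρ v (D.simple ni) δ) :
    ∃ (w : V) (δ' : AddChar F ℂ), δ' ≠ 1 ∧ Single hC ρ w (D.simple nj) δ' := by
  simp only [propOK, Bool.and_eq_true, decide_eq_true_eq, bne_iff_ne, beq_iff_eq, List.all_eq_true,
    List.mem_range, Bool.or_eq_true, Bool.not_eq_true', ne_eq] at hok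
  set i := D.simple ni with hi'
  set j := D.simple nj with hj'
  set k := D.reflectRoot ni j with hk'
  obtain ⟨⟨⟨⟨⟨⟨⟨⟨⟨⟨⟨⟨⟨hni, hnj⟩, hip⟩, hjp⟩, hkp⟩, hij⟩, hki⟩, hkj⟩, hsum⟩, hrefl⟩, hik⟩, hjk⟩, hki'⟩,
    hall⟩ := hok
  obtain ⟨hin, hjn, hkn⟩ : i < D.nroots ∧ j < D.nroots ∧ k < D.nroots :=
    ⟨(sumOK_spec hsum).2.1, (sumOK_spec hsum).1, (sumOK_spec hsum).2.2.1⟩
  set Y := fixSpace hC ρ (outside D i j k)
  have hok' : ∀ a ∈ [i, j, k, D.neg i, D.neg j], ∀ p, outside D i j k p = true →
      okPair D a p (outside D i j k) = true := fun a ha p hp =>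
    (hall a ha p (by simp only [outside, Bool.and_eq_true, decide_eq_true_eq] at hp; exact hp.1.1.1.1)).resolve_left
      (by simp [hp])
  have hmem : ∀ a ∈ [i, j, k, D.neg i, D.neg j], ∀ t, xe hC a t ∈ stab ρ Y := by
    intro a ha t
    have hle : ∀ t, Y.map (ρ (xe hC a t)) ≤ Y := by
      rintro t _ ⟨y, hy, rfl⟩
      rw [SetLike.mem_coe, mem_fixSpace] at hy
      rw [mem_fixSpace]
      exact fun p hp => push (hok' a ha p hp) hy (hy p hp) t
    refine le_antisymm (hle t) fun y hy => ?_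
    refine ⟨ρ (xe hC a (-t)) y, hle (-t) ⟨y, hy, rfl⟩, ?_⟩
    rw [← Module.End.mul_apply, ← map_mul, ← xe_add, add_neg_cancel, xe_zero, map_one,
      Module.End.one_apply]
  have hmemI : ∀ t, xe hC i t ∈ stab ρ Y := hmem i (by simp)
  have hmemJ : ∀ t, xe hC j t ∈ stab ρ Y := hmem j (by simp)
  have hmemK : ∀ t, xe hC k t ∈ stab ρ Y := hmem k (by simp)
  have hni' : (ne (F := F) hC ni : ↥(D.group F)) ∈ stab ρ Y :=
    mul_mem (mul_mem (hmemI 1) (hmem (D.neg i) (by simp) (-1))) (hmemI 1)
  have hnj' : (ne (F := F) hC nj : ↥(D.group F)) ∈ stab ρ Y :=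
    mul_mem (mul_mem (hmemJ 1) (hmem (D.neg j) (by simp) (-1))) (hmemJ 1)
  let τ := subRep ρ Y
  let XI : F → ↥(stab ρ Y) := fun t => ⟨xe hC i t, hmemI t⟩
  let XJ : F → ↥(stab ρ Y) := fun t => ⟨xe hC j t, hmemJ t⟩
  let XK : F → ↥(stab ρ Y) := fun t => ⟨xe hC k t, hmemK t⟩
  -- conjugate root groups have equal fixed spaces
  have conj_eq : ∀ (X X' : F → ↥(stab ρ Y)) (g : ↥(stab ρ Y)) (ε : F), ε ≠ 0 →
      (∀ t, g⁻¹ * X t * g = X' (ε * t)) → mult τ X 1 = mult τ X' 1 := by
    intro X X' g ε hε h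
    refine le_antisymm (mult_le_of_conj g⁻¹ fun y hy t => ?_) (mult_le_of_conj g fun y hy t => ?_)
    · rw [inv_inv, show g * X' t * g⁻¹ = X (t / ε) by
        have := h (t / ε); rw [mul_div_cancel₀ t hε] at this; rw [← this]; group, mem_eig.1 hy]
      simp
    · rw [h, mem_eig.1 hy]
      simp
  have eps_ne : ∀ a b, (T.eps a b : F) ≠ 0 := fun a b h => by
    simpa [h] using Checked.eps_cast_mul_self (T := T) (F := F) a b
  have hKJ : mult τ XK 1 = mult τ XJ 1 := conj_eq XK XJ ⟨_, hni'⟩ _ (eps_ne ni j) fun t => by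
    apply Subtype.ext
    exact ne_conj hni hjn t
  have hKI : mult τ XK 1 = mult τ XI 1 := conj_eq XK XI ⟨_, hnj'⟩ _ (eps_ne nj i) fun t => by
    apply Subtype.ext
    show (ne hC nj : ↥(D.group F))⁻¹ * xe hC k t * ne hC nj = _
    rw [← hrefl]
    exact ne_conj hnj hin t
  by_contra hno
  push Not at hno
  -- vectors fixed by `i` and `k` in `Y` are fixed by `j`
  have hD0 : ∀ y : V, y ∈ Y → Eg hC ρ y i 1 → Eg hC ρ y k 1 → Eg hC ρ y j 1 := by
    intro y hyY hyi hyk
    rw [mem_fixSpace] at hyY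
    have hz : ∀ δ' : AddChar F ℂ, δ' ≠ 1 → avg hC ρ j δ' y = 0 := by
      intro δ' hδ'
      by_contra hne0
      refine hno _ δ' hδ' ⟨hne0, avg_eigen hC ρ j δ' y, fun p hp hpos hpj => ?_⟩
      by_cases hpi : p = i
      · subst hpi
        have hjik : okPair D j i (fun r => r == k) = true := by
          exact okPair_of_sum hsum
        exact avg_push hC ρ hjik hyi (fun r hr => by rw [beq_iff_eq.1 hr]; exact hyk) δ'
      · by_cases hpk : p = k
        · subst hpk
          exact avg_push hC ρ hjk hyk (fun r hr => by simp [noRoot] at hr) δ'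
        · have hout : outside D i j k p = true := by simp [outside, hp, hpos, hpi, hpj, hpk]
          exact avg_push hC ρ (hok' j (by simp) p hout) (hyY p hout) hyY δ'
    have hsum1 : ∑ δ' : AddChar F ℂ, avg hC ρ j δ' y = (Fintype.card F : ℂ) • y := by
      simp only [avg, LinearMap.coe_sum, Finset.sum_apply, LinearMap.smul_apply]
      rw [Finset.sum_comm]
      simp only [← Finset.sum_smul, AddChar.sum_apply_eq_ite, neg_eq_zero, ite_smul, zero_smul,
        Finset.sum_ite_eq', Finset.mem_univ, if_true, xe_zero, map_one, Module.End.one_apply]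
    rw [Finset.sum_eq_single (1 : AddChar F ℂ) (fun b _ hb => hz b hb)
      (fun h => absurd (Finset.mem_univ _) h)] at hsum1
    have hy' : y = (Fintype.card F : ℂ)⁻¹ • avg hC ρ j 1 y := by
      rw [hsum1, smul_smul, inv_mul_cancel₀ (Nat.cast_ne_zero.2 Fintype.card_ne_zero), one_smul]
    rw [hy']
    exact (avg_eigen hC ρ j 1 y).smul _
  -- the abelian group of `i` and `k`
  let u : F × F → ↥(stab ρ Y) := fun p => XI p.1 * XK p.2
  have hu : ∀ a b, u (a + b) = u a * u b := by
    intro a b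
    apply Subtype.ext
    show xe hC i (a.1 + b.1) * xe hC k (a.2 + b.2) = xe hC i a.1 * xe hC k a.2 * (xe hC i b.1 * xe hC k b.2)
    rw [xe_add, xe_add, (okPair_commute hC hki' a.2 b.1).mul_mul_mul_comm]
  let c2 : AddChar F ℂ → AddChar F ℂ → AddChar (F × F) ℂ := fun α β =>
    α.compAddMonoidHom (AddMonoidHom.fst F F) * β.compAddMonoidHom (AddMonoidHom.snd F F)
  have c2_inj : ∀ {a b a' b'}, c2 a b = c2 a' b' → a = a' ∧ b = b' := by
    intro a b a' b' h
    refine ⟨DFunLike.ext _ _ fun t => ?_, DFunLike.ext _ _ fun t => ?_⟩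
    · simpa [c2] using DFunLike.congr_fun h (t, 0)
    · simpa [c2] using DFunLike.congr_fun h (0, t)
  have c2_eig : ∀ {y : ↥Y} {α β : AddChar F ℂ}, Eg hC ρ (y : V) i α → Eg hC ρ (y : V) k β →
      y ∈ eig τ u (c2 α β) := by
    intro y α β hα hβ
    refine mem_eig.2 fun p => Subtype.ext ?_
    show ρ (xe hC i p.1 * xe hC k p.2) (y : V) = (c2 α β p) • (y : V)
    rw [map_mul, Module.End.mul_apply, hβ, map_smul, hα, smul_smul, mul_comm]
    simp [c2]
  have eig_c2 : ∀ {y : ↥Y} {α β : AddChar F ℂ}, y ∈ eig τ u (c2 α β) →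
      Eg hC ρ (y : V) i α ∧ Eg hC ρ (y : V) k β := by
    intro y α β hy
    refine ⟨fun t => ?_, fun t => ?_⟩
    · have := congrArg Subtype.val (mem_eig.1 hy (t, 0))
      change ρ (xe hC i t * xe hC k (0 : F)) (y : V) = c2 α β (t, 0) • (y : V) at this
      simpa [xe_zero, c2] using this
    · have := congrArg Subtype.val (mem_eig.1 hy (0, t))
      change ρ (xe hC i (0 : F) * xe hC k t) (y : V) = c2 α β (0, t) • (y : V) at this
      simpa [xe_zero, c2] using this
  -- fixed space of `i`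
  have hXI : mult τ XI 1 = ∑ β : AddChar F ℂ, mult τ u (c2 1 β) := by
    rw [show XI = fun t => u ((AddMonoidHom.inl F F) t) from funext fun t => by
      apply Subtype.ext
      show xe hC i t = xe hC i t * xe hC k (0 : F)
      rw [xe_zero, mul_one],
      mult_comp hu (AddMonoidHom.inl F F) 1]
    symm
    refine Finset.sum_bij (fun β _ => c2 1 β) (fun β _ => ?_) (fun a _ b _ h => (c2_inj h).2)
      (fun χ hχ => ?_) (fun β _ => rfl)
    · simp only [Finset.mem_filter, Finset.mem_univ, true_and]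
      ext t
      simp [c2]
    · refine ⟨χ.compAddMonoidHom (AddMonoidHom.inr F F), Finset.mem_univ _, ?_⟩
      simp only [Finset.mem_filter, Finset.mem_univ, true_and] at hχ
      ext p
      have h1 := DFunLike.congr_fun hχ p.1
      rw [AddChar.compAddMonoidHom_apply, AddChar.one_apply] at h1
      conv_rhs => rw [show p = (AddMonoidHom.inl F F) p.1 + (AddMonoidHom.inr F F) p.2 by simp]
      rw [AddChar.map_add_eq_mul, h1]
      simp [c2]
  -- the vector
  obtain ⟨hv0, hvi, hvp⟩ := hv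
  have hvY : v ∈ Y := (mem_fixSpace hC ρ).2 fun p hp => by
    simp only [outside, Bool.and_eq_true, decide_eq_true_eq, bne_iff_ne, ne_eq] at hp
    exact hvp p hp.1.1.1.1 hp.1.1.1.2 hp.1.1.2
  set v' : ↥Y := ⟨v, hvY⟩
  -- the map into the fixed space of `j`
  let S : AddChar F ℂ → (↥Y →ₗ[ℂ] ↥Y) := fun β => if β = 1 then LinearMap.id else ∑ s : F, τ (XJ s)
  let Φ : ((β : AddChar F ℂ) → eig τ u (c2 1 β)) × ℂ →ₗ[ℂ] ↥Y :=
    ((∑ β : AddChar F ℂ, (S β).comp ((Submodule.subtype _).comp (LinearMap.proj β))).comp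
      (LinearMap.fst ℂ _ _)) + (LinearMap.snd ℂ _ _).smulRight v'
  let L : AddChar (F × F) ℂ → Module.End ℂ ↥Y := fun χ => ∑ p : F × F, χ (-p) • τ (u p)
  have hL : ∀ (χ χ' : AddChar (F × F) ℂ) (y : ↥Y), y ∈ eig τ u χ' →
      L χ y = if χ' = χ then (Fintype.card (F × F) : ℂ) • y else 0 := by
    intro χ χ' y hy
    simp only [L, LinearMap.coe_sum, Finset.sum_apply, LinearMap.smul_apply, mem_eig.1 hy, smul_smul,
      ← Finset.sum_smul]
    have := AddChar.sum_eq_ite (χ' * χ⁻¹)
    simp only [AddChar.mul_apply, AddChar.inv_apply] at this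
    rw [show ∑ a, χ (-a) * χ' a = ∑ a, χ' a * χ (-a) from
      Finset.sum_congr rfl fun a _ => mul_comm _ _, this]
    have heq : (χ' * χ⁻¹ = 0) ↔ χ' = χ := by
      rw [show (0 : AddChar (F × F) ℂ) = 1 from rfl]
      exact mul_inv_eq_one
    by_cases hj : χ' = χ
    · rw [if_pos (heq.2 hj), if_pos hj]
    · rw [if_neg fun h => hj (heq.1 h), if_neg hj, zero_smul]
  have hxj : ∀ (β : AddChar F ℂ) (y : ↥Y), y ∈ eig τ u (c2 1 β) → ∀ s,
      τ (XJ s) y ∈ eig τ u (c2 (chScale β ((sumCoef D j i : F) * (-s))) β) := by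
    intro β y hy s
    obtain ⟨h1, h2⟩ := eig_c2 hy
    refine c2_eig (fun t => ?_) ?_
    · show ρ (xe hC i t) (ρ (xe hC j s) (y : V)) = _
      rw [push_sum hsum h1 h2 s t, AddChar.one_apply, one_mul]
      rfl
    · exact push hjk (fun r hr => by simp [noRoot] at hr) h2 s
  have hscale : ∀ (β : AddChar F ℂ) (s : F), β ≠ 1 →
      (chScale β ((sumCoef D j i : F) * (-s)) = 1 ↔ s = 0) := by
    intro β s hβ
    refine ⟨fun h => ?_, fun h => ?_⟩
    · by_contra hs
      exact chScale_ne_one hβ (mul_ne_zero (intCast_ne_zero (sumOK_spec hsum).2.2.2.2.2.2)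
        (neg_ne_zero.2 hs)) h
    · subst h
      ext t
      simp [chScale_apply]
  have hΦapply : ∀ f c, Φ (f, c) = ∑ β, S β (f β : ↥Y) + c • v' := fun f c => by simp [Φ]
  have hLΦ : ∀ (β₀ : AddChar F ℂ) f c, β₀ ≠ 1 →
      L (c2 1 β₀) (Φ (f, c)) = (Fintype.card (F × F) : ℂ) • (f β₀ : ↥Y) := by
    intro β₀ f c hβ₀
    rw [hΦapply, map_add, map_smul,
      hL _ (c2 δ 1) v' (c2_eig hvi (hvp k hkn hkp hki)), if_neg fun h => hδ (c2_inj h).1, smul_zero,
      add_zero, map_sum, Finset.sum_eq_single β₀]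
    · simp only [S, if_neg hβ₀, LinearMap.coe_sum, Finset.sum_apply, map_sum]
      rw [Finset.sum_eq_single (0 : F)]
      · rw [hL _ _ _ (hxj β₀ _ (f β₀).2 0), if_pos (by rw [(hscale β₀ 0 hβ₀).2 rfl])]
        congr 1
        apply Subtype.ext
        show ρ (xe hC j (0 : F)) _ = _
        rw [xe_zero, map_one, Module.End.one_apply]
        rfl
      · intro s _ hs
        rw [hL _ _ _ (hxj β₀ _ (f β₀).2 s), if_neg fun h => hs ((hscale β₀ s hβ₀).1 (c2_inj h).1)]
      · simp
    · intro β _ hβ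
      by_cases h1 : β = 1
      · subst h1
        simp only [S, if_pos rfl, LinearMap.id_apply]
        rw [hL _ _ _ (f 1).2, if_neg fun h => hβ (c2_inj h).2]
      · simp only [S, if_neg h1, LinearMap.coe_sum, Finset.sum_apply, map_sum]
        exact Finset.sum_eq_zero fun s _ => by
          rw [hL _ _ _ (hxj β _ (f β).2 s), if_neg fun h => hβ (c2_inj h).2]
    · simp
  have hΦinj : Function.Injective Φ := by
    rw [← LinearMap.ker_eq_bot, Submodule.eq_bot_iff]
    rintro ⟨f, c⟩ hfc
    rw [LinearMap.mem_ker] at hfc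
    have hcard : (Fintype.card (F × F) : ℂ) ≠ 0 := Nat.cast_ne_zero.2 Fintype.card_ne_zero
    have hf : ∀ β, β ≠ 1 → f β = 0 := fun β hβ => by
      have := hLΦ β f c hβ
      rw [hfc, map_zero] at this
      exact Subtype.ext ((smul_eq_zero.1 this.symm).resolve_left hcard)
    have hrest : Φ (f, c) = (f 1 : ↥Y) + c • v' := by
      rw [hΦapply, Finset.sum_eq_single (1 : AddChar F ℂ)]
      · simp [S]
      · intro β _ hβ; simp [hf β hβ]
      · simp
    rw [hrest] at hfc
    have hc : c = 0 := by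
      have h := congrArg (L (c2 δ 1)) hfc
      rw [map_add, map_zero, map_smul, hL _ _ _ (f 1).2, if_neg fun h => hδ (c2_inj h).1.symm,
        hL _ _ v' (c2_eig hvi (hvp k hkn hkp hki)), if_pos rfl, zero_add, smul_smul] at h
      rcases smul_eq_zero.1 h with h | h
      · exact (mul_eq_zero.1 h).resolve_right hcard
      · exact absurd (congrArg Subtype.val h) hv0
    rw [hc, zero_smul, add_zero] at hfc
    refine Prod.ext (funext fun β => ?_) hc
    by_cases hβ : β = 1
    · subst hβ; exact Subtype.ext hfc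
    · exact hf β hβ
  have hrange : ∀ x, Φ x ∈ eig τ XJ 1 := by
    rintro ⟨f, c⟩
    rw [hΦapply]
    refine add_mem (Submodule.sum_mem _ fun β _ => ?_) (Submodule.smul_mem _ c ?_)
    · refine mem_eig.2 fun t => ?_
      by_cases hβ : β = 1
      · subst hβ
        simp only [S, if_pos rfl, LinearMap.id_apply]
        obtain ⟨h1, h2⟩ := eig_c2 (f 1).2
        apply Subtype.ext
        exact hD0 _ (f 1 : ↥Y).2 h1 h2 t
      · simp only [S, if_neg hβ, LinearMap.coe_sum, Finset.sum_apply, map_sum, AddChar.one_apply,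
          one_smul]
        refine Fintype.sum_equiv (Equiv.addLeft t) _ _ fun s => ?_
        rw [← Module.End.mul_apply, ← map_mul]
        congr 2
        apply Subtype.ext
        exact (xe_add hC j t s).symm
    · refine mem_eig.2 fun t => Subtype.ext ?_
      exact hvp j hjn hjp (Ne.symm hij) t
  have hle : Module.finrank ℂ (((β : AddChar F ℂ) → eig τ u (c2 1 β)) × ℂ) ≤ mult τ XJ 1 :=
    LinearMap.finrank_le_finrank_of_injective (f := Φ.codRestrict _ hrange)
      fun a b h => hΦinj (congrArg Subtype.val h)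
  rw [Module.finrank_prod, Module.finrank_pi_fintype, Module.finrank_self] at hle
  have : mult τ XI 1 + 1 ≤ mult τ XJ 1 := hXI ▸ hle
  omega

end H17.HeisDeg.RootAct
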