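import Cfsg.Agent.H17.HeisDegree.TwTables
import Cfsg.Agent.H17.HeisDegree.RootHeis

/-!
The elements `x · φ(x)` of `²E₆(q)` over root elements `x`, and their action on eigenvectors.
-/

set_option autoImplicit false
set_option linter.unusedSectionVars false

namespace H17.HeisDeg.TwAct

open Cfsg.Lie H52 RootAct

/-- The roots after conjugation by a root element. -/
def stepR (a : ℕ) (L : List ℕ) : List ℕ := L.flatMap fun k =>
  k :: (if FastTable.entry chevE6 a k = 0 then [] else [FastTable.entry chevE6 a k / 4])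

/-- The roots of a twisted element. -/
def aRoots (a : ℕ) : List ℕ := if tn a = a then [a] else [a, tn a]

/-- The roots of the conjugate of a root element by a twisted element. -/
def conjR (a b : ℕ) : List ℕ := (aRoots a).foldl (fun L a' => stepR a' L) [b]

/-- Every pair with an element of the list is admissible. -/
def stepOK (a : ℕ) (L : List ℕ) : Bool := L.all fun k => okPair chevE6 a k (fun _ => true)

/-- Both steps are admissible. -/
def conjOK (a b : ℕ) : Bool :=
  if tn a = a then stepOK a [b] else stepOK a [b] && stepOK (tn a) (stepR a [b])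

/-- The roots and their images commute. -/
def commOK (L : List ℕ) : Bool :=
  L.all fun k => decide (k < 72) && L.all fun l => okPair chevE6 k l noRoot &&
    okPair chevE6 (tn k) l noRoot

/-- The sum of two roots, if it is a root. -/
def sums (k l : ℕ) : List ℕ :=
  if FastTable.entry chevE6 k l = 0 then [] else [FastTable.entry chevE6 k l / 4]

/-- The first root arising from two roots of a list or its image. -/
def extraRoot (L : List ℕ) : ℕ :=
  (L.flatMap fun k => L.flatMap fun l => sums k l ++ sums (tn k) l).headD 0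

/-- The roots and their images commute up to the fixed root `w`, with which they commute. -/
def commW (L : List ℕ) (w : ℕ) : Bool :=
  decide (w < 72) && (tn w == w) && L.all fun k => decide (k < 72) && okPair chevE6 k w noRoot &&
    okPair chevE6 (tn k) w noRoot && L.all fun l => okPair chevE6 k l (fun r => r == w) &&
      okPair chevE6 (tn k) l (fun r => r == w)

/-- Twisted elements at `a` move `b` within `allowed`. -/
def okT (a b : ℕ) (allowed : ℕ → Bool) : Bool :=
  decide (a < 72) && decide (b < 72) && conjOK a b &&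
    (commOK (conjR a b) ||
      (commW (conjR a b) (extraRoot (conjR a b)) && allowed (extraRoot (conjR a b)))) &&
    (conjR a b).tail.all allowed

/-- Twisted elements at `a` and `b` create exactly `k`. -/
def sumT (a b k : ℕ) : Bool :=
  sumOK chevE6 a b k && (tn a == a || (okPair chevE6 (tn a) b noRoot && okPair chevE6 (tn a) k noRoot)) &&
    commOK [b, k]

variable {T : Tables} {K : Type*} [Field K]

/-- The standing facts: a twist by an involutory automorphism. -/
class Invol (X : Twist e6Fold T K) : Prop where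
  ff : ∀ t : K, X.f (X.f t) = t
  ne : ∃ t : K, X.f t ≠ t

variable (X : Twist e6Fold T K)

/-- The trace to the fixed field. -/
def tr (t : K) : K := t + X.f t

theorem tr_add (t u : K) : tr X (t + u) = tr X t + tr X u := by simp [tr]; ring

theorem f_tr [hI : Invol X] (t : K) : X.f (tr X t) = tr X t := by simp [tr, hI.ff]; ring

/-- The parameter of the first root of a twisted element. -/
def mu (a : ℕ) (t : K) : K := if tn a = a then tr X t else t

/-- The inclusion in the Chevalley group. -/
noncomputable def emb : ↥X.grp →* ↥(chevE6.group K) := Subgroup.inclusion X.grp_le_group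

theorem coe_emb (g : ↥X.grp) : ((emb X g : ↥(chevE6.group K)) : GL chevE6.Idx K) = g := rfl

theorem emb_inj : Function.Injective (emb X) := Subgroup.inclusion_injective _

/-- `x · φ(x)`. -/
noncomputable def nm (x : GL chevE6.Idx K) : GL chevE6.Idx K := x * X.φ x

theorem nm_conj {g : GL chevE6.Idx K} (hg : X.φ g = g) (x : GL chevE6.Idx K) :
    nm X (g⁻¹ * x * g) = g⁻¹ * nm X x * g := by
  simp only [nm, map_mul, map_inv, hg]
  group

theorem nm_mul {x y : GL chevE6.Idx K} (h : Commute (X.φ x) y) :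
    nm X (x * y) = nm X x * nm X y := by
  simp only [nm, map_mul, mul_assoc]
  rw [← mul_assoc y, ← h.eq, mul_assoc]

theorem phi_rt {r : ℕ} (hr : r < 72) (t : K) :
    X.φ (rt chevE6 r t) = rt chevE6 (tn r) ((en r : K) * X.f t) := by
  have h := X.φ_rt ⟨r, hr⟩ t
  rwa [(tn_eq ⟨r, hr⟩).1, (tn_eq ⟨r, hr⟩).2] at h

include X in
theorem rt_commute {a b : ℕ} (h : okPair chevE6 a b noRoot = true) (t u : K) :
    Commute (rt chevE6 a t) (rt chevE6 b u) :=
  congrArg Subtype.val (okPair_commute X.chk h t u).eq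

theorem en_cast {r : ℕ} (hr : r < 72) : (en r : K) * (en r : K) = 1 := by
  rw [← Int.cast_mul, (tab hr).2.2.1, Int.cast_one]

theorem en_cast' {r : ℕ} (hr : r < 72) : (en r : K) * (en (tn r) : K) = 1 := by
  rw [← Int.cast_mul, (tab hr).2.2.2.1, Int.cast_one]

/-- The fixed element over the root element of `r`. -/
noncomputable def yv (r : ℕ) (t : K) : GL chevE6.Idx K :=
  rt chevE6 r t * rt chevE6 (tn r) ((en r : K) * X.f t)

variable [hI : Invol X]

theorem yv_eq_nm {r : ℕ} (hr : r < 72) (t : K) : yv X r t = nm X (rt chevE6 r t) := by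
  rw [yv, nm, phi_rt X hr]

theorem yv_fixed {r : ℕ} (hr : r < 72) (t : K) : X.φ (yv X r t) = yv X r t := by
  obtain ⟨h1, h2, -, -, -, h6, -⟩ := tab hr
  rw [yv, map_mul, phi_rt X hr, phi_rt X h1, h2, map_mul, map_intCast, hI.ff, ← mul_assoc]
  rw [mul_comm (en (tn r) : K), en_cast' hr, one_mul]
  exact (rt_commute X h6 _ _).eq.symm

theorem yv_mem {r : ℕ} (hr : r < 72) (t : K) : yv X r t ∈ X.grp := by
  refine X.E_le_grp (e6Fold.cls ⟨r, hr⟩) (Subgroup.mem_inf.2 ⟨mul_mem (Twist.mem_P rfl t) ?_,
    yv_fixed X hr t⟩)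
  have h := Twist.mem_P (K := K) (r := e6Fold.τ ⟨r, hr⟩) (X.fval.cls_tau ⟨r, hr⟩)
    ((en r : K) * X.f t)
  rwa [(tn_eq ⟨r, hr⟩).1] at h

/-- The twisted root element. -/
noncomputable def ye (r : ℕ) (t : K) : ↥X.grp :=
  if h : r < 72 then ⟨yv X r t, yv_mem X h t⟩ else 1

theorem coe_ye {r : ℕ} (hr : r < 72) (t : K) : ((ye X r t : ↥X.grp) : GL chevE6.Idx K) = yv X r t := by
  rw [ye, dif_pos hr]

theorem yv_fix {r : ℕ} (hr : r < 72) (h : tn r = r) (t : K) :
    yv X r t = rt chevE6 r (tr X t) := by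
  rw [yv, h, (tab hr).2.2.2.2.1 h, Int.cast_one, one_mul, X.chk.rt_mul, tr]

theorem ye_add (r : ℕ) (t u : K) : ye X r (t + u) = ye X r t * ye X r u := by
  by_cases hr : r < 72
  · apply Subtype.ext
    obtain ⟨-, -, -, -, -, -, h7⟩ := tab hr
    rw [Subgroup.coe_mul, coe_ye X hr, coe_ye X hr, coe_ye X hr, yv, yv, yv, map_add, mul_add,
      ← X.chk.rt_mul, ← X.chk.rt_mul, (rt_commute X h7 _ _).mul_mul_mul_comm]
  · simp [ye, dif_neg hr]

theorem ye_zero (r : ℕ) : ye X r (0 : K) = 1 := by
  have := ye_add X r (0 : K) 0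
  rwa [add_zero, left_eq_mul] at this

theorem ye_tau {r : ℕ} (hr : r < 72) (t : K) :
    ye X (tn r) t = ye X r ((en (tn r) : K) * X.f t) := by
  obtain ⟨h1, h2, -, -, -, h6, -⟩ := tab hr
  apply Subtype.ext
  rw [coe_ye X h1, coe_ye X hr, yv, yv, h2, map_mul, map_intCast, hI.ff, ← mul_assoc, en_cast' hr,
    one_mul]
  exact (rt_commute X h6 _ _).eq.symm

/-- A list of root elements after conjugation by a root element. -/
def stepW (a : ℕ) (t : K) (W : List (ℕ × K)) : List (ℕ × K) := W.flatMap fun p =>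
  p :: (if FastTable.entry chevE6 a p.1 = 0 then []
    else [(FastTable.entry chevE6 a p.1 / 4, (entrySign chevE6 a p.1 : K) * (-t) * p.2)])

omit [Field K] in
theorem stepR_cons (a k : ℕ) (L : List ℕ) : stepR a (k :: L) =
    k :: (if FastTable.entry chevE6 a k = 0 then [] else [FastTable.entry chevE6 a k / 4]) ++ stepR a L :=
  rfl

theorem stepW_roots (a : ℕ) (t : K) : ∀ W : List (ℕ × K),
    (stepW a t W).map Prod.fst = stepR a (W.map Prod.fst)
  | [] => rfl
  | p :: W => by
    rw [List.map_cons, stepR_cons, ← stepW_roots a t W]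
    show ((p :: _) ++ stepW a t W).map Prod.fst = _
    rw [List.map_append]
    split <;> simp

include X in
theorem stepW_spec (a : ℕ) (t : K) : ∀ W : List (ℕ × K), stepOK a (W.map Prod.fst) = true →
    (rt chevE6 a t)⁻¹ * wordRt chevE6 W * rt chevE6 a t = wordRt chevE6 (stepW a t W)
  | [], _ => by simp [wordRt, stepW]
  | p :: W, h => by
    simp only [stepOK, List.map_cons, List.all_cons, Bool.and_eq_true] at h
    have ih := stepW_spec a t W h.2
    have hp : (rt chevE6 a t)⁻¹ * rt chevE6 p.1 p.2 * rt chevE6 a t =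
        wordRt chevE6 (p :: (if FastTable.entry chevE6 a p.1 = 0 then []
          else [(FastTable.entry chevE6 a p.1 / 4, (entrySign chevE6 a p.1 : K) * (-t) * p.2)])) := by
      have hq := h.1
      simp only [okPair, Bool.and_eq_true, Bool.or_eq_true, decide_eq_true_eq, beq_iff_eq,
        bne_iff_ne, ne_eq, and_true] at hq
      obtain ⟨⟨ha, hb⟩, hq⟩ := hq
      by_cases hab : a = p.1
      · have he : FastTable.entry chevE6 a p.1 = 0 := by
          have hall : ∀ a : Fin chevE6.nroots, FastTable.entry chevE6 a.val a.val = 0 := by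
            decide +kernel
          rw [← hab]
          exact hall ⟨a, ha⟩
        rw [if_pos he, ← hab, X.chk.rt_inv, X.chk.rt_mul, X.chk.rt_mul]
        simp [wordRt, ← hab]
      · obtain ⟨hneg, hq⟩ := hq.resolve_left hab
        rcases hq with ⟨h1, h2⟩ | ⟨h1, h2⟩
        · have e := congrArg Subtype.val (xe_comm X.chk ha hb (Ne.symm hab) hneg
            (commTerms_of_nil (FastTable.chainEntry_of_zero h1) (FastTable.chainEntry_of_zero h2)) t p.2)
          rw [if_pos h1, mul_assoc]
          simp only [Subgroup.coe_mul, xe] at e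
          rw [e, inv_mul_cancel_left]
          simp [wordRt]
        · have h0 : FastTable.entry chevE6 a p.1 ≠ 0 := fun e => by simp [e, validEntry] at h1
          have e := congrArg Subtype.val (xe_swap X.chk ha hb (Ne.symm hab) hneg
            (commTerms_of_valid h1 h2) t p.2)
          rw [if_neg h0, mul_assoc]
          simp only [Subgroup.coe_mul, xe] at e
          rw [e, mul_assoc (rt chevE6 a t), inv_mul_cancel_left]
          simp [wordRt]
    have happ : ∀ u v : List (ℕ × K), wordRt chevE6 (u ++ v) = wordRt chevE6 u * wordRt chevE6 v :=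
      fun u v => by simp [wordRt]
    show _ = wordRt chevE6 ((p :: _) ++ stepW a t W)
    rw [happ, ← hp, ← ih]
    simp only [wordRt, List.map_cons, List.prod_cons]
    group

theorem commOK_iff {L : List ℕ} : commOK L = true ↔ ∀ k ∈ L, k < 72 ∧ ∀ l ∈ L,
    okPair chevE6 k l noRoot = true ∧ okPair chevE6 (tn k) l noRoot = true := by
  simp [commOK]

theorem nm_word : ∀ W : List (ℕ × K), commOK (W.map Prod.fst) = true →
    nm X (wordRt chevE6 W) = (((W.map fun p => ye X p.1 p.2).prod : ↥X.grp) : GL chevE6.Idx K)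
  | [], _ => by simp [wordRt, nm]
  | p :: W, h => by
    rw [commOK_iff] at h
    obtain ⟨hp, hl⟩ := h p.1 (by simp)
    have ih := nm_word W (commOK_iff.2 fun k hk =>
      ⟨(h k (List.mem_cons_of_mem _ hk)).1, fun l hl' =>
        (h k (List.mem_cons_of_mem _ hk)).2 l (List.mem_cons_of_mem _ hl')⟩)
    rw [List.map_cons, List.prod_cons, Subgroup.coe_mul, ← ih, coe_ye X hp, yv_eq_nm X hp]
    simp only [wordRt, List.map_cons, List.prod_cons]
    refine nm_mul X ?_
    rw [phi_rt X hp]
    refine Commute.list_prod_right _ _ fun z hz => ?_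
    obtain ⟨q, hq, rfl⟩ := List.mem_map.1 hz
    exact rt_commute X (hl q.1 (List.mem_cons_of_mem _ (List.mem_map.2 ⟨q, hq, rfl⟩))).2 _ _

theorem exists_tr_one (X : Twist e6Fold T K) [hI : Invol X] : ∃ s : K, tr X s = 1 := by
  obtain ⟨t, ht⟩ := hI.ne
  have h0 : ∃ u, tr X u ≠ 0 := by
    by_contra hno
    push Not at hno
    have h1 := hno 1
    have h2 := hno t
    simp only [tr, map_one] at h1 h2
    exact ht (by linear_combination h2 - t * h1)
  obtain ⟨u, hu⟩ := h0
  refine ⟨u / tr X u, ?_⟩
  show u / tr X u + X.f (u / tr X u) = 1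
  rw [map_div₀, f_tr, ← add_div]
  exact div_self hu

include X in
theorem swapW {a w : ℕ} : ∀ W : List (ℕ × K),
    (∀ l ∈ W.map Prod.fst, okPair chevE6 a l (fun r => r == w) = true ∧ okPair chevE6 l w noRoot = true) →
    ∀ t : K, ∃ p : K, wordRt chevE6 W * rt chevE6 a t = rt chevE6 a t * wordRt chevE6 W * rt chevE6 w p
  | [], _, t => ⟨0, by simp [wordRt, X.chk.rt_zero]⟩
  | x :: W, h, t => by
    obtain ⟨p1, hp1⟩ := swapW W (fun l hl => h l (List.mem_cons_of_mem _ hl)) t
    obtain ⟨ha, hb, hs⟩ := okPair_spec (h x.1 (by simp)).1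
    have hsw : ∃ p, rt chevE6 x.1 x.2 * rt chevE6 a t = rt chevE6 a t * rt chevE6 x.1 x.2 * rt chevE6 w p := by
      rcases hs with e | ⟨hne, hneg, e | ⟨k, c, e, hk⟩⟩
      · exact ⟨0, by rw [X.chk.rt_zero, mul_one, e, X.chk.rt_mul, X.chk.rt_mul, add_comm]⟩
      · have := congrArg Subtype.val (xe_comm X.chk ha hb hne hneg e t x.2)
        simp only [Subgroup.coe_mul, xe] at this
        exact ⟨0, by rw [this, X.chk.rt_zero, mul_one]⟩
      · have := congrArg Subtype.val (xe_swap X.chk ha hb hne hneg e t x.2)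
        simp only [Subgroup.coe_mul, xe] at this
        rw [beq_iff_eq.1 hk] at this
        exact ⟨_, this⟩
    obtain ⟨p, hp⟩ := hsw
    have hcW : Commute (rt chevE6 w p) (wordRt chevE6 W) := by
      refine Commute.list_prod_right _ _ fun z hz => ?_
      obtain ⟨q, hq, rfl⟩ := List.mem_map.1 hz
      exact (rt_commute X (h q.1 (List.mem_cons_of_mem _ (List.mem_map.2 ⟨q, hq, rfl⟩))).2 _ _).symm
    refine ⟨p + p1, ?_⟩
    have hsplit : wordRt chevE6 (x :: W) = rt chevE6 x.1 x.2 * wordRt chevE6 W := by simp [wordRt]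
    rw [hsplit, mul_assoc, hp1, ← mul_assoc, ← mul_assoc, hp, mul_assoc (rt chevE6 a t * _), hcW.eq,
      ← X.chk.rt_mul]
    simp only [mul_assoc]

theorem nm_wordW {w : ℕ} : ∀ W : List (ℕ × K), commW (W.map Prod.fst) w = true →
    ∃ p : K, nm X (wordRt chevE6 W) =
      (((W.map fun q => ye X q.1 q.2).prod : ↥X.grp) : GL chevE6.Idx K) * rt chevE6 w p
  | [], _ => ⟨0, by simp [wordRt, nm, X.chk.rt_zero]⟩
  | x :: W, h => by
    have h' : ∀ k ∈ x.1 :: W.map Prod.fst, k < 72 ∧ okPair chevE6 k w noRoot = true ∧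
        okPair chevE6 (tn k) w noRoot = true ∧ ∀ l ∈ x.1 :: W.map Prod.fst,
          okPair chevE6 k l (fun r => r == w) = true ∧
            okPair chevE6 (tn k) l (fun r => r == w) = true := by
      simp only [commW, List.map_cons, Bool.and_eq_true, List.all_eq_true, decide_eq_true_eq] at h
      exact fun k hk => ⟨(h.2 k hk).1.1.1, (h.2 k hk).1.1.2, (h.2 k hk).1.2, (h.2 k hk).2⟩
    obtain ⟨p1, hp1⟩ := nm_wordW W (by
      simp only [commW, List.map_cons, Bool.and_eq_true, List.all_eq_true, decide_eq_true_eq] at h ⊢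
      exact ⟨h.1, fun k hk => ⟨(h.2 k (List.mem_cons_of_mem _ hk)).1,
        fun l hl => (h.2 k (List.mem_cons_of_mem _ hk)).2 l (List.mem_cons_of_mem _ hl)⟩⟩)
    obtain ⟨hx, -, -, hxl⟩ := h' x.1 List.mem_cons_self
    obtain ⟨p2, hp2⟩ := swapW X (a := tn x.1) (w := w) W (fun l hl =>
      ⟨(hxl l (List.mem_cons_of_mem _ hl)).2, (h' l (List.mem_cons_of_mem _ hl)).2.1⟩)
      ((en x.1 : K) * X.f x.2)
    have hc : Commute (rt chevE6 w p2) (X.φ (wordRt chevE6 W)) := by
      rw [wordRt, map_list_prod, List.map_map]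
      refine Commute.list_prod_right _ _ fun z hz => ?_
      obtain ⟨q, hq, rfl⟩ := List.mem_map.1 hz
      obtain ⟨hq72, -, hq2, -⟩ := h' q.1 (List.mem_cons_of_mem _ (List.mem_map.2 ⟨q, hq, rfl⟩))
      simp only [Function.comp_apply, phi_rt X hq72]
      exact (rt_commute X hq2 _ _).symm
    refine ⟨p1 + p2, ?_⟩
    have hsplit : wordRt chevE6 (x :: W) = rt chevE6 x.1 x.2 * wordRt chevE6 W := by simp [wordRt]
    rw [List.map_cons, List.prod_cons, Subgroup.coe_mul, coe_ye X hx, ← X.chk.rt_mul, ← mul_assoc,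
      mul_assoc _ _ (rt chevE6 w p1), ← hp1, nm, hsplit, map_mul, phi_rt X hx, yv, nm]
    rw [show rt chevE6 x.1 x.2 * wordRt chevE6 W *
        (rt chevE6 (tn x.1) ((en x.1 : K) * X.f x.2) * X.φ (wordRt chevE6 W)) =
      rt chevE6 x.1 x.2 * (wordRt chevE6 W * rt chevE6 (tn x.1) ((en x.1 : K) * X.f x.2)) *
        X.φ (wordRt chevE6 W) by group, hp2]
    simp only [mul_assoc]
    rw [hc.eq]

theorem rt_eq_ye {w : ℕ} (hw : w < 72) (ht : tn w = w) {p : K}
    (hp : rt chevE6 w p ∈ X.grp) : ∃ u, (ye X w u : GL chevE6.Idx K) = rt chevE6 w p := by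
  have h := X.grp_le_fixed hp
  change X.φ (rt chevE6 w p) = rt chevE6 w p at h
  rw [phi_rt X hw, ht, (tab hw).2.2.2.2.1 ht, Int.cast_one, one_mul] at h
  have hfp : X.f p = p := X.chk.rt_injective hw h
  obtain ⟨s, hs⟩ := exists_tr_one X
  refine ⟨p * s, ?_⟩
  rw [coe_ye X hw, yv_fix X hw ht]
  congr 1
  rw [tr, map_mul, hfp, ← mul_add, show s + X.f s = 1 from hs, mul_one]

/-- The word of the conjugate of a root element by a twisted element. -/
def conjW (a b : ℕ) (t u : K) : List (ℕ × K) :=
  if tn a = a then stepW a (tr X t) [(b, u)]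
  else stepW (tn a) ((en a : K) * X.f t) (stepW a t [(b, u)])

theorem conjW_roots (a b : ℕ) (t u : K) : (conjW X a b t u).map Prod.fst = conjR a b := by
  unfold conjW conjR aRoots
  split <;> simp [stepW_roots]

theorem conjW_head (a b : ℕ) (t u : K) : ∃ R, conjW X a b t u = (b, u) :: R := by
  unfold conjW
  split
  · exact ⟨_, rfl⟩
  · exact ⟨_, rfl⟩

theorem conj_nm {a b : ℕ} (ha : a < 72) (hb : b < 72) (hc : conjOK a b = true) (t u : K) :
    (((ye X a t)⁻¹ * ye X b u * ye X a t : ↥X.grp) : GL chevE6.Idx K) =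
      nm X (wordRt chevE6 (conjW X a b t u)) := by
  rw [Subgroup.coe_mul, Subgroup.coe_mul,
    Subgroup.coe_inv, coe_ye X ha, coe_ye X hb, yv_eq_nm X hb, ← nm_conj X (yv_fixed X ha t)]
  congr 1
  unfold conjW
  by_cases hfix : tn a = a
  · rw [if_pos hfix, yv_fix X ha hfix]
    simp only [conjOK, if_pos hfix] at hc
    have := stepW_spec X a (tr X t) [(b, u)] (by simpa using hc)
    simpa [wordRt] using this
  · rw [if_neg hfix, yv]
    simp only [conjOK, if_neg hfix, Bool.and_eq_true] at hc
    have h1 := stepW_spec X a t [(b, u)] (by simpa using hc.1)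
    rw [← stepW_spec X (tn a) _ _ (by simpa [stepW_roots] using hc.2), ← h1]
    simp only [wordRt, List.map_cons, List.map_nil, List.prod_cons, List.prod_nil, mul_one]
    group

theorem conj_ye {a b : ℕ} (ha : a < 72) (hb : b < 72) (hc : conjOK a b = true)
    (hm : commOK (conjR a b) = true) (t u : K) :
    (ye X a t)⁻¹ * ye X b u * ye X a t = ((conjW X a b t u).map fun p => ye X p.1 p.2).prod := by
  apply Subtype.ext
  rw [conj_nm X ha hb hc, nm_word X _ (by rw [conjW_roots]; exact hm)]

/-- Conjugation in the general case: the roots of the word and at most one more. -/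
theorem conj_okT {a b : ℕ} {al : ℕ → Bool} (h : okT a b al = true) (t u : K) :
    ∃ R : List (ℕ × K), (∀ x ∈ R, al x.1 = true) ∧
      (ye X a t)⁻¹ * ye X b u * ye X a t = ye X b u * (R.map fun p => ye X p.1 p.2).prod := by
  simp only [okT, Bool.and_eq_true, decide_eq_true_eq, List.all_eq_true, Bool.or_eq_true] at h
  obtain ⟨⟨⟨⟨ha, hb⟩, hc⟩, hm⟩, hall⟩ := h
  obtain ⟨R, hR⟩ := conjW_head X a b t u
  have hroots := conjW_roots X a b t u
  rw [hR, List.map_cons] at hroots
  rw [← hroots, List.tail_cons] at hall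
  have hR' : ∀ x ∈ R, al x.1 = true := fun x hx => hall _ (List.mem_map.2 ⟨x, hx, rfl⟩)
  rcases hm with hm | ⟨hW, hw⟩
  · refine ⟨R, hR', ?_⟩
    rw [conj_ye X ha hb hc hm, hR, List.map_cons, List.prod_cons]
  · have hW0 := hW
    simp only [commW, Bool.and_eq_true, decide_eq_true_eq, beq_iff_eq] at hW0
    set w := extraRoot (conjR a b)
    obtain ⟨p, hp⟩ := nm_wordW X (w := w) (conjW X a b t u) (by rw [conjW_roots]; exact hW)
    have e := conj_nm X ha hb hc t u
    rw [hp] at e
    have hmem : rt chevE6 w p ∈ X.grp := by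
      have h1 := eq_inv_mul_of_mul_eq e.symm
      rw [h1]
      exact mul_mem (inv_mem (SetLike.coe_mem _)) (SetLike.coe_mem _)
    obtain ⟨v, hv⟩ := rt_eq_ye X hW0.1.1 hW0.1.2 hmem
    refine ⟨R ++ [(w, v)], ?_, ?_⟩
    · intro x hx
      rcases List.mem_append.1 hx with hx | hx
      · exact hR' x hx
      · rw [List.mem_singleton.1 hx]; exact hw
    · apply Subtype.ext
      rw [e, hR, ← hv]
      simp [mul_assoc]

theorem conj_sum {a b k : ℕ} (h : sumT a b k = true) (t u : K) :
    (ye X a t)⁻¹ * ye X b u * ye X a t =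
      ye X b u * ye X k ((entrySign chevE6 a b : K) * (-mu X a t) * u) := by
  simp only [sumT, Bool.and_eq_true, Bool.or_eq_true, beq_iff_eq] at h
  obtain ⟨⟨hs, ho⟩, hm⟩ := h
  have hs' := hs
  simp only [sumOK, Bool.and_eq_true, decide_eq_true_eq, beq_iff_eq, bne_iff_ne, ne_eq] at hs'
  obtain ⟨⟨⟨⟨⟨⟨⟨ha, hb⟩, -⟩, hne⟩, hneg⟩, hv1⟩, hv2⟩, hk⟩ := hs'
  have h0 : FastTable.entry chevE6 a b ≠ 0 := fun e => by simp [e, validEntry] at hv1
  have zero_of : ∀ {x y : ℕ}, okPair chevE6 x y noRoot = true → FastTable.entry chevE6 x y = 0 := by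
    intro x y hxy
    simp only [okPair, noRoot, Bool.and_eq_true, Bool.or_eq_true, decide_eq_true_eq, beq_iff_eq,
      bne_iff_ne, Bool.false_eq_true, and_false, or_false] at hxy
    rcases hxy.2 with rfl | h
    · have hall : ∀ x : Fin chevE6.nroots, FastTable.entry chevE6 x.val x.val = 0 := by decide +kernel
      exact hall ⟨x, hxy.1.1⟩
    · exact h.2.1
  have hW : ∀ t u : K, conjW X a b t u = [(b, u), (k, (entrySign chevE6 a b : K) * (-mu X a t) * u)] := by
    intro t u
    unfold conjW mu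
    by_cases hfix : tn a = a
    · simp [if_pos hfix, stepW, h0, hk]
    · obtain ⟨ho1, ho2⟩ := ho.resolve_left hfix
      simp [if_neg hfix, stepW, h0, hk, zero_of ho1, zero_of ho2]
  have hR : conjR a b = [b, k] := by rw [← conjW_roots X a b (0 : K) 0, hW]; rfl
  have hOK : conjOK a b = true := by
    have hp : okPair chevE6 a b (fun _ => true) = true := okPair_mono (fun _ _ => rfl) (okPair_of_sum hs)
    by_cases hfix : tn a = a
    · simp [conjOK, if_pos hfix, stepOK, hp]
    · obtain ⟨ho1, ho2⟩ := ho.resolve_left hfix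
      have hr : stepR a [b] = [b, k] := by simp [stepR, h0, hk]
      simp [conjOK, if_neg hfix, stepOK, hp, hr, okPair_mono (fun _ _ => rfl) ho1,
        okPair_mono (fun _ _ => rfl) ho2]
  rw [conj_ye X ha hb hOK (hR ▸ hm), hW]
  simp

theorem commute_ye {a b : ℕ} (h : okT a b noRoot = true) (t u : K) :
    Commute (ye X a t) (ye X b u) := by
  obtain ⟨R, hR, e⟩ := conj_okT X h t u
  rcases R with _ | ⟨x, R⟩
  · simp only [List.map_nil, List.prod_nil, mul_one] at e
    rw [mul_assoc, inv_mul_eq_iff_eq_mul] at e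
    exact e.symm
  · exact absurd (hR x List.mem_cons_self) (by simp [noRoot])

section Eigen

variable {V : Type*} [AddCommGroup V] [Module ℂ V] (ρ : Representation ℂ ↥X.grp V)

/-- `w` is an eigenvector of the twisted elements at `r` with character `χ`. -/
def Eg (w : V) (r : ℕ) (χ : AddChar K ℂ) : Prop := ∀ t, ρ (ye X r t) w = χ t • w

variable {X ρ}

theorem Eg.fixed {w : V} {r : ℕ} (h : Eg X ρ w r 1) (t : K) : ρ (ye X r t) w = w := by
  rw [h t]; simp

theorem eg_one_iff {w : V} {r : ℕ} : Eg X ρ w r 1 ↔ ∀ t, ρ (ye X r t) w = w :=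
  ⟨fun h t => h.fixed t, fun h t => by rw [h t]; simp⟩

theorem Eg.smul {w : V} {r : ℕ} {χ : AddChar K ℂ} (h : Eg X ρ w r χ) (c : ℂ) :
    Eg X ρ (c • w) r χ := fun t => by rw [map_smul, h t, smul_comm]

theorem Eg.of_tau {w : V} {r : ℕ} (hr : r < 72) (h : Eg X ρ w (tn r) 1) : Eg X ρ w r 1 := by
  rw [eg_one_iff]
  intro t
  obtain ⟨h1, h2, -⟩ := tab hr
  have := ye_tau X h1 t
  rw [h2] at this
  rw [this]
  exact h.fixed _

theorem ne_zero_map {w : V} (hw : w ≠ 0) (g : ↥X.grp) : ρ g w ≠ 0 := fun h =>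
  hw (rho_injective g (h.trans (map_zero _).symm))

/-- Twisted elements keep eigenvalues up to fixing elements. -/
theorem push {a b : ℕ} {al : ℕ → Bool} (h : okT a b al = true) {w : V} {χ : AddChar K ℂ}
    (hfix : ∀ k, al k = true → Eg X ρ w k 1) (hb : Eg X ρ w b χ) (t : K) :
    Eg X ρ (ρ (ye X a t) w) b χ := by
  intro u
  obtain ⟨R, hR, e⟩ := conj_okT X h t u
  have hR' : ρ ((R.map fun p => ye X p.1 p.2).prod) w = w := by
    clear e
    induction R with
    | nil => simp
    | cons p L ih =>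
      rw [List.map_cons, List.prod_cons, map_mul, Module.End.mul_apply,
        ih (fun x hx => hR x (List.mem_cons_of_mem _ hx)), (hfix _ (hR p List.mem_cons_self)).fixed]
  rw [← Module.End.mul_apply, ← map_mul, show ye X b u * ye X a t =
      ye X a t * ((ye X a t)⁻¹ * ye X b u * ye X a t) by group, e, map_mul, map_mul,
    Module.End.mul_apply, Module.End.mul_apply, hR', hb u, map_smul]

/-- The new eigenvalue after an element creating `k`. -/
theorem push_sum {a b k : ℕ} (h : sumT a b k = true) {w : V} {χ δ : AddChar K ℂ}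
    (hb : Eg X ρ w b χ) (hk : Eg X ρ w k δ) (t u : K) :
    ρ (ye X b u) (ρ (ye X a t) w) =
      (χ u * δ ((entrySign chevE6 a b : K) * (-mu X a t) * u)) • ρ (ye X a t) w := by
  rw [← Module.End.mul_apply, ← map_mul, show ye X b u * ye X a t =
      ye X a t * ((ye X a t)⁻¹ * ye X b u * ye X a t) by group, conj_sum X h, map_mul, map_mul,
    Module.End.mul_apply, Module.End.mul_apply, hk, map_smul, hb, map_smul, map_smul, smul_smul,
    mul_comm (δ _)]

theorem exists_mu_ne (X : Twist e6Fold T K) [hI : Invol X] (a : ℕ) : ∃ t : K, mu X a t ≠ 0 := by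
  by_cases h : tn a = a
  · obtain ⟨t, ht⟩ := hI.ne
    by_contra hno
    push Not at hno
    have h1 := hno 1
    have h2 := hno t
    simp only [mu, if_pos h, tr, map_one] at h1 h2
    exact ht (by linear_combination h2 - t * h1)
  · exact ⟨1, by simp [mu, if_neg h]⟩

theorem sign_ne_zero (a b : ℕ) : (entrySign chevE6 a b : K) ≠ 0 := by
  unfold entrySign
  split_ifs <;> simp

/-- Two twisted groups acting on a vector by scalars fix it by their commutator. -/
theorem fixed_of_scalar {a b k : ℕ} (h : sumT a b k = true) {v : V}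
    {fa fb : K → ℂ} (hfa : ∀ t, ρ (ye X a t) v = fa t • v) (hfb : ∀ t, ρ (ye X b t) v = fb t • v) :
    Eg X ρ v k 1 := by
  rw [eg_one_iff]
  intro p
  obtain ⟨t, ht⟩ := exists_mu_ne X a
  set u : K := p / ((entrySign chevE6 a b : K) * (-mu X a t)) with hu
  have hne : (entrySign chevE6 a b : K) * (-mu X a t) ≠ 0 :=
    mul_ne_zero (sign_ne_zero a b) (neg_ne_zero.2 ht)
  have hp : (entrySign chevE6 a b : K) * (-mu X a t) * u = p := by rw [hu, mul_div_cancel₀ p hne]
  have e := congrArg (fun g => ρ g v) (conj_sum X h t u)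
  simp only [hp, map_mul, Module.End.mul_apply] at e
  apply rho_injective (ρ := ρ) (ye X b u)
  rw [← e, hfa, map_smul, map_smul, hfb, map_smul, smul_comm (fa t), ← map_smul (ρ (ye X a t)⁻¹), ← hfa t, ← Module.End.mul_apply,
    ← map_mul, inv_mul_cancel, map_one, Module.End.one_apply]

end Eigen

end H17.HeisDeg.TwAct
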