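import Cfsg.Agent.H17.HeisDegree.TwLevel
import Cfsg.Agent.H17.HeisDegree.DegreeArith

/-!
Certificates for the minimal degree of `²E₆(q)`.
-/

set_option autoImplicit false
set_option maxRecDepth 4096

namespace H17.HeisDeg.TwAct

open Cfsg.Lie H52 RootAct

/-- The first radical. -/
def prevT1 : List ℕ := [71]

/-- The rest of the first radical, less `z`. -/
def radT1 : List ℕ := [46, 47, 48, 49, 50, 51, 52, 53, 54, 55, 61, 62, 63, 64, 65, 66, 67, 68, 69, 70]

/-- The radical inside the Levi factor. -/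
def radT2 : List ℕ := [39, 40, 41, 43, 44, 45, 58, 59, 60]

/-- The items of the first level. -/
def itemsT1 : List LevelItem :=
  [⟨46, 0, 0, []⟩,
    ⟨47, 2, 46, [(39, 46)]⟩,
    ⟨51, 1, 47, [(44, 46), (37, 50)]⟩,
    ⟨63, 0, 51, [(60, 46), (36, 62), (38, 61)]⟩,
    ⟨53, 2, 51, [(39, 51), (44, 47), (40, 50)]⟩,
    ⟨65, 2, 63, [(39, 63), (60, 47), (36, 64), (41, 61)]⟩,
    ⟨69, 1, 65, [(44, 63), (60, 51), (37, 68), (38, 67), (45, 62)]⟩,
    ⟨70, 2, 69, [(39, 69), (44, 65), (60, 53), (40, 68), (41, 67), (45, 64)]⟩]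

/-- The items of the second level. -/
def itemsT2 : List LevelItem :=
  [⟨39, 0, 0, []⟩,
    ⟨44, 1, 39, [(37, 43)]⟩,
    ⟨60, 0, 44, [(36, 59), (38, 58)]⟩]

theorem levelT1_ok : levelT prevT1 radT1 [36, 37, 38, 39, 40, 41, 44, 45, 60] [0, 1, 2] 46 3 itemsT1 = true := by
  decide +kernel

theorem levelT2_ok : levelT (prevT1 ++ radT1) radT2 [36, 37, 38] [0, 1] 39 1 itemsT2 = true := by
  decide +kernel

theorem itemsT1_sizes : itemsT1.map (fun it => itemSize it 2) = [1, 2, 8, 32, 16, 64, 256, 512] := by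
  decide +kernel

/-- The bound. -/
def boundT (q : ℕ) : ℕ := q * (q ^ 6 - q ^ 3 + 1) * (q ^ 4 + 1)

/-- Exponents in a multiple of the order. -/
def orderDs : List ℕ := [2, 10, 6, 8, 18, 12]

/-- `T - 1`. -/
def shortPoly1 : List ℤ := [-1, 1, 0, 0, -1, 1, 0, 1, -1, 0, 0, 1]

/-- The quotient by `T - 1`. -/
def quotPoly1 : List ℤ := [-183, 109, 4, -83, 101, -62, -5, 62, -69, 31, 21, -45, 32, -7, -15, 21, -18, 6, 10, -18, 13, 2, -11, 10, -3, -3, 3, -5, 3, 0, -3, 5, 0, -2, 3, 0, -1, 1, -1, 0, -1, -1, 1, -1, 0, 1]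

theorem cert1_ok : DegreeArith.certOK 137 1 orderDs shortPoly1 quotPoly1 (-182) [292, -106, -87, 1, 129, -49, 163, -239, 42] (134) = true := by
  decide +kernel

theorem small1_ok : DegreeArith.smallOK boundT 1 36 orderDs 137 = true := by decide +kernel

/-- `T - 2`. -/
def shortPoly2 : List ℤ := [-2, 1, 0, 0, -1, 1, 0, 1, -1, 0, 0, 1]

/-- The quotient by `T - 2`. -/
def quotPoly2 : List ℤ := [-1524, 1270, -398, -426, 766, -664, 150, 330, -494, 304, 56, -228, 218, -82, -42, 92, -110, 46, 26, -78, 64, 2, -36, 42, -12, -6, 10, -18, 10, -4, -10, 14, -2, -4, 8, 0, -2, 2, -2, 0, -2, -2, 2, -2, 0, 2]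

theorem cert2_ok : DegreeArith.certOK 1352 2 orderDs shortPoly2 quotPoly2 (-3046) [4064, -2068, -454, 434, 700, -706, 2006, -2920, 1340] (650) = true := by
  decide +kernel

theorem small2_ok : DegreeArith.smallOK boundT 2 36 orderDs 1352 = true := by decide +kernel

end H17.HeisDeg.TwAct
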