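import Cfsg.Agent.H17.HeisDegree.TwWeyl
import Cfsg.Agent.H17.HeisDegree.HeisA

/-!
The counting data of the Heisenberg radical of `²E₆(q)`: three abelian roots over the fixed
field and three pairs over the big field.
-/

set_option autoImplicit false
set_option linter.unusedSectionVars false

namespace H17.HeisDeg.TwAct

open Cfsg.Lie H52 RootAct

/-- The abelian roots: three fixed ones, then three representatives of pairs. -/
def tauT : Fin (3 + 3) → ℕ := ![47, 51, 63, 48, 49, 52]

/-- The roots pairing them with the highest root. -/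
def aaT : Fin (3 + 3) → ℕ := ![69, 65, 53, 68, 67, 64]

/-- The roots pairing them with the simple root. -/
def sgT : Fin (3 + 3) → ℕ := ![32, 27, 11, 31, 30, 26]

/-- The checks on roots moving the abelian part to the root `k`. -/
def moveOK (b : Fin (3 + 3) → ℕ) (k : ℕ) (i : Fin (3 + 3)) : Bool :=
  sumT (b i) (tauT i) k && okT (b i) 71 noRoot && okT (b i) 46 noRoot &&
    (List.finRange (3 + 3)).all fun j => i == j || okT (b i) (tauT j) noRoot

theorem fixed_fact : ∀ i : Fin (3 + 3), i.val < 3 →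
    tn (tauT i) = tauT i ∧ tn (aaT i) = aaT i ∧ tn (sgT i) = sgT i := by
  decide +kernel

theorem pair_fact : ∀ i : Fin (3 + 3), ¬ i.val < 3 → tn (aaT i) ≠ aaT i ∧ tn (sgT i) ≠ sgT i := by
  decide +kernel

theorem aa_move : ∀ i, moveOK aaT 71 i = true := by decide +kernel

theorem sg_move : ∀ i, moveOK sgT 46 i = true := by decide +kernel

theorem tau_fact : ∀ i, okT (tauT i) 46 noRoot = true ∧ okT (tauT i) 71 noRoot = true ∧
    okT 70 (tauT i) noRoot = true ∧ ∀ j, okT (tauT i) (tauT j) noRoot = true := by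
  decide +kernel

theorem tau_lt : ∀ i, tauT i < 72 := by decide +kernel

theorem core_fact : okT 46 71 noRoot = true ∧ okT 70 71 noRoot = true ∧ sumT 70 46 71 = true ∧
    tn 46 = 46 ∧ tn 70 = 70 ∧ tn 71 = 71 ∧ chevE6.cartan 3 46 = -1 ∧
    [3, 2, 1, 2, 0, 1, 2].foldr reflT 46 = 71 := by
  decide +kernel

variable {T : Tables} {K : Type*} [Field K] (X : Twist e6Fold T K) [hI : Invol X]

theorem conj_of_okT {a b : ℕ} (h : okT a b noRoot = true) (t u : K) :
    (ye X a t)⁻¹ * ye X b u * ye X a t = ye X b u := by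
  rw [mul_assoc, ← (commute_ye X h t u).eq, inv_mul_cancel_left]

theorem word_reflT : ∀ (L : List ℕ), (∀ J ∈ L, J < chevF4.rank) → ∀ {r : ℕ}, r < 72 →
    L.foldr reflT r < 72 ∧ ∃ (g : ↥X.grp) (ε : ℤ), ε * ε = 1 ∧
      ∀ t, g⁻¹ * ye X (L.foldr reflT r) t * g = ye X r ((ε : K) * t)
  | [], _, r, hr => ⟨hr, 1, 1, one_mul 1, fun t => by simp⟩
  | J :: L, hL, r, hr => by
    obtain ⟨hlt, g, ε, hε, hg⟩ := word_reflT L (fun j hj => hL j (List.mem_cons_of_mem _ hj)) hr
    obtain ⟨hlt', η, hη, hc⟩ := reflT_conj X (hL J List.mem_cons_self) hlt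
    refine ⟨hlt', nT X J * g, ε * η, by linear_combination (η * η) * hε + hη, fun t => ?_⟩
    rw [List.foldr_cons, mul_inv_rev, Int.cast_mul, mul_assoc (ε : K), ← hg, ← hc]
    group

/-- The homomorphism of a root group. -/
noncomputable def yeHom (r : ℕ) : Multiplicative K →* ↥X.grp where
  toFun t := ye X r t.toAdd
  map_one' := ye_zero X r
  map_mul' a b := ye_add X r a.toAdd b.toAdd

/-- The abelian part as a homomorphism. -/
noncomputable def T6hom : (Fin (3 + 3) → Multiplicative K) →* ↥X.grp :=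
  MonoidHom.noncommPiCoprod (fun i => yeHom X (tauT i))
    fun i j _ x y => commute_ye X ((tau_fact i).2.2.2 j) x.toAdd y.toAdd

/-- The abelian part with parameters in the big field. -/
noncomputable def T6 (x : Fin (3 + 3) → K) : ↥X.grp :=
  T6hom X fun i => Multiplicative.ofAdd (x i)

theorem T6_add (a b : Fin (3 + 3) → K) : T6 X (a + b) = T6 X a * T6 X b := by
  rw [T6, T6, T6, ← map_mul]
  rfl

theorem T6_single (i : Fin (3 + 3)) (u : K) : T6 X (Pi.single i u) = ye X (tauT i) u := by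
  rw [T6, show (fun j => Multiplicative.ofAdd ((Pi.single i u : Fin (3 + 3) → K) j)) =
      Pi.mulSingle i (Multiplicative.ofAdd u) by
    funext j
    by_cases hj : j = i
    · subst hj; simp
    · simp [Pi.single_eq_of_ne hj, Pi.mulSingle_eq_of_ne hj],
    T6hom]
  exact MonoidHom.noncommPiCoprod_mulSingle _ _ _

theorem T6_zero : T6 X (0 : Fin (3 + 3) → K) = 1 := map_zero_eq (T6_add X)

omit hI in
/-- Induction on six coordinates. -/
@[elab_as_elim]
theorem six_induction {M : Type*} [AddCommMonoid M] {P : (Fin (3 + 3) → M) → Prop} (h0 : P 0)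
    (hadd : ∀ a b, P a → P b → P (a + b)) (hs : ∀ i u, P (Pi.single i u)) (c : Fin (3 + 3) → M) :
    P c := by
  rw [← Finset.univ_sum_single c]
  exact Finset.sum_induction _ P hadd h0 fun i _ => hs i _

theorem T6_commute {b : ℕ} (h : ∀ i, okT (tauT i) b noRoot = true) (u : K)
    (x : Fin (3 + 3) → K) : Commute (T6 X x) (ye X b u) := by
  refine six_induction ?_ (fun a a' ha hb => ?_) (fun i t => ?_) x
  · rw [T6_zero]; exact Commute.one_left _
  · rw [T6_add]; exact ha.mul_left hb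
  · rw [T6_single]; exact commute_ye X (h i) t u

theorem tauT_fix {k : ℕ} (hk : k = 71 ∨ k = 46) : ∀ i, okT (tauT i) k noRoot = true := fun i => by
  rcases hk with rfl | rfl
  · exact (tau_fact i).2.1
  · exact (tau_fact i).1

/-- The inclusion of the parameters. -/
noncomputable def incl : ((Fin 3 → P0 X) × (Fin 3 → K)) →+ (Fin (3 + 3) → K) where
  toFun c := Fin.append (fun i => (c.1 i : K) * sOne X) c.2
  map_zero' := by
    funext i
    refine Fin.addCases (fun i => ?_) (fun i => ?_) i <;>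
      simp only [Fin.append_left, Fin.append_right] <;> simp
  map_add' a b := by
    funext i
    refine Fin.addCases (fun i => ?_) (fun i => ?_) i <;>
      simp only [Pi.add_apply, Fin.append_left, Fin.append_right] <;> simp [add_mul]

omit hI in
theorem sign_sq (a b : ℕ) : (entrySign chevE6 a b : K) * (entrySign chevE6 a b : K) = 1 := by
  unfold entrySign
  split_ifs <;> norm_num

omit hI in
theorem addChar_sum {A ι : Type*} [AddCommGroup A] (χ : AddChar A ℂ) (s : Finset ι) (f : ι → A) :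
    χ (∑ i ∈ s, f i) = ∏ i ∈ s, χ (f i) := by
  classical
  induction s using Finset.induction with
  | empty => simp
  | insert i s hi ih => rw [Finset.sum_insert hi, Finset.prod_insert hi, AddChar.map_add_eq_mul, ih]

/-- Every character of the parameters is a scalar product followed by a character of the fixed
field. -/
theorem exists_dot [Fintype K] {ψ : AddChar (P0 X) ℂ} (hψ : ψ ≠ 1)
    (χ : AddChar ((Fin 3 → P0 X) × (Fin 3 → K)) ℂ) :
    ∃ k : Fin (3 + 3) → K, (∀ i : Fin (3 + 3), i.val < 3 → X.f (k i) = k i) ∧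
      ∀ c, chK X ψ (k ⬝ᵥ incl X c) = χ c := by
  have : Fintype (P0 X) := Fintype.ofFinite _
  choose kf hkf using fun i : Fin 3 => pairing_bijective (fun a d : P0 X => a * d)
    (fun a b c => by ring) (fun a b c => by ring) (fun t ht e => ⟨e / t, by field_simp⟩) hψ
    (χ.compAddMonoidHom ((AddMonoidHom.inl _ _).comp (AddMonoidHom.single (fun _ => P0 X) i)))
  choose kp hkp using fun i : Fin 3 => pairing_bijective (fun a d : K => trP X (a * d))
    (fun a b c => by rw [add_mul, map_add]) (fun a b c => by rw [mul_add, map_add])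
    (fun t ht e => ⟨t⁻¹ * ((e : K) * sOne X), by
      rw [← mul_assoc, mul_inv_cancel₀ ht, one_mul, trP_smul_sOne]⟩) hψ
    (χ.compAddMonoidHom ((AddMonoidHom.inr _ _).comp (AddMonoidHom.single (fun _ => K) i)))
  refine ⟨Fin.append (fun i => (kf i : K)) kp, fun i hi => ?_, fun c => ?_⟩
  · obtain ⟨j, rfl⟩ : ∃ j : Fin 3, Fin.castAdd 3 j = i := ⟨⟨i.val, hi⟩, rfl⟩
    rw [Fin.append_left]
    exact f_coe X (kf j)
  · have hdot : Fin.append (fun i => (kf i : K)) kp ⬝ᵥ incl X c =
        ((∑ i, kf i * c.1 i : P0 X) : K) * sOne X + ∑ i, kp i * c.2 i := by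
      simp only [dotProduct, Fin.sum_univ_add, incl, AddMonoidHom.coe_mk, ZeroHom.coe_mk,
        Fin.append_left, Fin.append_right]
      simp [Finset.sum_mul, mul_assoc]
    have e1 : c = (∑ i, ((Pi.single i (c.1 i), 0) : (Fin 3 → P0 X) × (Fin 3 → K))) +
        ∑ i, ((0, Pi.single i (c.2 i)) : (Fin 3 → P0 X) × (Fin 3 → K)) := by
      refine Prod.ext ?_ ?_ <;> simp [Prod.fst_sum, Prod.snd_sum, Finset.univ_sum_single]
    rw [hdot, AddChar.map_add_eq_mul, chK_apply, chK_apply, trP_smul_sOne,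
      addChar_sum ψ, map_sum (trP X), addChar_sum ψ]
    conv_rhs => rw [e1, AddChar.map_add_eq_mul, addChar_sum, addChar_sum]
    congr 1
    · exact Finset.prod_congr rfl fun i _ => hkf i (c.1 i)
    · exact Finset.prod_congr rfl fun i _ => hkp i (c.2 i)

/-- Elements moving the abelian part to the root `k0`. -/
theorem exists_move {b : Fin (3 + 3) → ℕ} {k0 : ℕ} (hk0 : k0 = 71 ∨ k0 = 46)
    (hb : ∀ i, moveOK b k0 i = true)
    (hmu : ∀ i : Fin (3 + 3), (i.val < 3 ↔ tn (b i) = b i))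
    (k : Fin (3 + 3) → K) (hk : ∀ i : Fin (3 + 3), i.val < 3 → X.f (k i) = k i) :
    ∃ g : ↥X.grp, (∀ e, g⁻¹ * ye X 71 e * g = ye X 71 e) ∧
      (∀ d, g⁻¹ * ye X 46 d * g = ye X 46 d) ∧
      ∀ x, g⁻¹ * T6 X x * g = T6 X x * ye X k0 (k ⬝ᵥ x) := by
  rw [← Finset.univ_sum_single k]
  refine Finset.sum_induction _ (fun k => ∃ g : ↥X.grp, (∀ e, g⁻¹ * ye X 71 e * g = ye X 71 e) ∧
      (∀ d, g⁻¹ * ye X 46 d * g = ye X 46 d) ∧
      ∀ x, g⁻¹ * T6 X x * g = T6 X x * ye X k0 (k ⬝ᵥ x)) ?_ ?_ ?_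
  · rintro a a' ⟨g, g1, g2, g3⟩ ⟨g', k1, k2, k3⟩
    have hfix : ∀ u, g'⁻¹ * ye X k0 u * g' = ye X k0 u := by
      rcases hk0 with rfl | rfl <;> assumption
    refine ⟨g * g', fun e => ?_, fun d => ?_, fun x => ?_⟩
    · rw [show (g * g')⁻¹ * ye X 71 e * (g * g') = g'⁻¹ * (g⁻¹ * ye X 71 e * g) * g' by group,
        g1, k1]
    · rw [show (g * g')⁻¹ * ye X 46 d * (g * g') = g'⁻¹ * (g⁻¹ * ye X 46 d * g) * g' by group,
        g2, k2]
    · rw [show (g * g')⁻¹ * T6 X x * (g * g') = g'⁻¹ * (g⁻¹ * T6 X x * g) * g' by group, g3,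
        show g'⁻¹ * (T6 X x * ye X k0 (a ⬝ᵥ x)) * g' =
          (g'⁻¹ * T6 X x * g') * (g'⁻¹ * ye X k0 (a ⬝ᵥ x) * g') by group, k3, hfix, mul_assoc,
        ← ye_add, add_dotProduct, add_comm]
  · exact ⟨1, fun e => by simp, fun d => by simp, fun x => by simp [ye_zero]⟩
  intro i _
  have hi := hb i
  simp only [moveOK, Bool.and_eq_true, List.all_eq_true, Bool.or_eq_true, beq_iff_eq] at hi
  obtain ⟨⟨⟨hs, hz⟩, hr⟩, hoth⟩ := hi
  set c : K := (entrySign chevE6 (b i) (tauT i) : K)
  have hc2 : c * c = 1 := sign_sq _ _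
  obtain ⟨s, hsmu⟩ : ∃ s, mu X (b i) s = -(c * k i) := by
    by_cases h : i.val < 3
    · refine ⟨-(c * k i) * sOne X, ?_⟩
      have hfix : X.f (-(c * k i)) = -(c * k i) := by
        simp [c, hk i h]
      rw [mu, if_pos ((hmu i).1 h), tr, map_mul, hfix, ← mul_add, show sOne X + X.f (sOne X) = 1 from
        tr_sOne X, mul_one]
    · exact ⟨-(c * k i), by rw [mu, if_neg fun e => h ((hmu i).2 e)]⟩
  refine ⟨ye X (b i) s, fun e => conj_of_okT X hz _ e, fun d => conj_of_okT X hr _ d, fun x => ?_⟩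
  refine six_induction ?_ (fun a a' ha ha' => ?_) (fun j t => ?_) x
  · rw [T6_zero, dotProduct_zero, ye_zero]; group
  · rw [T6_add, dotProduct_add, ye_add,
      show (ye X (b i) s)⁻¹ * (T6 X a * T6 X a') * ye X (b i) s =
        ((ye X (b i) s)⁻¹ * T6 X a * ye X (b i) s) * ((ye X (b i) s)⁻¹ * T6 X a' * ye X (b i) s) by
        group, ha, ha']
    rw [mul_assoc, ← mul_assoc (ye X k0 _), ← (T6_commute X (tauT_fix hk0) _ a').eq]
    simp only [mul_assoc]
  · rw [T6_single, dotProduct_single]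
    by_cases hij : i = j
    · subst hij
      rw [conj_sum X hs, hsmu, Pi.single_eq_same]
      congr 2
      show c * -(-(c * k i)) * t = k i * t
      linear_combination (k i * t) * hc2
    · rw [conj_of_okT X ((hoth j (List.mem_finRange j)).resolve_left hij),
        Pi.single_eq_of_ne (Ne.symm hij), zero_mul, ye_zero, mul_one]

theorem aa_mu : ∀ i : Fin (3 + 3), (i.val < 3 ↔ tn (aaT i) = aaT i) := fun i =>
  ⟨fun h => (fixed_fact i h).2.1, fun h => by_contra fun n => (pair_fact i n).1 h⟩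

theorem sg_mu : ∀ i : Fin (3 + 3), (i.val < 3 ↔ tn (sgT i) = sgT i) := fun i =>
  ⟨fun h => (fixed_fact i h).2.2, fun h => by_contra fun n => (pair_fact i n).2 h⟩

theorem T6_scale {g : ↥X.grp} (κ : Fin (3 + 3) → K)
    (h : ∀ i t, g⁻¹ * ye X (tauT i) t * g = ye X (tauT i) (κ i * t)) (x : Fin (3 + 3) → K) :
    g⁻¹ * T6 X x * g = T6 X fun i => κ i * x i := by
  refine six_induction ?_ (fun a a' ha hb => ?_) (fun i t => ?_) x
  · rw [show (fun i => κ i * (0 : Fin (3 + 3) → K) i) = 0 by funext i; simp, T6_zero]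
    group
  · rw [show (fun i => κ i * (a + a') i) = (fun i => κ i * a i) + fun i => κ i * a' i by
      funext i; simp [mul_add], T6_add, T6_add, ← ha, ← hb]
    group
  · rw [T6_single, h, ← T6_single]
    congr 1
    funext j
    by_cases hj : j = i
    · subst hj; simp
    · simp [Pi.single_eq_of_ne hj]

/-- The counting data. -/
noncomputable def core [Fintype K] : CoreA ↥X.grp (P0 X) ((Fin 3 → P0 X) × (Fin 3 → K)) where
  T2 c := T6 X (incl X c)
  r := yP X 46
  z := yP X 71
  T2_add a b := by rw [map_add, T6_add]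
  r_add := yP_add X 46
  z_add := yP_add X 71
  T2_r c d := T6_commute X (tauT_fix (Or.inr rfl)) _ _
  T2_z c e := T6_commute X (tauT_fix (Or.inl rfl)) _ _
  r_z d e := commute_ye X core_fact.1 _ _
  shift ψ hψ χ a := by
    obtain ⟨k, hk, hkχ⟩ := exists_dot X hψ χ
    obtain ⟨g, g1, g2, g3⟩ := exists_move X (Or.inl rfl) aa_move aa_mu k hk
    set c : K := (entrySign chevE6 70 46 : K)
    have hc2 : c * c = 1 := sign_sq _ _
    have hs : mu X 70 (-(c * a) * sOne X) = -(c * a) := by
      have hfix : X.f (-(c * (a : K))) = -(c * a) := by simp [c, f_coe X a]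
      rw [mu, if_pos core_fact.2.2.2.2.1, tr, map_mul, hfix, ← mul_add,
        show sOne X + X.f (sOne X) = 1 from tr_sOne X, mul_one]
    set l := ye X 70 (-(c * (a : K)) * sOne X)
    have lT : ∀ x, l⁻¹ * T6 X x * l = T6 X x := fun x => by
      have h := T6_scale X (g := l) (fun _ => 1)
        (fun i t => by rw [one_mul]; exact conj_of_okT X (tau_fact i).2.2.1 _ t) x
      simpa using h
    refine ⟨g * l, fun c => trP X (k ⬝ᵥ incl X c), fun c => by rw [← chK_apply, hkχ],
      fun e => ?_, fun d => ?_, fun x => ?_⟩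
    · rw [show (g * l)⁻¹ * yP X 71 e * (g * l) = l⁻¹ * (g⁻¹ * yP X 71 e * g) * l by group]
      simp only [yP]
      rw [g1]
      exact conj_of_okT X core_fact.2.1 _ _
    · rw [show (g * l)⁻¹ * yP X 46 d * (g * l) = l⁻¹ * (g⁻¹ * yP X 46 d * g) * l by group]
      simp only [yP]
      rw [g2, conj_sum X core_fact.2.2.1, hs, Subfield.coe_mul]
      congr 2
      show c * -(-(c * (a : K))) * ((d : K) * sOne X) = _
      linear_combination ((a : K) * d * sOne X) * hc2
    · rw [show (g * l)⁻¹ * T6 X (incl X x) * (g * l) = l⁻¹ * (g⁻¹ * T6 X (incl X x) * g) * l by group,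
        g3, ye_fix X (r := 71) (by norm_num) core_fact.2.2.2.2.2.1,
        show ∀ A B : ↥X.grp, l⁻¹ * (A * B) * l = (l⁻¹ * A * l) * (l⁻¹ * B * l) from
          fun A B => by group, lT,
        conj_of_okT X core_fact.2.1]
      rfl
  raise δ hδ χ := by
    obtain ⟨k, hk, hkχ⟩ := exists_dot X hδ χ
    obtain ⟨g, g1, g2, g3⟩ := exists_move X (Or.inr rfl) sg_move sg_mu k hk
    refine ⟨g, fun c => trP X (k ⬝ᵥ incl X c), fun c => by rw [← chK_apply, hkχ],
      fun e => g1 _, fun d => g2 _, fun x => ?_⟩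
    rw [g3, ye_fix X (r := 46) (by norm_num) core_fact.2.2.2.1]
    rfl
  conj_z := by
    obtain ⟨-, g, ε, hε, hg⟩ := word_reflT X [3, 2, 1, 2, 0, 1, 2] (by decide) (r := 46) (by norm_num)
    rw [core_fact.2.2.2.2.2.2.2] at hg
    refine ⟨g, (ε : P0 X), fun h => ?_, fun e => ?_⟩
    · have := congrArg (fun z : P0 X => z * z) h
      simp only [← Int.cast_mul, hε, Int.cast_one, mul_zero] at this
      exact one_ne_zero this
    · simp only [yP, hg, Subfield.coe_mul, SubringClass.coe_intCast, mul_assoc]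
  scal μ hμ := by
    set u : Kˣ := Units.mk0 (μ : K) (by exact_mod_cast hμ)
    have hu : X.f (u : K) = u := f_coe X μ
    set g := teT X (Or.inr rfl : (3 : ℕ) = 1 ∨ (3 : ℕ) = 3) hu
    set μu : (P0 X)ˣ := Units.mk0 μ hμ
    have hpow : ∀ n : ℤ, ((u⁻¹ ^ n : Kˣ) : K) = (((μu⁻¹ ^ n : (P0 X)ˣ) : P0 X) : K) := by
      intro n
      rw [show u = Units.map ((P0 X).subtype : P0 X →* K) μu from Units.ext rfl, ← map_inv,
        ← map_zpow]
      rfl
    refine ⟨g, fun d => ?_, fun e =>
      ⟨((μu⁻¹ ^ chevE6.cartan 3 71 : (P0 X)ˣ) : P0 X) * e, ?_⟩, fun c => ?_⟩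
    · simp only [yP, g]
      rw [teT_conj X _ hu (by norm_num), core_fact.2.2.2.2.2.2.1, zpow_neg_one, inv_inv,
        Subfield.coe_mul, ← mul_assoc]
      rfl
    · simp only [yP, g]
      rw [teT_conj X _ hu (by norm_num), hpow, ← mul_assoc, ← Subfield.coe_mul]
    · refine ⟨(fun i => ((μu⁻¹ ^ chevE6.cartan 3 (tauT (Fin.castAdd 3 i)) : (P0 X)ˣ) : P0 X) * c.1 i,
        fun i => ((u⁻¹ ^ chevE6.cartan 3 (tauT (Fin.natAdd 3 i)) : Kˣ) : K) * c.2 i), ?_⟩
      rw [T6_scale X (fun i => ((u⁻¹ ^ chevE6.cartan 3 (tauT i) : Kˣ) : K))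
        fun i t => teT_conj X _ hu (tau_lt i) t]
      congr 1
      funext i
      refine Fin.addCases (fun i => ?_) (fun i => ?_) i <;>
        simp only [incl, AddMonoidHom.coe_mk, ZeroHom.coe_mk, Fin.append_left, Fin.append_right]
      rw [hpow, Subfield.coe_mul, mul_assoc]

end H17.HeisDeg.TwAct
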