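import Cfsg.Agent.H17.HeisDegree.TwProp
import Cfsg.Agent.H17.HeisDegree.RootLevel

/-!
The orbit of a single vector of `²E₆(q)` under a Levi factor gives independent eigenvectors of
the radical.
-/

set_option autoImplicit false
set_option linter.unusedSectionVars false

namespace H17.HeisDeg.TwAct

open Cfsg.Lie H52 RootAct

/-- Membership in `prev` or being in a later class of the radical. -/
def goodT (prev U : List ℕ) (M p : ℕ) : Bool :=
  prev.contains p || (U.contains p && decide (M < max p (tn p)))

/-- The translating roots move `prev` into itself and raise the classes of the radical. -/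
def betaT (prev U : List ℕ) (β : ℕ) : Bool :=
  (prev.all fun p => okT β p (fun k => prev.contains k)) &&
    U.all fun p => okT β p (fun k =>
      prev.contains k || (U.contains k && decide (max p (tn p) < max k (tn k))))

/-- A fundamental reflection permutes `prev` and the radical. -/
def nodeT (prev U : List ℕ) (J : ℕ) : Bool :=
  decide (J < chevF4.rank) &&
  (prev.all fun p => prev.contains (reflT J p) && (reflT J (reflT J p) == p)) &&
    U.all fun p => U.contains (reflT J p) && (reflT J (reflT J p) == p)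

/-- The checks on an item. -/
def itemT (U betas nodes : List ℕ) (jr : ℕ) (earlier : List ℕ) (it : LevelItem) : Bool :=
  U.contains it.M && (tn it.M == it.M) &&
  (it.M == jr || (earlier.contains it.parent && U.contains it.parent && (tn it.parent == it.parent) &&
    (reflT it.node it.parent == it.M) && nodes.contains it.node)) &&
  (it.phi.all fun x => U.contains x.2 && (x.2 != it.M) && sumT x.1 x.2 it.M && okT x.1 it.M noRoot &&
    betas.contains x.1 &&
    it.phi.all fun y => x.1 == y.1 || okT x.1 y.2 noRoot) &&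
  decide ((it.phi.map Prod.fst).Nodup)

/-- The checks on all items, in order. -/
def itemsT (U betas nodes : List ℕ) (jr : ℕ) : List ℕ → List LevelItem → Bool
  | _, [] => true
  | earlier, it :: rest =>
    itemT U betas nodes jr earlier it && itemsT U betas nodes jr (earlier ++ [it.M]) rest

/-- The checks on a level. -/
def levelT (prev U betas nodes : List ℕ) (jr node : ℕ) (items : List LevelItem) : Bool :=
  itemsT U betas nodes jr [] items && decide ((items.map LevelItem.M).Nodup) &&
    (node == 1 || node == 3) && (chevE6.cartan node jr == -1) && !prev.contains jr &&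
    ((prev ++ U).all fun p => decide (p < 72) && decide (36 ≤ p)) &&
    betas.all (betaT prev U) && nodes.all (nodeT prev U)

/-- The number of vectors of an item, per nontrivial character. -/
def itemSize (it : LevelItem) (q : ℕ) : ℕ :=
  (it.phi.map fun x => if tn x.1 = x.1 then q else q ^ 2).prod

/-- The number of vectors of a level, per nontrivial character. -/
def sizeT (items : List LevelItem) (q : ℕ) : ℕ := (items.map fun it => itemSize it q).sum

theorem okT_mono {a b : ℕ} {al al' : ℕ → Bool} (hal : ∀ k, al k = true → al' k = true)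
    (h : okT a b al = true) : okT a b al' = true := by
  simp only [okT, Bool.and_eq_true, decide_eq_true_eq, List.all_eq_true, Bool.or_eq_true] at h ⊢
  exact ⟨⟨h.1.1, h.1.2.imp id fun h' => ⟨h'.1, hal _ h'.2⟩⟩, fun k hk => hal k (h.2 k hk)⟩

theorem goodT_iff {prev U : List ℕ} {M p : ℕ} :
    goodT prev U M p = true ↔ p ∈ prev ∨ p ∈ U ∧ M < max p (tn p) := by
  simp [goodT]

theorem betaT_spec {prev U : List ℕ} {β : ℕ} (h : betaT prev U β = true) (M : ℕ) :
    (∀ p ∈ prev ++ U, okT β p (fun k => (prev ++ U).contains k) = true) ∧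
      ∀ p, goodT prev U M p = true → okT β p (goodT prev U M) = true := by
  simp only [betaT, Bool.and_eq_true, List.all_eq_true] at h
  refine ⟨fun p hp => ?_, fun p hg => ?_⟩
  · rcases List.mem_append.1 hp with hp | hp
    · exact okT_mono (fun k hk => by
        rw [List.contains_iff_mem] at hk ⊢; exact List.mem_append_left _ hk) (h.1 p hp)
    · exact okT_mono (fun k hk => by
        simp only [Bool.or_eq_true, Bool.and_eq_true, List.contains_iff_mem] at hk
        rw [List.contains_iff_mem]
        rcases hk with hk | hk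
        · exact List.mem_append_left _ hk
        · exact List.mem_append_right _ hk.1) (h.2 p hp)
  · rcases goodT_iff.1 hg with hp | ⟨hp, hlt⟩
    · exact okT_mono (fun k hk => goodT_iff.2 (Or.inl (List.contains_iff_mem.1 hk))) (h.1 p hp)
    · exact okT_mono (fun k hk => by
        simp only [Bool.or_eq_true, Bool.and_eq_true, List.contains_iff_mem, decide_eq_true_eq] at hk
        exact goodT_iff.2 (hk.imp id fun hk => ⟨hk.1, hlt.trans hk.2⟩)) (h.2 p hp)

/-- The checks on an item, as propositions. -/
structure ItemFactsT (prev U : List ℕ) (it : LevelItem) : Prop where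
  hM : it.M ∈ U
  fixed : tn it.M = it.M
  nodup : (it.phi.map Prod.fst).Nodup
  gam : ∀ x ∈ it.phi, x.2 ∈ U
  gam_ne : ∀ x ∈ it.phi, x.2 ≠ it.M
  hsum : ∀ x ∈ it.phi, sumT x.1 x.2 it.M = true
  fixM : ∀ x ∈ it.phi, okT x.1 it.M noRoot = true
  closed : ∀ x ∈ it.phi, ∀ p ∈ prev ++ U, okT x.1 p (fun k => (prev ++ U).contains k) = true
  good : ∀ x ∈ it.phi, ∀ p, goodT prev U it.M p = true →
    okT x.1 p (goodT prev U it.M) = true
  sep : ∀ x ∈ it.phi, ∀ y ∈ it.phi, x.1 ≠ y.1 → okT x.1 y.2 noRoot = true

theorem itemsT_facts {prev U betas nodes : List ℕ} {jr : ℕ}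
    (hb : ∀ β ∈ betas, betaT prev U β = true) :
    ∀ {l : List LevelItem} {earlier : List ℕ}, itemsT U betas nodes jr earlier l = true →
      ∀ it ∈ l, ItemFactsT prev U it := by
  intro l
  induction l with
  | nil => simp
  | cons it rest ih =>
    intro earlier h x hx
    simp only [itemsT, Bool.and_eq_true] at h
    rcases List.mem_cons.1 hx with rfl | hx
    · have h' := h.1
      unfold itemT at h'
      rw [Bool.and_eq_true, Bool.and_eq_true, Bool.and_eq_true, Bool.and_eq_true, List.contains_iff_mem,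
        decide_eq_true_eq, List.all_eq_true, beq_iff_eq] at h'
      obtain ⟨⟨⟨⟨hM, hMt⟩, -⟩, hphi⟩, hnd⟩ := h'
      simp only [Bool.and_eq_true, List.all_eq_true, bne_iff_ne, Bool.or_eq_true, beq_iff_eq,
        List.contains_iff_mem] at hphi
      exact
        { hM := hM
          fixed := hMt
          nodup := hnd
          gam := fun x hx => (hphi x hx).1.1.1.1.1
          gam_ne := fun x hx => (hphi x hx).1.1.1.1.2
          hsum := fun x hx => (hphi x hx).1.1.1.2
          fixM := fun x hx => (hphi x hx).1.1.2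
          closed := fun x hx => (betaT_spec (hb _ (hphi x hx).1.2) 0).1
          good := fun y hy => (betaT_spec (hb _ (hphi y hy).1.2) _).2
          sep := fun x hx y hy hne => ((hphi x hx).2 y hy).resolve_left hne }
    · exact ih h.2 x hx

variable {T : Tables} {K : Type*} [Field K] (X : Twist e6Fold T K) [hI : Invol X]
  {V : Type*} [AddCommGroup V] [Module ℂ V] (ρ : Representation ℂ ↥X.grp V)

theorem chScale_chK (δ : AddChar (P0 X) ℂ) (a : P0 X) :
    chScale (chK X δ) (a : K) = chK X (chScale δ a) := by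
  refine DFunLike.ext _ _ fun t => ?_
  rw [chScale_apply, chK_apply, chK_apply, chScale_apply]
  congr 1
  exact Subtype.ext (by rw [coe_trP, tr_smul, Subfield.coe_mul, coe_trP])

theorem chK_injective : Function.Injective (chK X) := fun a b h => DFunLike.ext _ _ fun t => by
  obtain ⟨u, rfl⟩ := trP_surjective X t
  exact DFunLike.congr_fun h u

/-- The vectors fixed by a list of root groups. -/
noncomputable def fixList (P : List ℕ) : Submodule ℂ V := fixSpace X ρ fun p => P.contains p

theorem mem_fixList {P : List ℕ} {w : V} : w ∈ fixList X ρ P ↔ ∀ p ∈ P, Eg X ρ w p 1 := by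
  rw [fixList, mem_fixSpace]
  simp

/-- A vector realising a root of the radical for a character. -/
def RealT (prev U : List ℕ) (M : ℕ) (δ : AddChar (P0 X) ℂ) (w : V) : Prop :=
  w ≠ 0 ∧ EgP X ρ w M δ ∧ (∀ p ∈ prev, Eg X ρ w p 1) ∧ ∀ p ∈ U, p ≠ M → Eg X ρ w p 1

/-- Translation by a list of root elements. -/
noncomputable def mvec : (L : List (ℕ × ℕ)) → (Fin L.length → K) → V → V
  | [], _, w => w
  | x :: L, u, w => ρ (ye X x.1 (u ⟨0, Nat.succ_pos _⟩)) (mvec L (fun i => u i.succ) w)

theorem mvec_good {prev U : List ℕ} {M : ℕ} {χ : AddChar K ℂ} {w : V} (hw : w ≠ 0)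
    (hM : Eg X ρ w M χ) :
    ∀ (L : List (ℕ × ℕ)) (u : Fin L.length → K),
      (∀ x ∈ L, okT x.1 M noRoot = true ∧
        ∀ p, goodT prev U M p = true → okT x.1 p (goodT prev U M) = true) →
      (∀ p, goodT prev U M p = true → Eg X ρ w p 1) →
      mvec X ρ L u w ≠ 0 ∧ Eg X ρ (mvec X ρ L u w) M χ ∧
        ∀ p, goodT prev U M p = true → Eg X ρ (mvec X ρ L u w) p 1 := by
  intro L
  induction L with
  | nil => exact fun u _ h => ⟨hw, hM, h⟩
  | cons x L ih =>
    intro u hok h
    obtain ⟨i0, i1, i2⟩ := ih (fun i => u i.succ) (fun y hy => hok y (List.mem_cons_of_mem _ hy)) h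
    obtain ⟨h1, h2⟩ := hok x List.mem_cons_self
    exact ⟨ne_zero_map i0 _, push h1 (fun k hk => by simp [noRoot] at hk) i1 _,
      fun p hp => push (h2 p hp) i2 (i2 p hp) _⟩

theorem mvec_coord {M : ℕ} {χ : AddChar K ℂ} {w : V} (hM : Eg X ρ w M χ) :
    ∀ (L : List (ℕ × ℕ)) (u : Fin L.length → K),
      (L.map Prod.fst).Nodup →
      (∀ x ∈ L, sumT x.1 x.2 M = true ∧ okT x.1 M noRoot = true) →
      ∀ g, Eg X ρ w g 1 →
      ((∀ x ∈ L, okT x.1 g noRoot = true) → Eg X ρ (mvec X ρ L u w) g 1) ∧
      (∀ i : Fin L.length, L[i.val].2 = g → (∀ x ∈ L, x.1 ≠ L[i.val].1 → okT x.1 g noRoot = true) →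
        Eg X ρ (mvec X ρ L u w) g
          (chScale χ ((entrySign chevE6 L[i.val].1 L[i.val].2 : K) * (-mu X L[i.val].1 (u i))))) ∧
      Eg X ρ (mvec X ρ L u w) M χ := by
  intro L
  induction L with
  | nil => exact fun u _ _ g hg => ⟨fun _ => hg, fun i => i.elim0, hM⟩
  | cons x L ih =>
    intro u hnd hok g hg
    rw [List.map_cons, List.nodup_cons] at hnd
    obtain ⟨a1, a2, a3⟩ := ih (fun i => u i.succ) hnd.2 (fun y hy => hok y (List.mem_cons_of_mem _ hy)) g hg
    have hno : ∀ k, noRoot k = true → Eg X ρ (mvec X ρ L (fun i => u i.succ) w) k 1 :=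
      fun k hk => by simp [noRoot] at hk
    refine ⟨fun h => ?_, fun i hi h => ?_, push (hok x List.mem_cons_self).2 hno a3 _⟩
    · exact push (h x List.mem_cons_self) hno (a1 fun y hy => h y (List.mem_cons_of_mem _ hy)) _
    · rcases i with ⟨_ | n, hn⟩
      · have hi' : x.2 = g := hi
        subst hi'
        have hrest : Eg X ρ (mvec X ρ L (fun i => u i.succ) w) x.2 1 :=
          a1 fun y hy => h y (List.mem_cons_of_mem _ hy) fun e => hnd.1 (by
            rw [show x.1 = y.1 from e.symm]
            exact List.mem_map.2 ⟨y, hy, rfl⟩)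
        intro t
        show ρ (ye X x.2 t) (ρ (ye X x.1 (u ⟨0, hn⟩)) _) = _
        rw [push_sum (hok x List.mem_cons_self).1 hrest a3 _ t, AddChar.one_apply, one_mul]
        rfl
      · have hne : x.1 ≠ (x :: L)[n + 1].1 := fun e => hnd.1 (by
          rw [e, List.getElem_cons_succ]
          exact List.mem_map.2 ⟨_, List.getElem_mem _, rfl⟩)
        have := a2 ⟨n, Nat.lt_of_succ_lt_succ hn⟩ (by simpa using hi)
          fun y hy hy' => h y (List.mem_cons_of_mem _ hy) (by simpa using hy')
        exact push (h x List.mem_cons_self hne) hno (by simpa using this) _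

/-- Translated vectors are common eigenvectors of a closed set of root groups. -/
theorem mvec_scalar {P : List ℕ} {w : V}
    (hw : ∀ p ∈ P, ∀ t, ∃ c : ℂ, ρ (ye X p t) w = c • w) :
    ∀ (L : List (ℕ × ℕ)) (u : Fin L.length → K),
      (∀ x ∈ L, ∀ p ∈ P, okT x.1 p (fun k => P.contains k) = true) →
      ∀ p ∈ P, ∀ t, ∃ c : ℂ, ρ (ye X p t) (mvec X ρ L u w) = c • mvec X ρ L u w := by
  intro L
  induction L with
  | nil => exact fun u _ => hw
  | cons x L ih =>
    intro u hok p hp t
    have ih' := ih (fun i => u i.succ) (fun y hy => hok y (List.mem_cons_of_mem _ hy))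
    obtain ⟨c, hc⟩ := ih' p hp t
    show ∃ c : ℂ, ρ (ye X p t) (ρ (ye X x.1 (u ⟨0, Nat.succ_pos _⟩)) (mvec X ρ L (fun i => u i.succ) w)) =
      c • ρ (ye X x.1 (u ⟨0, Nat.succ_pos _⟩)) (mvec X ρ L (fun i => u i.succ) w)
    generalize u ⟨0, Nat.succ_pos _⟩ = s
    obtain ⟨R, hR, e⟩ := conj_okT X (hok x List.mem_cons_self p hp) s t
    generalize hw' : mvec X ρ L (fun i => u i.succ) w = w' at ih' hc ⊢
    obtain ⟨d, hd⟩ : ∃ d : ℂ, ρ ((R.map fun q => ye X q.1 q.2).prod) w' = d • w' := by
      clear e
      induction R with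
      | nil => exact ⟨1, by simp⟩
      | cons q R ihR =>
        obtain ⟨d, hd⟩ := ihR fun y hy => hR y (List.mem_cons_of_mem _ hy)
        obtain ⟨d', hd'⟩ := ih' q.1 (List.contains_iff_mem.1 (hR q List.mem_cons_self)) q.2
        exact ⟨d * d', by rw [List.map_cons, List.prod_cons, map_mul, Module.End.mul_apply, hd,
          map_smul, hd', smul_smul]⟩
    refine ⟨d * c, ?_⟩
    rw [← Module.End.mul_apply, ← map_mul, show ye X p t * ye X x.1 s =
      ye X x.1 s * ((ye X x.1 s)⁻¹ * ye X p t * ye X x.1 s) by group, e, map_mul, map_mul,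
      Module.End.mul_apply, Module.End.mul_apply, hd, map_smul, hc, map_smul, map_smul, smul_smul]

/-- Every root of the radical is realised for every nontrivial character. -/
theorem exists_real [Fintype (P0 X)] {prev U betas nodes : List ℕ} {jr node : ℕ}
    (hnode : node = 1 ∨ node = 3) (hcart : chevE6.cartan node jr = -1) (hjn : jr < 72)
    (hposall : ∀ p ∈ prev ++ U, p < 72 ∧ 36 ≤ p) (hjp : jr ∉ prev)
    (hnodes : ∀ i ∈ nodes, nodeT prev U i = true)
    {v : V} {δ₁ : AddChar (P0 X) ℂ} (hδ₁ : δ₁ ≠ 1) (hv : Single X ρ v jr δ₁) :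
    ∀ (items : List LevelItem) (earlier : List ℕ),
      (∀ M ∈ earlier, ∀ δ : AddChar (P0 X) ℂ, δ ≠ 1 → ∃ w, RealT X ρ prev U M δ w) →
      itemsT U betas nodes jr earlier items = true →
      ∀ it ∈ items, ∀ δ : AddChar (P0 X) ℂ, δ ≠ 1 → ∃ w, RealT X ρ prev U it.M δ w := by
  have base : ∀ δ : AddChar (P0 X) ℂ, δ ≠ 1 → ∃ w, RealT X ρ prev U jr δ w := by
    intro δ hδ
    obtain ⟨μ, hμ⟩ := pairing_bijective (fun a d : P0 X => a * d) (fun a b c => by ring)
      (fun a b c => by ring) (fun t ht e => ⟨e / t, by field_simp⟩) hδ₁ δ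
    have hμ0 : (μ : K) ≠ 0 := by
      intro h
      obtain rfl : μ = 0 := by exact_mod_cast h
      exact hδ (DFunLike.ext _ _ fun d => by rw [← hμ, zero_mul, AddChar.map_zero_eq_one]; rfl)
    have hu : X.f ((Units.mk0 (μ : K) hμ0 : Kˣ) : K) = (Units.mk0 (μ : K) hμ0 : Kˣ) := f_coe X μ
    set g := teT X hnode hu
    have h1 : ∀ p ∈ prev ++ U, p ≠ jr → Eg X ρ (ρ g v) p 1 := by
      intro p hp hpj
      have := (hv.2.2 p (hposall p hp).1 (hposall p hp).2 hpj).torus hnode hu (hposall p hp).1
      rwa [chScale_one] at this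
    refine ⟨ρ g v, ne_zero_map hv.1 _, ?_,
      fun p hp => h1 p (List.mem_append_left _ hp) fun e => hjp (e ▸ hp),
      fun p hp hne => h1 p (List.mem_append_right _ hp) hne⟩
    have := hv.2.1.torus hnode hu hjn
    rw [hcart, zpow_neg_one, inv_inv, Units.val_mk0, chScale_chK] at this
    rwa [show chScale δ₁ μ = δ from DFunLike.ext _ _ fun d => by rw [chScale_apply, hμ]] at this
  intro items
  induction items with
  | nil => simp
  | cons it rest ih =>
    intro earlier hear hok
    simp only [itemsT, Bool.and_eq_true] at hok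
    have hit : ∀ δ : AddChar (P0 X) ℂ, δ ≠ 1 → ∃ w, RealT X ρ prev U it.M δ w := by
      intro δ hδ
      have h := hok.1
      unfold itemT at h
      rw [Bool.and_eq_true, Bool.and_eq_true, Bool.and_eq_true, Bool.and_eq_true, Bool.or_eq_true,
        beq_iff_eq, beq_iff_eq] at h
      rcases h.1.1.2 with hM | hstep
      · rw [hM]; exact base δ hδ
      · simp only [Bool.and_eq_true, beq_iff_eq, List.contains_iff_mem] at hstep
        obtain ⟨⟨⟨⟨hpar, hparU'⟩, -⟩, href⟩, hmem⟩ := hstep
        have hnode := hnodes _ hmem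
        simp only [nodeT, Bool.and_eq_true, List.all_eq_true, beq_iff_eq, List.contains_iff_mem,
          decide_eq_true_eq] at hnode
        obtain ⟨⟨hn, hprev⟩, hU⟩ := hnode
        have hpn : it.parent < 72 := (hposall _ (List.mem_append_right _ hparU')).1
        obtain ⟨ε, hε, hrefl⟩ := Eg.reflect (X := X) (ρ := ρ) hn hpn
        have hε1 : (ε : P0 X) * ε = 1 := by rw [← Int.cast_mul, hε, Int.cast_one]
        have hε0 : (ε : P0 X) ≠ 0 := fun h => by simp [h] at hε1
        obtain ⟨w, w0, wM, wp, wU⟩ := hear _ hpar (chScale δ (ε : P0 X)) (chScale_ne_one hδ hε0)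
        have other : ∀ p, p < 72 → reflT it.node (reflT it.node p) = p → reflT it.node p < 72 →
            Eg X ρ w (reflT it.node p) 1 → Eg X ρ (ρ (nT X it.node) w) p 1 := by
          intro p _ hp2 hp1 hw
          obtain ⟨η, -, hη⟩ := Eg.reflect (X := X) (ρ := ρ) hn hp1
          have := hη hw
          rwa [chScale_one, hp2] at this
        refine ⟨ρ (nT X it.node) w, ne_zero_map w0 _, ?_, fun p hp => ?_, fun p hp hpM => ?_⟩
        · have hw := hrefl wM
          rw [href, ← SubringClass.coe_intCast (P0 X) ε, chScale_chK] at hw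
          rwa [show chScale (chScale δ (ε : P0 X)) (ε : P0 X) = δ from DFunLike.ext _ _ fun d => by
            rw [chScale_apply, chScale_apply, ← mul_assoc, hε1, one_mul]] at hw
        · obtain ⟨hp1, hp2⟩ := hprev p hp
          exact other p (hposall _ (List.mem_append_left _ hp)).1 hp2
            (hposall _ (List.mem_append_left _ hp1)).1 (wp _ hp1)
        · obtain ⟨hp1, hp2⟩ := hU p hp
          have hne : reflT it.node p ≠ it.parent := fun e => hpM (by rw [← hp2, e, href])
          exact other p (hposall _ (List.mem_append_right _ hp)).1 hp2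
            (hposall _ (List.mem_append_right _ hp1)).1 (wU _ hp1 hne)
    intro x hx
    rcases List.mem_cons.1 hx with rfl | hx
    · exact hit
    · refine ih _ (fun M hM => ?_) hok.2 x hx
      rcases List.mem_append.1 hM with hM | hM
      · exact hear M hM
      · rw [List.mem_singleton.1 hM]; exact hit

/-- The translation parameters of an item: scalars, fixed at the fixed roots. -/
abbrev Par (it : LevelItem) : Type _ :=
  {c : Fin it.phi.length → K // ∀ i, tn it.phi[i.val].1 = it.phi[i.val].1 → X.f (c i) = c i}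

/-- The index set of a level's vectors. -/
abbrev IdxT (items : List LevelItem) : Type _ :=
  Σ m : Fin items.length, {δ : AddChar (P0 X) ℂ // δ ≠ 1} × Par X items[m.val]

/-- The root parameters of translation parameters. -/
noncomputable def parU (it : LevelItem) (c : Par X it) (i : Fin it.phi.length) : K :=
  if tn it.phi[i.val].1 = it.phi[i.val].1 then c.1 i * sOne X else c.1 i

theorem mu_parU (it : LevelItem) (c : Par X it) (i : Fin it.phi.length) :
    mu X it.phi[i.val].1 (parU X it c i) = c.1 i := by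
  unfold mu parU
  by_cases h : tn it.phi[i.val].1 = it.phi[i.val].1
  · rw [if_pos h, if_pos h, show c.1 i = ((⟨c.1 i, c.2 i h⟩ : P0 X) : K) from rfl, tr_smul, tr_sOne,
      mul_one]
  · rw [if_neg h, if_neg h]

open Classical in
theorem card_idxT [Fintype K] [Fintype (P0 X)] (hK : Fintype.card K = Fintype.card (P0 X) ^ 2)
    (items : List LevelItem) :
    Fintype.card (IdxT X items) =
      (Fintype.card (P0 X) - 1) * sizeT items (Fintype.card (P0 X)) := by
  have hp : ∀ it : LevelItem, Fintype.card (Par X it) = itemSize it (Fintype.card (P0 X)) := by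
    intro it
    rw [Fintype.card_congr (Equiv.subtypePiEquivPi
      (β := fun _ => K) (p := fun (i : Fin it.phi.length) (x : K) => tn it.phi[i.val].1 = it.phi[i.val].1 → X.f x = x)), Fintype.card_pi, itemSize,
      ← Fin.prod_univ_fun_getElem]
    refine Finset.prod_congr rfl fun i _ => ?_
    by_cases h : tn it.phi[i.val].1 = it.phi[i.val].1
    · rw [if_pos h]
      exact Fintype.card_congr (Equiv.subtypeEquivRight fun x => by simp [h])
    · rw [if_neg h, ← hK]
      exact Fintype.card_congr (Equiv.subtypeUnivEquiv fun x h' => absurd h' h)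
  rw [Fintype.card_sigma]
  simp only [Fintype.card_prod, hp]
  rw [← Finset.mul_sum, sizeT]
  congr 1
  · rw [Fintype.card_subtype_compl, Fintype.card_subtype_eq, AddChar.card_eq]
  · rw [Fin.sum_univ_fun_getElem items fun it => itemSize it (Fintype.card (P0 X))]

variable [Fintype (P0 X)] [Fintype K] [FiniteDimensional ℂ V]

open Classical in
/-- **The orbit bound of a level.** -/
theorem level_bound (hK : Fintype.card K = Fintype.card (P0 X) ^ 2) {prev U betas nodes : List ℕ}
    {jr node : ℕ} {items : List LevelItem} (hok : levelT prev U betas nodes jr node items = true)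
    (hjn : jr < 72) {v : V} {δ₁ : AddChar (P0 X) ℂ} (hδ₁ : δ₁ ≠ 1) (hv : Single X ρ v jr δ₁) :
    (Fintype.card (P0 X) - 1) * sizeT items (Fintype.card (P0 X)) +
        Module.finrank ℂ (fixList X ρ (prev ++ U)) ≤
      Module.finrank ℂ (fixList X ρ prev) := by
  simp only [levelT, Bool.and_eq_true, decide_eq_true_eq, Bool.or_eq_true, beq_iff_eq,
    Bool.not_eq_true', List.all_eq_true] at hok
  obtain ⟨⟨⟨⟨⟨⟨⟨hitems, hnd⟩, hnode⟩, hcart⟩, hjp⟩, hpos⟩, hbetas⟩, hnodes⟩ := hok
  have hjp' : jr ∉ prev := fun h => by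
    rw [List.contains_iff_mem.2 h] at hjp
    exact Bool.noConfusion hjp
  have hfacts := itemsT_facts hbetas hitems
  have hreal := exists_real X ρ hnode hcart hjn hpos hjp' hnodes hδ₁ hv items [] (by simp) hitems
  choose w hw using fun (m : Fin items.length) (δ : {δ : AddChar (P0 X) ℂ // δ ≠ 1}) =>
    hreal items[m.val] (List.getElem_mem _) δ.1 δ.2
  let vec : IdxT X items → V := fun a =>
    mvec X ρ (items[a.1.val]).phi (parU X _ a.2.2) (w a.1 a.2.1)
  have facts : ∀ a : IdxT X items, vec a ≠ 0 ∧ EgP X ρ (vec a) (items[a.1.val]).M a.2.1.1 ∧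
      (∀ p, goodT prev U (items[a.1.val]).M p = true → Eg X ρ (vec a) p 1) ∧
      (∀ i : Fin (items[a.1.val]).phi.length, Eg X ρ (vec a) ((items[a.1.val]).phi[i.val]).2
        (chScale (chK X a.2.1.1) ((entrySign chevE6 ((items[a.1.val]).phi[i.val]).1
          ((items[a.1.val]).phi[i.val]).2 : K) * (-a.2.2.1 i)))) ∧
      ∀ j : {p : ℕ // p ∈ prev ++ U} × K, ∃ c : ℂ, ρ (ye X j.1.1 j.2) (vec a) = c • vec a := by
    rintro ⟨m, δ, c⟩
    have hf := hfacts items[m.val] (List.getElem_mem _)
    obtain ⟨w0, wM, wp, wU⟩ := hw m δ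
    have hgood : ∀ p, goodT prev U (items[m.val]).M p = true → Eg X ρ (w m δ) p 1 := by
      intro p hp
      rcases goodT_iff.1 hp with hp | ⟨hp, hlt⟩
      · exact wp p hp
      · refine wU p hp fun e => ?_
        rw [e, hf.fixed, max_self] at hlt
        exact lt_irrefl _ hlt
    obtain ⟨g0, g1, g2⟩ := mvec_good X ρ w0 wM (items[m.val]).phi (parU X _ c)
      (fun x h => ⟨hf.fixM x h, hf.good x h⟩) hgood
    refine ⟨g0, g1, g2, fun i => ?_, fun j =>
      mvec_scalar X ρ (fun p hp t => ?_) _ _ hf.closed j.1.1 j.1.2 j.2⟩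
    · have hi : ((items[m.val]).phi[i.val]) ∈ (items[m.val]).phi := List.getElem_mem _
      have := (mvec_coord X ρ wM (items[m.val]).phi (parU X _ c) hf.nodup
        (fun x h => ⟨hf.hsum x h, hf.fixM x h⟩) _
        (wU _ (hf.gam _ hi) (hf.gam_ne _ hi))).2.1 i rfl
        fun x h hne => hf.sep x h _ hi hne
      rwa [mu_parU] at this
    · rcases List.mem_append.1 hp with hp | hp
      · exact ⟨1, by rw [one_smul]; exact (wp p hp).fixed t⟩
      · by_cases hpM : p = (items[m.val]).M
        · subst hpM; exact ⟨chK X δ.1 t, wM t⟩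
        · exact ⟨1, by rw [one_smul]; exact (wU p hp hpM).fixed t⟩
  choose f hf using fun a => (facts a).2.2.2.2
  have fval : ∀ a p (hp : p ∈ prev ++ U) χ, Eg X ρ (vec a) p χ → ∀ t, f a (⟨p, hp⟩, t) = χ t := by
    intro a p hp χ h t
    exact smul_left_injective ℂ (facts a).1 ((hf a (⟨p, hp⟩, t)).symm.trans (h t))
  have hMmem : ∀ m : Fin items.length, (items[m.val]).M ∈ prev ++ U := fun m =>
    List.mem_append_right _ (hfacts _ (List.getElem_mem _)).hM
  have fne : ∀ a, f a ≠ fun _ => 1 := by
    intro a h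
    refine chK_ne_one X a.2.1.2 (DFunLike.ext _ _ fun t => ?_)
    have := congrFun h (⟨_, hMmem a.1⟩, t)
    rw [fval a _ (hMmem a.1) _ (facts a).2.1] at this
    simpa using this
  have finj : Function.Injective f := by
    rintro ⟨m, δ, c⟩ ⟨m', δ', c'⟩ h
    have hlt : ∀ (a b : IdxT X items), f a = f b → ¬ (items[a.1.val]).M < (items[b.1.val]).M := by
      intro a b hab hlt
      refine chK_ne_one X b.2.1.2 (DFunLike.ext _ _ fun t => ?_)
      have h1 := congrFun hab (⟨_, hMmem b.1⟩, t)
      rw [fval b _ _ _ (facts b).2.1, fval a _ _ _ ((facts a).2.2.1 _ (goodT_iff.2 (Or.inr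
        ⟨(hfacts _ (List.getElem_mem _)).hM, hlt.trans_le (le_max_left _ _)⟩)))] at h1
      exact h1.symm
    have hMeq : (items[m.val]).M = (items[m'.val]).M :=
      le_antisymm (not_lt.1 (hlt _ _ h.symm)) (not_lt.1 (hlt _ _ h))
    obtain rfl : m = m' := Fin.ext ((List.getElem_inj (h₀ := by simp [m.isLt])
      (h₁ := by simp [m'.isLt]) hnd).1 (by simpa using hMeq))
    obtain rfl : δ = δ' := by
      refine Subtype.ext (chK_injective X (DFunLike.ext _ _ fun t => ?_))
      have h1 := congrFun h (⟨_, hMmem m⟩, t)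
      rwa [fval _ _ _ _ (facts ⟨m, δ, c⟩).2.1, fval _ _ _ _ (facts ⟨m, δ', c'⟩).2.1] at h1
    obtain rfl : c = c' := by
      refine Subtype.ext (funext fun i => ?_)
      have hi : ((items[m.val]).phi[i.val]) ∈ (items[m.val]).phi := List.getElem_mem _
      have hmem : ((items[m.val]).phi[i.val]).2 ∈ prev ++ U :=
        List.mem_append_right _ ((hfacts _ (List.getElem_mem _)).gam _ hi)
      by_contra hne'
      obtain ⟨t, ht⟩ := AddChar.ne_one_iff.1 (chK_ne_one X δ.2)
      apply ht
      set e : K := (entrySign chevE6 ((items[m.val]).phi[i.val]).1 ((items[m.val]).phi[i.val]).2 : K)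
      have he : e ≠ 0 := sign_ne_zero _ _
      set s : K := t / (e * (c'.1 i - c.1 i))
      have h1 := congrFun h (⟨_, hmem⟩, s)
      rw [fval _ _ _ _ ((facts ⟨m, δ, c⟩).2.2.2.1 i), fval _ _ _ _ ((facts ⟨m, δ, c'⟩).2.2.2.1 i),
        chScale_apply, chScale_apply] at h1
      have e1 : e * -c.1 i * s = t + e * -c'.1 i * s := by
        simp only [s]
        field_simp [sub_ne_zero.2 (Ne.symm hne')]
        ring
      change chK X δ.1 (e * -c.1 i * s) = chK X δ.1 (e * -c'.1 i * s) at h1
      rw [e1, AddChar.map_add_eq_mul] at h1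
      exact (mul_eq_right₀ (AddChar.val_isUnit (chK X δ.1) _).ne_zero).1 h1
    rfl
  let O : {p : ℕ // p ∈ prev ++ U} × K → Module.End ℂ V := fun j => ρ (ye X j.1.1 j.2)
  let Fx := fixList X ρ (prev ++ U)
  let Ψ : ((IdxT X items → ℂ) × Fx) →ₗ[ℂ] V :=
    (∑ a : IdxT X items,
      ((LinearMap.proj a).comp (LinearMap.fst ℂ (IdxT X items → ℂ) Fx)).smulRight (vec a)) +
      Fx.subtype.comp (LinearMap.snd ℂ (IdxT X items → ℂ) Fx)
  have hΨ : ∀ x, Ψ x = ∑ a, x.1 a • vec a + (x.2 : V) := fun x => by simp [Ψ]
  have hinj : Function.Injective Ψ := by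
    rw [← LinearMap.ker_eq_bot, Submodule.eq_bot_iff]
    rintro ⟨cf, y⟩ hx
    rw [LinearMap.mem_ker, hΨ] at hx
    have hsum : ∑ o : Option (IdxT X items), o.elim (y : V) (fun a => cf a • vec a) = 0 := by
      rw [Fintype.sum_option]
      simpa [add_comm] using hx
    have ginj : Function.Injective fun o : Option (IdxT X items) => o.elim (fun _ => (1 : ℂ)) f := by
      rintro (_ | a) (_ | b) h
      · rfl
      · exact absurd h.symm (fne b)
      · exact absurd h (fne a)
      · exact congrArg some (finj h)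
    have hzero := eigen_indep O _ ginj Finset.univ (fun o => o.elim (y : V) (fun a => cf a • vec a))
      (fun o _ j => by
        rcases o with _ | a
        · show ρ (ye X j.1.1 j.2) (y : V) = (1 : ℂ) • (y : V)
          rw [one_smul]
          exact ((mem_fixList X ρ).1 y.2 _ j.1.2).fixed j.2
        · show O j (cf a • vec a) = f a j • (cf a • vec a)
          rw [map_smul, hf, smul_comm]) hsum
    refine Prod.ext (funext fun a => ?_) (Subtype.ext (hzero none (Finset.mem_univ _)))
    exact (smul_eq_zero.1 (hzero (some a) (Finset.mem_univ _))).resolve_right (facts a).1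
  have hmaps : ∀ x, Ψ x ∈ fixList X ρ prev := by
    intro x
    rw [hΨ]
    refine add_mem (Submodule.sum_mem _ fun a _ => Submodule.smul_mem _ _ ?_) ?_
    · exact (mem_fixList X ρ).2 fun p hp => (facts a).2.2.1 p (goodT_iff.2 (Or.inl hp))
    · exact (mem_fixList X ρ).2 fun p hp => (mem_fixList X ρ).1 x.2.2 p (List.mem_append_left _ hp)
  have hle := LinearMap.finrank_le_finrank_of_injective (f := Ψ.codRestrict _ hmaps)
    fun a b h => hinj (congrArg Subtype.val h)
  rw [Module.finrank_prod, Module.finrank_fintype_fun_eq_card, card_idxT X hK] at hle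
  exact hle

end H17.HeisDeg.TwAct
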