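import Cfsg.Agent.H17.HeisDegree.TwHeis

/-!
The one-dimensional eigenspace of the minimal orbit of `²E₆(q)` is fixed by every positive root
group other than that of the simple root.
-/

set_option autoImplicit false
set_option linter.unusedSectionVars false

namespace H17.HeisDeg.TwAct

open Cfsg.Lie H52 RootAct

/-- Roots in a list or with image in it. -/
def inS (S : List ℕ) (k : ℕ) : Bool := decide (k < 72) && (S.contains k || S.contains (tn k))

/-- The roots of the abelian subgroup. -/
def baseT : List ℕ := [47, 51, 63, 48, 49, 52, 46, 71]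

/-- `γ` keeps the minimal eigenspace, given that the roots in `S` fix it. -/
def scalT (S : List ℕ) (γ : ℕ) : Bool := baseT.all fun β => okT γ β (inS S)

/-- The checks on a closure certificate. -/
def stagesT : List ℕ → List (List (ℕ × ℕ × ℕ)) → Bool
  | _, [] => true
  | S, st :: rest => (st.all fun p => sumT p.2.1 p.2.2 p.1 && scalT S p.2.1 && scalT S p.2.2) &&
      stagesT (S ++ st.map Prod.fst) rest

/-- The roots shown to fix the eigenspace. -/
def fixedT : List ℕ → List (List (ℕ × ℕ × ℕ)) → List ℕ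
  | S, [] => S
  | S, st :: rest => fixedT (S ++ st.map Prod.fst) rest

/-- The certificate. -/
def certT : List (List (ℕ × ℕ × ℕ)) :=
  [[(53, 14, 67), (54, 14, 68), (42, 15, 57), (55, 15, 66), (56, 29, 57), (65, 29, 68), (38, 36, 37),
    (68, 36, 67), (69, 37, 68)], [(70, 39, 69)],
   [(39, 14, 58), (40, 14, 59), (44, 15, 59), (41, 29, 45), (60, 36, 59), (59, 37, 58)]]

theorem certT_ok : stagesT [47, 51, 63, 48, 49, 52, 71] certT = true ∧
    ∀ p : Fin 72, 36 ≤ p.val → p.val ≠ 46 →
      inS (fixedT [47, 51, 63, 48, 49, 52, 71] certT) p.val = true := by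
  decide +kernel

theorem base_list : (List.finRange (3 + 3)).map tauT = [47, 51, 63, 48, 49, 52] := by decide +kernel

variable {T : Tables} {K : Type*} [Field K] {X : Twist e6Fold T K} [hI : Invol X]
  {V : Type*} [AddCommGroup V] [Module ℂ V] {ρ : Representation ℂ ↥X.grp V}

variable (X) in
theorem chK_one : chK X (1 : AddChar (P0 X) ℂ) = 1 :=
  DFunLike.ext _ _ fun t => by simp [chK_apply]

theorem inS_fixed {S : List ℕ} {v : V} (hS : ∀ k ∈ S, Eg X ρ v k 1) {k : ℕ} (hk : inS S k = true) :
    Eg X ρ v k 1 := by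
  simp only [inS, Bool.and_eq_true, decide_eq_true_eq, Bool.or_eq_true, List.contains_iff_mem] at hk
  rcases hk.2 with h | h
  · exact hS k h
  · exact Eg.of_tau hk.1 (hS _ h)

variable [Fintype K]

theorem incl_single_left (i : Fin 3) (a : P0 X) :
    incl X (Pi.single i a, 0) = Pi.single (Fin.castAdd 3 i) ((a : K) * sOne X) := by
  funext j
  refine Fin.addCases (fun j => ?_) (fun j => ?_) j <;>
    simp only [incl, AddMonoidHom.coe_mk, ZeroHom.coe_mk, Fin.append_left, Fin.append_right]
  · by_cases h : j = i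
    · subst h; simp
    · rw [Pi.single_eq_of_ne h, Pi.single_eq_of_ne ((Fin.castAdd_injective _ _).ne h)]; simp
  · rw [Pi.single_eq_of_ne (fun e => absurd (congrArg Fin.val e) (by simp; omega))]; simp

theorem incl_single_right (i : Fin 3) (t : K) :
    incl X (0, Pi.single i t) = Pi.single (Fin.natAdd 3 i) t := by
  funext j
  refine Fin.addCases (fun j => ?_) (fun j => ?_) j <;>
    simp only [incl, AddMonoidHom.coe_mk, ZeroHom.coe_mk, Fin.append_left, Fin.append_right]
  · rw [Pi.single_eq_of_ne (fun e => absurd (congrArg Fin.val e) (by simp; omega))]; simp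
  · by_cases h : j = i
    · subst h; simp
    · rw [Pi.single_eq_of_ne h, Pi.single_eq_of_ne ((Fin.natAdd_injective _ _).ne h)]

/-- Vectors with the eigenvalues of the minimal orbit lie in its eigenspace. -/
theorem mem_line {δ : AddChar (P0 X) ℂ} {w : V} (h1 : ∀ i, Eg X ρ w (tauT i) 1)
    (h2 : Eg X ρ w 46 (chK X δ)) (h3 : Eg X ρ w 71 1) :
    w ∈ eig ρ (core X).u (CoreA.pc 1 δ 1) := by
  refine mem_eig.2 fun a => ?_
  show ρ (T6 X (incl X a.1) * yP X 46 a.2.1 * yP X 71 a.2.2) w = _
  have hT : ∀ x, ρ (T6 X x) w = w := by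
    refine fun x => six_induction (P := fun x => ρ (T6 X x) w = w) ?_ (fun x y hx hy => ?_) (fun i t => ?_) x
    · simp [T6_zero]
    · rw [T6_add, map_mul, Module.End.mul_apply, hy, hx]
    · rw [T6_single]; exact (h1 i).fixed t
  have h3' : ρ (yP X 71 a.2.2) w = w := h3.fixed _
  rw [map_mul, map_mul, Module.End.mul_apply, Module.End.mul_apply, h3', h2.yP, map_smul, hT]
  simp [CoreA.pc]

/-- The vector of the minimal orbit is fixed by all positive root groups other than `r`. -/
theorem single_vector [FiniteDimensional ℂ V] {δ : AddChar (P0 X) ℂ}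
    (hA : (core X).m ρ 1 δ 1 = 1) :
    ∃ v : V, v ≠ 0 ∧ Eg X ρ v 46 (chK X δ) ∧
      ∀ p, p < 72 → 36 ≤ p → p ≠ 46 → Eg X ρ v p 1 := by
  obtain ⟨w, hw0, hspan⟩ := finrank_eq_one_iff'.1 hA
  obtain ⟨v, hv⟩ : ∃ v : V, (w : V) = v := ⟨_, rfl⟩
  have hv0 : v ≠ 0 := fun h => hw0 (Subtype.ext (hv.trans h))
  obtain ⟨hT, hR, hZ⟩ := (core X).mem_pc (v := v) (hv ▸ w.2)
  have hτ : ∀ i, Eg X ρ v (tauT i) 1 := by
    intro i
    by_cases hi : i.val < 3
    · obtain ⟨j, rfl⟩ : ∃ j : Fin 3, Fin.castAdd 3 j = i := ⟨⟨i.val, hi⟩, rfl⟩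
      rw [← chK_one X]
      refine eg_of_yP (tau_lt _) (fixed_fact _ hi).1 fun a => ?_
      have := hT (Pi.single j a, 0)
      change ρ (T6 X (incl X (Pi.single j a, 0))) v = _ at this
      rw [incl_single_left, T6_single] at this
      exact this.trans (by simp)
    · obtain ⟨j, rfl⟩ : ∃ j : Fin 3, Fin.natAdd 3 j = i :=
        ⟨⟨i.val - 3, by omega⟩, Fin.ext (by simp; omega)⟩
      intro t
      have := hT (0, Pi.single j t)
      change ρ (T6 X (incl X (0, Pi.single j t))) v = _ at this
      rw [incl_single_right, T6_single] at this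
      exact this.trans (by simp)
  have hz : Eg X ρ v 71 1 := chK_one X ▸ eg_of_yP (by norm_num) core_fact.2.2.2.2.2.1 hZ
  have hr : Eg X ρ v 46 (chK X δ) := eg_of_yP (by norm_num) core_fact.2.2.2.1 hR
  have hbase : ∀ k ∈ [47, 51, 63, 48, 49, 52], Eg X ρ v k 1 := by
    intro k hk
    rw [← base_list, List.mem_map] at hk
    obtain ⟨i, -, rfl⟩ := hk
    exact hτ i
  have scal : ∀ (S : List ℕ), (∀ k ∈ S, Eg X ρ v k 1) → ∀ γ, scalT S γ = true →
      ∃ f : K → ℂ, ∀ t, ρ (ye X γ t) v = f t • v := by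
    intro S hS γ hγ
    simp only [scalT, List.all_eq_true] at hγ
    have : ∀ t, ∃ c : ℂ, ρ (ye X γ t) v = c • v := by
      intro t
      have hmem := mem_line (δ := δ) (w := ρ (ye X γ t) v)
        (fun i => push (hγ _ (by fin_cases i <;> simp [baseT, tauT])) (fun _ => inS_fixed hS) (hτ i) t)
        (push (hγ _ (by simp [baseT])) (fun _ => inS_fixed hS) hr t)
        (push (hγ _ (by simp [baseT])) (fun _ => inS_fixed hS) hz t)
      obtain ⟨c, hc⟩ := hspan ⟨_, hmem⟩
      have h := congrArg Subtype.val hc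
      simp only [SetLike.val_smul, hv] at h
      exact ⟨c, h.symm⟩
    exact ⟨fun t => (this t).choose, fun t => (this t).choose_spec⟩
  have main : ∀ (stages : List (List (ℕ × ℕ × ℕ))) (S : List ℕ), (∀ k ∈ S, Eg X ρ v k 1) →
      stagesT S stages = true → ∀ k ∈ fixedT S stages, Eg X ρ v k 1 := by
    intro stages
    induction stages with
    | nil => intro S hS _ k hk; exact hS k hk
    | cons st rest ih =>
      intro S hS hok k hk
      simp only [stagesT, Bool.and_eq_true, List.all_eq_true] at hok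
      refine ih _ (fun k' hk' => ?_) hok.2 k hk
      rcases List.mem_append.1 hk' with hk' | hk'
      · exact hS k' hk'
      · obtain ⟨p, hp, rfl⟩ := List.mem_map.1 hk'
        obtain ⟨⟨h1, h2⟩, h3⟩ := hok.1 p hp
        obtain ⟨fa, hfa⟩ := scal S hS _ h2
        obtain ⟨fb, hfb⟩ := scal S hS _ h3
        exact fixed_of_scalar h1 hfa hfb
  refine ⟨v, hv0, hr, fun p hp hpos hpr =>
    inS_fixed (main certT _ (fun k hk => ?_) certT_ok.1) (certT_ok.2 ⟨p, hp⟩ hpos hpr)⟩
  rw [show [47, 51, 63, 48, 49, 52, 71] = [47, 51, 63, 48, 49, 52] ++ [71] from rfl] at hk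
  rcases List.mem_append.1 hk with hk | hk
  · exact hbase k hk
  · rw [List.mem_singleton.1 hk]; exact hz

end H17.HeisDeg.TwAct
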