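import Cfsg.Agent.H17.HeisDegree.TwData
import Cfsg.Agent.H17.HeisDegree.RootCount
import Cfsg.Agent.H52.TwistE6
import Cfsg.Agent.H52.TwistSimple
import Cfsg.Agent.H52.TwistOrderE6

/-!
The minimal degree of `²E₆(q)`.
-/

set_option autoImplicit false
set_option linter.unusedSectionVars false

namespace H17.HeisDeg.TwAct

open Cfsg.Lie H52 RootAct

variable {T : Tables} {K : Type*} [Field K] (X : Twist e6Fold T K)

theorem invol_of_pow [Fintype K] {q : ℕ} (hf : ∀ x, X.f x = x ^ q) (hK : Fintype.card K = q ^ 2) :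
    Invol X := by
  refine ⟨fun t => by rw [hf, hf]; exact e6_f2 X hf hK t, ?_⟩
  by_contra hno
  push Not at hno
  have h1 := H52.card_fixed (K := K) (q := q) two_ne_zero hK
  rw [Nat.card_congr (Equiv.subtypeUnivEquiv fun x => by rw [← hf]; exact hno x),
    Nat.card_eq_fintype_card, hK] at h1
  have hq2 := one_le_pow_card (K := K) (by norm_num : (2 : ℕ) ≠ 0) hK
  nlinarith

theorem card_P0 [Fintype K] [Fintype (P0 X)] {q : ℕ} (hf : ∀ x, X.f x = x ^ q)
    (hK : Fintype.card K = q ^ 2) : Fintype.card (P0 X) = q := by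
  rw [← Nat.card_eq_fintype_card]
  refine Eq.trans (Nat.card_congr (Equiv.subtypeEquivRight fun x => ?_))
    (H52.card_fixed (K := K) (q := q) two_ne_zero hK)
  rw [← hf]
  rfl

theorem sizeT1_eq (q : ℕ) : sizeT itemsT1 q =
    1 + q + q ^ 3 + q ^ 4 + q ^ 5 + q ^ 6 + q ^ 8 + q ^ 9 := by
  simp [sizeT, itemSize, itemsT1, show tn 36 ≠ 36 from by decide +kernel,
    show tn 37 ≠ 37 from by decide +kernel, show tn 38 ≠ 38 from by decide +kernel,
    show tn 39 = 39 from by decide +kernel, show tn 40 ≠ 40 from by decide +kernel,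
    show tn 41 ≠ 41 from by decide +kernel, show tn 44 = 44 from by decide +kernel,
    show tn 45 ≠ 45 from by decide +kernel, show tn 60 = 60 from by decide +kernel]
  ring

theorem sizeT2_eq (q : ℕ) : sizeT itemsT2 q = 1 + q ^ 2 + q ^ 4 := by
  simp [sizeT, itemSize, itemsT2, show tn 36 ≠ 36 from by decide +kernel,
    show tn 37 ≠ 37 from by decide +kernel, show tn 38 ≠ 38 from by decide +kernel]
  ring

theorem coe_boundT {q : ℕ} (hq : 1 ≤ q) :
    (boundT q : ℤ) = (q : ℤ) * ((q : ℤ) ^ 6 - (q : ℤ) ^ 3 + 1) * ((q : ℤ) ^ 4 + 1) := by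
  rw [boundT, Nat.cast_mul, Nat.cast_mul, Nat.cast_add, Nat.cast_add,
    Nat.cast_sub (Nat.pow_le_pow_right hq (by norm_num))]
  push_cast
  ring

theorem boundT_ge {q : ℕ} (hq : 2 ≤ q) : ((q : ℤ) - 1) * (q : ℤ) ^ 10 ≤ boundT q := by
  rw [coe_boundT (by omega)]
  have h : (2 : ℤ) ≤ q := by exact_mod_cast hq
  nlinarith [pow_le_pow_right₀ (by linarith : (1 : ℤ) ≤ q) (by norm_num : 8 ≤ 10),
    pow_le_pow_right₀ (by linarith : (1 : ℤ) ≤ q) (by norm_num : 4 ≤ 5),
    pow_nonneg (by linarith : (0 : ℤ) ≤ q) 7]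

theorem not_dvd_order {q : ℕ} (hq : IsPrimePow q) {j : ℕ} (hj : j = 1 ∨ j = 2) :
    ¬ boundT q - j ∣ DegreeArith.orderProd 36 orderDs q := by
  have hq2 := hq.two_le
  have hb := boundT_ge hq2
  have hT : (4 : ℤ) ≤ boundT q := by
    refine le_trans ?_ hb
    have h : (2 : ℤ) ≤ q := by exact_mod_cast hq2
    have := pow_le_pow_left₀ (by norm_num : (0 : ℤ) ≤ 2) h 10
    nlinarith
  have hdvd : q ∣ boundT q := Dvd.intro _ (mul_assoc q _ _).symm
  rcases hj with rfl | rfl
  · by_cases hs : q < 137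
    · exact DegreeArith.not_dvd_small small1_ok hq2 hs
    refine DegreeArith.not_dvd_large' cert1_ok hq (not_lt.1 hs) le_rfl (by omega) ?_ ?_ ?_
    · rw [Nat.cast_sub (by omega), coe_boundT (by omega)]
      simp [shortPoly1, pEval]
      ring
    · rwa [Nat.sub_add_cancel (by omega)]
    · rw [Nat.cast_sub (by omega)]
      refine le_trans ?_ (show ((q : ℤ) - 1) * (q : ℤ) ^ 10 ≤ _ from hb.trans (by simp))
      have h : (137 : ℤ) ≤ q := by exact_mod_cast not_lt.1 hs
      simp only [List.length_cons, List.length_nil]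
      exact mul_le_mul_of_nonneg_right (by norm_num; linarith) (by positivity)
  · by_cases hs : q < 1352
    · exact DegreeArith.not_dvd_small small2_ok hq2 hs
    refine DegreeArith.not_dvd_large' cert2_ok hq (not_lt.1 hs) (by norm_num) (by omega) ?_ ?_ ?_
    · rw [Nat.cast_sub (by omega), coe_boundT (by omega)]
      simp [shortPoly2, pEval]
      ring
    · rwa [Nat.sub_add_cancel (by omega)]
    · rw [Nat.cast_sub (by omega)]
      refine le_trans ?_ (show ((q : ℤ) - 1) * (q : ℤ) ^ 10 ≤ _ from hb.trans (by simp))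
      have h : (1352 : ℤ) ≤ q := by exact_mod_cast not_lt.1 hs
      simp only [List.length_cons, List.length_nil]
      exact mul_le_mul_of_nonneg_right (by norm_num; linarith) (by positivity)

theorem order_multiple {q : ℕ} (hq : 1 ≤ q) :
    q ^ 36 * (q ^ 2 - 1) * (q ^ 5 + 1) * (q ^ 6 - 1) * (q ^ 8 - 1) * (q ^ 9 + 1) * (q ^ 12 - 1) ∣
      DegreeArith.orderProd 36 orderDs q := by
  have h10 : q ^ 10 - 1 = (q ^ 5 + 1) * (q ^ 5 - 1) := by
    rw [← Nat.sq_sub_sq]; ring_nf
  have h18 : q ^ 18 - 1 = (q ^ 9 + 1) * (q ^ 9 - 1) := by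
    rw [← Nat.sq_sub_sq]; ring_nf
  refine ⟨(q ^ 5 - 1) * (q ^ 9 - 1), ?_⟩
  simp [DegreeArith.orderProd, orderDs, h10, h18]
  ring

/-- **The minimal degree of `²E₆(q)`.** -/
theorem minimal_degree [Fintype K] {q : ℕ} (hq : IsPrimePow q) (hf : ∀ x, X.f x = x ^ q)
    (hK : Fintype.card K = q ^ 2) {k : ℕ} (ρ : Representation ℂ ↥X.grp (Fin k → ℂ))
    (hirr : ρ.IsIrreducible) (hk : 2 ≤ k) : boundT q ≤ k := by
  classical
  haveI := invol_of_pow X hf hK
  haveI : IsSimpleGroup ↥X.grp :=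
    (X.simple_grp (diagramConnected_of_mem (by simp)) (by decide) (e6_perfect X hf hK)).1
  haveI : Fintype (P0 X) := Fintype.ofFinite _
  have hP := card_P0 X hf hK
  have hK' : Fintype.card K = Fintype.card (P0 X) ^ 2 := by rw [hP, hK]
  obtain ⟨δ, hδ⟩ : ∃ δ : AddChar (P0 X) ℂ, δ ≠ 1 := by
    haveI : Nontrivial (AddChar (P0 X) ℂ) := Fintype.one_lt_card_iff_nontrivial.1 (by
      rw [AddChar.card_eq]; exact Fintype.one_lt_card)
    exact exists_ne 1
  obtain ⟨hk', hle⟩ := (core X).counting (ρ := ρ) hδ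
  rw [Module.finrank_fin_fun] at hk'
  have hcard : Fintype.card ((Fin 3 → P0 X) × (Fin 3 → K)) = q ^ 9 := by
    rw [Fintype.card_prod, Fintype.card_fun, Fintype.card_fun, Fintype.card_fin, hP, hK]
    ring
  rw [hcard, hP] at hk' hle
  have hz : fixList X ρ [71] = eig ρ (core X).z 1 := by
    ext w
    rw [mem_fixList, mem_eig]
    simp only [List.mem_singleton, forall_eq]
    constructor
    · intro h a
      rw [AddChar.one_apply, one_smul]
      exact h.fixed _
    · intro h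
      rw [← chK_one X]
      exact eg_of_yP (by norm_num) core_fact.2.2.2.2.2.1 h
  have hmult : mult ρ (core X).z 1 = Module.finrank ℂ (fixList X ρ [71]) := by
    rw [hz]; rfl
  rw [hmult] at hk' hle
  set A := (core X).m ρ 1 δ 1
  set Z := Module.finrank ℂ (fixList X ρ [71])
  have hq2 : 2 ≤ q := hq.two_le
  have hA : 1 ≤ A := by
    by_contra h0
    rw [Nat.lt_one_iff.1 (not_le.1 h0), Nat.mul_zero, zero_mul, add_zero] at hk'
    have htop : fixList X ρ [71] = ⊤ :=
      Submodule.eq_top_of_finrank_eq (by rw [Module.finrank_fin_fun]; exact hk'.symm)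
    have h1 : ye X 71 (sOne X) = 1 := eq_one_of_rho_eq_one ρ hirr hk (LinearMap.ext fun w => by
      have hw : w ∈ fixList X ρ [71] := htop ▸ Submodule.mem_top
      rw [mem_fixList] at hw
      exact (hw 71 (by simp)).fixed _)
    have h2 := congrArg Subtype.val h1
    rw [coe_ye X (r := 71) (by norm_num), yv_fix X (r := 71) (by norm_num) core_fact.2.2.2.2.2.1,
      tr_sOne, OneMemClass.coe_one, ← X.chk.rt_zero (r := 71)] at h2
    exact one_ne_zero (X.chk.rt_injective (r := 71) (by decide) h2)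
  obtain ⟨p, hp⟩ : ∃ p, q = p + 1 := ⟨q - 1, by omega⟩
  rcases Nat.lt_or_ge A 2 with hA2 | hA2
  · obtain hA1 : A = 1 := by omega
    obtain ⟨v, hv0, hvr, hvp⟩ := single_vector (X := X) (ρ := ρ) (δ := δ) hA1
    have hv : Single X ρ v 46 δ := ⟨hv0, hvr, hvp⟩
    obtain ⟨w, δ', hδ', hw⟩ := propagate X ρ hδ hv
    have hl1 := level_bound X ρ hK' levelT1_ok (by norm_num) hδ hv
    have hl2 := level_bound X ρ hK' levelT2_ok (by norm_num) hδ' hw
    rw [hP, sizeT1_eq] at hl1
    rw [hP, sizeT2_eq] at hl2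
    change _ ≤ Z at hl1
    rw [hA1, mul_one] at hk'
    have hlow : boundT q ≤ k + 2 := by
      have h1 := (Nat.add_le_add_left ((Nat.le_add_right _ _).trans hl2) _).trans hl1
      rw [hk', hp]
      rw [hp] at h1
      simp only [Nat.add_sub_cancel] at h1 ⊢
      zify at h1 ⊢
      rw [coe_boundT (by omega)]
      push_cast
      linear_combination h1
    by_contra hlt
    have hd : k ∣ DegreeArith.orderProd 36 orderDs q := by
      refine dvd_trans ?_ (order_multiple (q := q) (by omega))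
      rw [← e6t_card hq hK, ← twistE6_grp X hf hK]
      exact (degree_dvd_order ρ hirr).mul_left _
    rcases (show k = boundT q - 1 ∨ k = boundT q - 2 by omega) with e | e
    · exact not_dvd_order hq (Or.inl rfl) (e ▸ hd)
    · exact not_dvd_order hq (Or.inr rfl) (e ▸ hd)
  · have h2 : (q - 1) * 2 * (q ^ 9 + q ^ 9 * q) ≤ k := by
      refine le_trans (Nat.mul_le_mul_right _ (Nat.mul_le_mul_left (q - 1) hA2)) ?_
      rw [hk', mul_add]
      exact Nat.add_le_add_right hle _
    refine le_trans ?_ h2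
    subst hp
    simp only [Nat.add_sub_cancel]
    zify
    rw [coe_boundT (by omega)]
    push_cast
    obtain ⟨Q, hQ⟩ : ∃ Q : ℤ, (p : ℤ) + 1 = Q := ⟨_, rfl⟩
    rw [hQ, show (p : ℤ) = Q - 1 by omega]
    have hQ2 : 2 ≤ Q := by omega
    have g : ∀ m n : ℕ, m ≤ n → Q ^ m ≤ Q ^ n := fun m n h => pow_le_pow_right₀ (by omega) h
    have g8 : 2 * Q ^ 7 ≤ Q ^ 8 := by
      rw [pow_succ' Q 7]; exact mul_le_mul_of_nonneg_right hQ2 (by positivity)
    have g7 : 2 * Q ^ 5 ≤ Q ^ 7 := by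
      calc 2 * Q ^ 5 ≤ Q ^ 2 * Q ^ 5 := mul_le_mul_of_nonneg_right (by nlinarith) (by positivity)
        _ = Q ^ 7 := by ring
    have g11 : 2 * Q ^ 9 ≤ Q ^ 11 := by
      calc 2 * Q ^ 9 ≤ Q ^ 2 * Q ^ 9 := mul_le_mul_of_nonneg_right (by nlinarith) (by positivity)
        _ = Q ^ 11 := by ring
    have hQ5 : Q ≤ Q ^ 5 := by simpa using g 1 5 (by norm_num)
    have hQ4 : 0 ≤ Q ^ 4 := by positivity
    linear_combination g8 + g7 + g11 + hQ5 + hQ4

end H17.HeisDeg.TwAct
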