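import Cfsg.Agent.H17.HeisDegree.TwLine
import Cfsg.Agent.H17.HeisDegree.RootProp

/-!
An eigenvector of `²E₆(q)` with a single simple root in its support propagates to the adjacent
fixed node.
-/

set_option autoImplicit false
set_option linter.unusedSectionVars false

namespace H17.HeisDeg.TwAct

open Cfsg.Lie H52 RootAct

/-- The positive roots outside the rank two subsystem of the fixed nodes. -/
def outT (p : ℕ) : Bool :=
  decide (p < 72) && decide (36 ≤ p) && (p != 46) && (p != 39) && (p != 47)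

/-- The checks on the two fixed nodes. -/
theorem propT_fact : sumT 39 46 47 = true ∧ okT 46 47 noRoot = true ∧ okT 39 47 noRoot = true ∧
    okT 47 46 noRoot = true ∧ reflT 3 39 = 47 ∧ reflT 2 46 = 47 ∧
    okT 39 46 (fun r => r == 47) = true ∧
    (∀ p : Fin 72, outT p.val = true → okT 46 p.val outT = true ∧ okT 39 p.val outT = true ∧
      okT 47 p.val outT = true ∧ outT (reflT 3 p.val) = true ∧ reflT 3 (reflT 3 p.val) = p.val ∧
      outT (reflT 2 p.val) = true ∧ reflT 2 (reflT 2 p.val) = p.val) := by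
  decide +kernel

variable {T : Tables} {K : Type*} [Field K] (X : Twist e6Fold T K) [hI : Invol X]
  {V : Type*} [AddCommGroup V] [Module ℂ V] (ρ : Representation ℂ ↥X.grp V)

/-- An eigenvector at a fixed root over the fixed field. -/
def EgP (w : V) (r : ℕ) (α : AddChar (P0 X) ℂ) : Prop := Eg X ρ w r (chK X α)

theorem EgP.apply {X : Twist e6Fold T K} [Invol X] {ρ : Representation ℂ ↥X.grp V} {w : V} {r : ℕ}
    {α : AddChar (P0 X) ℂ} (h : EgP X ρ w r α) (t : P0 X) : ρ (yP X r t) w = α t • w :=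
  Eg.yP h t

theorem egP_one {w : V} {r : ℕ} : EgP X ρ w r 1 ↔ Eg X ρ w r 1 := by rw [EgP, chK_one]

theorem chK_mul_sOne (α : AddChar (P0 X) ℂ) (a b : P0 X) :
    chK X α ((a : K) * ((b : K) * sOne X)) = α (a * b) := by
  rw [chK_apply, ← mul_assoc, ← Subfield.coe_mul, trP_smul_sOne]

/-- A vector fixed by all positive root groups but that of `j`, on which it is an eigenvector. -/
def Single (v : V) (j : ℕ) (δ : AddChar (P0 X) ℂ) : Prop :=
  v ≠ 0 ∧ EgP X ρ v j δ ∧ ∀ p, p < 72 → 36 ≤ p → p ≠ j → Eg X ρ v p 1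

/-- The vectors fixed by a set of root groups. -/
noncomputable def fixSpace (P : ℕ → Bool) : Submodule ℂ V :=
  ⨅ p : {p // P p = true}, eig ρ (fun t => ye X p.1 t) 1

theorem mem_fixSpace {P : ℕ → Bool} {w : V} :
    w ∈ fixSpace X ρ P ↔ ∀ p, P p = true → Eg X ρ w p 1 := by
  simp only [fixSpace, Submodule.mem_iInf, mem_eig, Subtype.forall]
  exact ⟨fun h p hp t => h p hp t, fun h p hp t => h p hp t⟩

/-- The elements preserving a subspace. -/
noncomputable def stab (Y : Submodule ℂ V) : Subgroup ↥X.grp where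
  carrier := {g | Y.map (ρ g) = Y}
  one_mem' := by
    show Y.map (ρ 1) = Y
    rw [map_one]
    exact Submodule.map_id Y
  mul_mem' := by
    intro a b (ha : Y.map (ρ a) = Y) (hb : Y.map (ρ b) = Y)
    show Y.map (ρ (a * b)) = Y
    rw [map_mul, Module.End.mul_eq_comp, Submodule.map_comp, hb, ha]
  inv_mem' := by
    intro a (ha : Y.map (ρ a) = Y)
    show Y.map (ρ a⁻¹) = Y
    conv_lhs => rw [← ha]
    rw [← Submodule.map_comp, ← Module.End.mul_eq_comp, ← map_mul, inv_mul_cancel, map_one]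
    exact Submodule.map_id Y

variable {ρ} in
theorem mem_stab [FiniteDimensional ℂ V] {Y : Submodule ℂ V} {g : ↥X.grp}
    (h : ∀ y ∈ Y, ρ g y ∈ Y) : g ∈ stab X ρ Y :=
  Submodule.eq_of_le_of_finrank_eq (Submodule.map_le_iff_le_comap.2 h)
    (Submodule.equivMapOfInjective _ (rho_injective g) Y).finrank_eq.symm

/-- The action on a subspace of its stabilizer. -/
noncomputable def subRep (Y : Submodule ℂ V) : Representation ℂ ↥(stab X ρ Y) ↥Y where
  toFun g := (ρ (g : ↥X.grp)).restrict (fun v hv => by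
    have h : Y.map (ρ (g : ↥X.grp)) = Y := g.2
    exact le_of_eq h (Submodule.mem_map_of_mem hv))
  map_one' := by
    apply LinearMap.ext
    intro v
    apply Subtype.ext
    simp
  map_mul' a b := by
    apply LinearMap.ext
    intro v
    apply Subtype.ext
    simp [LinearMap.restrict_apply]

variable [Fintype (P0 X)]

/-- The averaging operator of a root group twisted by a character. -/
noncomputable def avg (j : ℕ) (δ : AddChar (P0 X) ℂ) : Module.End ℂ V :=
  ∑ s : P0 X, δ (-s) • ρ (yP X j s)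

theorem avg_eigen {j : ℕ} (hj : j < 72) (hjt : tn j = j) (δ : AddChar (P0 X) ℂ) (y : V) :
    EgP X ρ (avg X ρ j δ y) j δ := by
  refine eg_of_yP hj hjt fun t => ?_
  simp only [avg, LinearMap.coe_sum, Finset.sum_apply, LinearMap.smul_apply, map_sum, map_smul,
    Finset.smul_sum, smul_smul]
  refine Fintype.sum_equiv (Equiv.addLeft t) _ _ fun s => ?_
  rw [← Module.End.mul_apply, ← map_mul, ← yP_add, Equiv.coe_addLeft, ← AddChar.map_add_eq_mul]
  congr 2
  ring

theorem avg_push {j r : ℕ} {al : ℕ → Bool} (hok : okT j r al = true) {y : V}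
    (hy : Eg X ρ y r 1) (hfix : ∀ k, al k = true → Eg X ρ y k 1) (δ : AddChar (P0 X) ℂ) :
    Eg X ρ (avg X ρ j δ y) r 1 := by
  rw [eg_one_iff]
  intro u
  simp only [avg, LinearMap.coe_sum, Finset.sum_apply, LinearMap.smul_apply, map_sum, map_smul]
  exact Finset.sum_congr rfl fun s _ => by rw [yP, (push hok hfix hy _).fixed]

theorem yP_zero (r : ℕ) : yP X r 0 = 1 := map_zero_eq (yP_add X r)

variable [FiniteDimensional ℂ V]

open Classical in
/-- **Propagation**: a single vector at node `α₂` gives one at node `α₄`. -/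
theorem propagate {v : V} {δ : AddChar (P0 X) ℂ} (hδ : δ ≠ 1) (hv : Single X ρ v 46 δ) :
    ∃ (w : V) (δ' : AddChar (P0 X) ℂ), δ' ≠ 1 ∧ Single X ρ w 39 δ' := by
  obtain ⟨hsum, hik, hjk, hki', hr3, hr2, hjik, hall⟩ := propT_fact
  generalize hi : (46 : ℕ) = i at *
  generalize hj : (39 : ℕ) = j at *
  generalize hk : (47 : ℕ) = k at *
  have hin : i < 72 := by omega
  have hjn : j < 72 := by omega
  have hkn : k < 72 := by omega
  have hfix : tn i = i ∧ tn j = j ∧ tn k = k := by
    subst hi hj hk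
    decide +kernel
  set Y := fixSpace X ρ outT
  have hokI : ∀ p, outT p = true → okT i p outT = true := fun p hp =>
    (hall ⟨p, by simp [outT] at hp; omega⟩ hp).1
  have hokJ : ∀ p, outT p = true → okT j p outT = true := fun p hp =>
    (hall ⟨p, by simp [outT] at hp; omega⟩ hp).2.1
  have hokK : ∀ p, outT p = true → okT k p outT = true := fun p hp =>
    (hall ⟨p, by simp [outT] at hp; omega⟩ hp).2.2.1
  have hmem : ∀ a, (∀ p, outT p = true → okT a p outT = true) → ∀ t, ye X a t ∈ stab X ρ Y := by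
    intro a ha t
    refine mem_stab X fun y hy => ?_
    rw [mem_fixSpace] at hy ⊢
    exact fun p hp => push (ha p hp) hy (hy p hp) t
  have hn : ∀ J, J < chevF4.rank → (∀ p, outT p = true → outT (reflT J p) = true ∧
      reflT J (reflT J p) = p) → nT X J ∈ stab X ρ Y := by
    intro J hJ hperm
    refine mem_stab X fun y hy => ?_
    rw [mem_fixSpace] at hy ⊢
    intro p hp
    obtain ⟨h1, h2⟩ := hperm p hp
    obtain ⟨ε, -, hε⟩ := Eg.reflect (X := X) (ρ := ρ) hJ
      (r := reflT J p) (by simp [outT] at h1; omega)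
    have := hε (hy _ h1)
    rw [h2] at this
    intro t
    rw [this t]
    simp [chScale_apply]
  have hmemI : ∀ t, ye X i t ∈ stab X ρ Y := hmem i hokI
  have hmemJ : ∀ t, ye X j t ∈ stab X ρ Y := hmem j hokJ
  have hmemK : ∀ t, ye X k t ∈ stab X ρ Y := hmem k hokK
  have hni' : nT X 3 ∈ stab X ρ Y := hn 3 (by decide) fun p hp =>
    ⟨(hall ⟨p, by simp [outT] at hp; omega⟩ hp).2.2.2.1, (hall ⟨p, by simp [outT] at hp; omega⟩ hp).2.2.2.2.1⟩
  have hnj' : nT X 2 ∈ stab X ρ Y := hn 2 (by decide) fun p hp =>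
    ⟨(hall ⟨p, by simp [outT] at hp; omega⟩ hp).2.2.2.2.2.1, (hall ⟨p, by simp [outT] at hp; omega⟩ hp).2.2.2.2.2.2⟩
  let τ := subRep X ρ Y
  let XI : P0 X → ↥(stab X ρ Y) := fun t => ⟨yP X i t, hmemI _⟩
  let XJ : P0 X → ↥(stab X ρ Y) := fun t => ⟨yP X j t, hmemJ _⟩
  let XK : P0 X → ↥(stab X ρ Y) := fun t => ⟨yP X k t, hmemK _⟩
  -- conjugate root groups have equal fixed spaces
  have conj_eq : ∀ (Z Z' : P0 X → ↥(stab X ρ Y)) (g : ↥(stab X ρ Y)) (ε : P0 X), ε ≠ 0 →
      (∀ t, g⁻¹ * Z t * g = Z' (ε * t)) → mult τ Z 1 = mult τ Z' 1 := by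
    intro Z Z' g ε hε h
    refine le_antisymm (mult_le_of_conj g⁻¹ fun y hy t => ?_) (mult_le_of_conj g fun y hy t => ?_)
    · rw [inv_inv, show g * Z' t * g⁻¹ = Z (t / ε) by
        have := h (t / ε); rw [mul_div_cancel₀ t hε] at this; rw [← this]; group, mem_eig.1 hy]
      simp
    · rw [h, mem_eig.1 hy]
      simp
  obtain ⟨-, ε1, hε1, hc1⟩ := reflT_conj X (J := 3) (r := j) (by decide) hjn
  obtain ⟨-, ε2, hε2, hc2⟩ := reflT_conj X (J := 2) (r := i) (by decide) hin
  have eps_ne : ∀ ε : ℤ, ε * ε = 1 → (ε : P0 X) ≠ 0 := fun ε h e => by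
    have := congrArg (fun z : P0 X => z * z) e
    simp only [← Int.cast_mul, h, Int.cast_one, mul_zero] at this
    exact one_ne_zero this
  have hKJ : mult τ XK 1 = mult τ XJ 1 := conj_eq XK XJ ⟨nT X 3, hni'⟩ _ (eps_ne ε1 hε1) fun t => by
    apply Subtype.ext
    show (nT X 3)⁻¹ * yP X k t * nT X 3 = yP X j ((ε1 : P0 X) * t)
    rw [yP, yP, Subfield.coe_mul, SubringClass.coe_intCast, mul_assoc (ε1 : K), ← hc1, hr3]
  have hKI : mult τ XK 1 = mult τ XI 1 := conj_eq XK XI ⟨nT X 2, hnj'⟩ _ (eps_ne ε2 hε2) fun t => by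
    apply Subtype.ext
    show (nT X 2)⁻¹ * yP X k t * nT X 2 = yP X i ((ε2 : P0 X) * t)
    rw [yP, yP, Subfield.coe_mul, SubringClass.coe_intCast, mul_assoc (ε2 : K), ← hc2, hr2]
  by_contra hno
  push Not at hno
  -- vectors fixed by `i` and `k` in `Y` are fixed by `j`
  have hD0 : ∀ y : V, y ∈ Y → EgP X ρ y i 1 → EgP X ρ y k 1 → EgP X ρ y j 1 := by
    intro y hyY hyi hyk
    rw [mem_fixSpace] at hyY
    have hz : ∀ δ' : AddChar (P0 X) ℂ, δ' ≠ 1 → avg X ρ j δ' y = 0 := by
      intro δ' hδ'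
      by_contra hne0
      refine hno _ δ' hδ' ⟨hne0, avg_eigen X ρ hjn hfix.2.1 δ' y, fun p hp hpos hpj => ?_⟩
      by_cases hpi : p = i
      · subst hpi
        exact avg_push X ρ hjik ((egP_one X ρ).1 hyi)
          (fun r hr => by rw [beq_iff_eq.1 hr]; exact (egP_one X ρ).1 hyk) δ'
      · by_cases hpk : p = k
        · subst hpk
          exact avg_push X ρ hjk ((egP_one X ρ).1 hyk) (fun r hr => by simp [noRoot] at hr) δ'
        · have hout : outT p = true := by simp [outT, hp, hpos, hi, hj, hk, hpi, hpj, hpk]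
          exact avg_push X ρ (hokJ p hout) (hyY p hout) hyY δ'
    have hsum1 : ∑ δ' : AddChar (P0 X) ℂ, avg X ρ j δ' y = (Fintype.card (P0 X) : ℂ) • y := by
      simp only [avg, LinearMap.coe_sum, Finset.sum_apply, LinearMap.smul_apply]
      rw [Finset.sum_comm]
      simp only [← Finset.sum_smul, AddChar.sum_apply_eq_ite, neg_eq_zero, ite_smul, zero_smul,
        Finset.sum_ite_eq', Finset.mem_univ, if_true, yP_zero, map_one, Module.End.one_apply]
    rw [Finset.sum_eq_single (1 : AddChar (P0 X) ℂ) (fun b _ hb => hz b hb)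
      (fun h => absurd (Finset.mem_univ _) h)] at hsum1
    have hy' : y = (Fintype.card (P0 X) : ℂ)⁻¹ • avg X ρ j 1 y := by
      rw [hsum1, smul_smul, inv_mul_cancel₀ (Nat.cast_ne_zero.2 Fintype.card_ne_zero), one_smul]
    rw [hy']
    exact (avg_eigen X ρ hjn hfix.2.1 1 y).smul _
  -- the abelian group of `i` and `k`
  let u : (P0 X) × (P0 X) → ↥(stab X ρ Y) := fun p => XI p.1 * XK p.2
  have hu : ∀ a b, u (a + b) = u a * u b := by
    intro a b
    apply Subtype.ext
    show yP X i (a.1 + b.1) * yP X k (a.2 + b.2) = yP X i a.1 * yP X k a.2 * (yP X i b.1 * yP X k b.2)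
    rw [yP_add, yP_add, (show Commute (yP X k a.2) (yP X i b.1) from commute_ye X hki' _ _).mul_mul_mul_comm]
  let c2 : AddChar (P0 X) ℂ → AddChar (P0 X) ℂ → AddChar ((P0 X) × (P0 X)) ℂ := fun α β =>
    α.compAddMonoidHom (AddMonoidHom.fst (P0 X) (P0 X)) * β.compAddMonoidHom (AddMonoidHom.snd (P0 X) (P0 X))
  have c2_inj : ∀ {a b a' b'}, c2 a b = c2 a' b' → a = a' ∧ b = b' := by
    intro a b a' b' h
    refine ⟨DFunLike.ext _ _ fun t => ?_, DFunLike.ext _ _ fun t => ?_⟩
    · simpa [c2] using DFunLike.congr_fun h (t, 0)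
    · simpa [c2] using DFunLike.congr_fun h (0, t)
  have c2_eig : ∀ {y : ↥Y} {α β : AddChar (P0 X) ℂ}, EgP X ρ (y : V) i α → EgP X ρ (y : V) k β →
      y ∈ eig τ u (c2 α β) := by
    intro y α β hα hβ
    refine mem_eig.2 fun p => Subtype.ext ?_
    show ρ (yP X i p.1 * yP X k p.2) (y : V) = (c2 α β p) • (y : V)
    rw [map_mul, Module.End.mul_apply, hβ.apply, map_smul, hα.apply, smul_smul, mul_comm]
    simp [c2]
  have eig_c2 : ∀ {y : ↥Y} {α β : AddChar (P0 X) ℂ}, y ∈ eig τ u (c2 α β) →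
      EgP X ρ (y : V) i α ∧ EgP X ρ (y : V) k β := by
    intro y α β hy
    refine ⟨eg_of_yP hin hfix.1 fun t => ?_, eg_of_yP hkn hfix.2.2 fun t => ?_⟩
    · have := congrArg Subtype.val (mem_eig.1 hy (t, 0))
      change ρ (yP X i t * yP X k (0 : (P0 X))) (y : V) = c2 α β (t, 0) • (y : V) at this
      simpa [yP_zero, c2] using this
    · have := congrArg Subtype.val (mem_eig.1 hy (0, t))
      change ρ (yP X i (0 : (P0 X)) * yP X k t) (y : V) = c2 α β (0, t) • (y : V) at this
      simpa [yP_zero, c2] using this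
  -- fixed space of `i`
  have hXI : mult τ XI 1 = ∑ β : AddChar (P0 X) ℂ, mult τ u (c2 1 β) := by
    rw [show XI = fun t => u ((AddMonoidHom.inl (P0 X) (P0 X)) t) from funext fun t => by
      apply Subtype.ext
      show yP X i t = yP X i t * yP X k (0 : (P0 X))
      rw [yP_zero, mul_one],
      mult_comp hu (AddMonoidHom.inl (P0 X) (P0 X)) 1]
    symm
    refine Finset.sum_bij (fun β _ => c2 1 β) (fun β _ => ?_) (fun a _ b _ h => (c2_inj h).2)
      (fun χ hχ => ?_) (fun β _ => rfl)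
    · simp only [Finset.mem_filter, Finset.mem_univ, true_and]
      ext t
      simp [c2]
    · refine ⟨χ.compAddMonoidHom (AddMonoidHom.inr (P0 X) (P0 X)), Finset.mem_univ _, ?_⟩
      simp only [Finset.mem_filter, Finset.mem_univ, true_and] at hχ
      ext p
      have h1 := DFunLike.congr_fun hχ p.1
      rw [AddChar.compAddMonoidHom_apply, AddChar.one_apply] at h1
      conv_rhs => rw [show p = (AddMonoidHom.inl (P0 X) (P0 X)) p.1 + (AddMonoidHom.inr (P0 X) (P0 X)) p.2 by simp]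
      rw [AddChar.map_add_eq_mul, h1]
      simp [c2]
  -- the vector
  obtain ⟨hv0, hvi, hvp⟩ := hv
  have hvY : v ∈ Y := (mem_fixSpace X ρ).2 fun p hp => by
    simp only [outT, Bool.and_eq_true, decide_eq_true_eq, bne_iff_ne, ne_eq, hi, hj, hk] at hp
    exact hvp p hp.1.1.1.1 hp.1.1.1.2 hp.1.1.2
  set v' : ↥Y := ⟨v, hvY⟩
  -- the map into the fixed space of `j`
  let S : AddChar (P0 X) ℂ → (↥Y →ₗ[ℂ] ↥Y) := fun β => if β = 1 then LinearMap.id else ∑ s : (P0 X), τ (XJ s)
  let Φ : ((β : AddChar (P0 X) ℂ) → eig τ u (c2 1 β)) × ℂ →ₗ[ℂ] ↥Y :=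
    ((∑ β : AddChar (P0 X) ℂ, (S β).comp ((Submodule.subtype _).comp (LinearMap.proj β))).comp
      (LinearMap.fst ℂ _ _)) + (LinearMap.snd ℂ _ _).smulRight v'
  let L : AddChar ((P0 X) × (P0 X)) ℂ → Module.End ℂ ↥Y := fun χ => ∑ p : (P0 X) × (P0 X), χ (-p) • τ (u p)
  have hL : ∀ (χ χ' : AddChar ((P0 X) × (P0 X)) ℂ) (y : ↥Y), y ∈ eig τ u χ' →
      L χ y = if χ' = χ then (Fintype.card ((P0 X) × (P0 X)) : ℂ) • y else 0 := by
    intro χ χ' y hy
    simp only [L, LinearMap.coe_sum, Finset.sum_apply, LinearMap.smul_apply, mem_eig.1 hy, smul_smul,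
      ← Finset.sum_smul]
    have := AddChar.sum_eq_ite (χ' * χ⁻¹)
    simp only [AddChar.mul_apply, AddChar.inv_apply] at this
    rw [show ∑ a, χ (-a) * χ' a = ∑ a, χ' a * χ (-a) from
      Finset.sum_congr rfl fun a _ => mul_comm _ _, this]
    have heq : (χ' * χ⁻¹ = 0) ↔ χ' = χ := by
      rw [show (0 : AddChar ((P0 X) × (P0 X)) ℂ) = 1 from rfl]
      exact mul_inv_eq_one
    by_cases hj : χ' = χ
    · rw [if_pos (heq.2 hj), if_pos hj]
    · rw [if_neg fun h => hj (heq.1 h), if_neg hj, zero_smul]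
  have hxj : ∀ (β : AddChar (P0 X) ℂ) (y : ↥Y), y ∈ eig τ u (c2 1 β) → ∀ s,
      τ (XJ s) y ∈ eig τ u (c2 (chScale β ((entrySign chevE6 j i : P0 X) * (-s))) β) := by
    intro β y hy s
    obtain ⟨h1, h2⟩ := eig_c2 hy
    refine c2_eig (eg_of_yP hin hfix.1 fun t => ?_) ?_
    · show ρ (yP X i t) (ρ (yP X j s) (y : V)) = _
      have hmu : mu X j ((s : K) * sOne X) = s := by
        rw [mu, if_pos hfix.2.1, tr_smul, tr_sOne, mul_one]
      rw [yP, yP, push_sum hsum h1 h2, chK_one, AddChar.one_apply, one_mul, hmu, chScale_apply,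
        ← SubringClass.coe_intCast (P0 X), ← Subfield.coe_neg, ← Subfield.coe_mul, chK_mul_sOne]
      rfl
    · exact push hjk (fun r hr => by simp [noRoot] at hr) h2 _
  have hscale : ∀ (β : AddChar (P0 X) ℂ) (s : (P0 X)), β ≠ 1 →
      (chScale β ((entrySign chevE6 j i : P0 X) * (-s)) = 1 ↔ s = 0) := by
    intro β s hβ
    refine ⟨fun h => ?_, fun h => ?_⟩
    · by_contra hs
      exact chScale_ne_one hβ (mul_ne_zero (fun e => sign_ne_zero (K := K) j i (by simpa using congrArg (fun z : P0 X => (z : K)) e))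
        (neg_ne_zero.2 hs)) h
    · subst h
      ext t
      simp [chScale_apply]
  have hΦapply : ∀ f c, Φ (f, c) = ∑ β, S β (f β : ↥Y) + c • v' := fun f c => by simp [Φ]
  have hLΦ : ∀ (β₀ : AddChar (P0 X) ℂ) f c, β₀ ≠ 1 →
      L (c2 1 β₀) (Φ (f, c)) = (Fintype.card ((P0 X) × (P0 X)) : ℂ) • (f β₀ : ↥Y) := by
    intro β₀ f c hβ₀
    rw [hΦapply, map_add, map_smul,
      hL _ (c2 δ 1) v' (c2_eig hvi ((egP_one X ρ).2 (hvp k hkn (by omega) (by omega)))), if_neg fun h => hδ (c2_inj h).1, smul_zero,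
      add_zero, map_sum, Finset.sum_eq_single β₀]
    · simp only [S, if_neg hβ₀, LinearMap.coe_sum, Finset.sum_apply, map_sum]
      rw [Finset.sum_eq_single (0 : (P0 X))]
      · rw [hL _ _ _ (hxj β₀ _ (f β₀).2 0), if_pos (by rw [(hscale β₀ 0 hβ₀).2 rfl])]
        congr 1
        apply Subtype.ext
        show ρ (yP X j (0 : (P0 X))) _ = _
        rw [yP_zero, map_one, Module.End.one_apply]
        rfl
      · intro s _ hs
        rw [hL _ _ _ (hxj β₀ _ (f β₀).2 s), if_neg fun h => hs ((hscale β₀ s hβ₀).1 (c2_inj h).1)]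
      · simp
    · intro β _ hβ
      by_cases h1 : β = 1
      · subst h1
        simp only [S, if_pos rfl, LinearMap.id_apply]
        rw [hL _ _ _ (f 1).2, if_neg fun h => hβ (c2_inj h).2]
      · simp only [S, if_neg h1, LinearMap.coe_sum, Finset.sum_apply, map_sum]
        exact Finset.sum_eq_zero fun s _ => by
          rw [hL _ _ _ (hxj β _ (f β).2 s), if_neg fun h => hβ (c2_inj h).2]
    · simp
  have hΦinj : Function.Injective Φ := by
    rw [← LinearMap.ker_eq_bot, Submodule.eq_bot_iff]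
    rintro ⟨f, c⟩ hfc
    rw [LinearMap.mem_ker] at hfc
    have hcard : (Fintype.card ((P0 X) × (P0 X)) : ℂ) ≠ 0 := Nat.cast_ne_zero.2 Fintype.card_ne_zero
    have hf : ∀ β, β ≠ 1 → f β = 0 := fun β hβ => by
      have := hLΦ β f c hβ
      rw [hfc, map_zero] at this
      exact Subtype.ext ((smul_eq_zero.1 this.symm).resolve_left hcard)
    have hrest : Φ (f, c) = (f 1 : ↥Y) + c • v' := by
      rw [hΦapply, Finset.sum_eq_single (1 : AddChar (P0 X) ℂ)]
      · simp [S]
      · intro β _ hβ; simp [hf β hβ]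
      · simp
    rw [hrest] at hfc
    have hc : c = 0 := by
      have h := congrArg (L (c2 δ 1)) hfc
      rw [map_add, map_zero, map_smul, hL _ _ _ (f 1).2, if_neg fun h => hδ (c2_inj h).1.symm,
        hL _ _ v' (c2_eig hvi ((egP_one X ρ).2 (hvp k hkn (by omega) (by omega)))), if_pos rfl, zero_add, smul_smul] at h
      rcases smul_eq_zero.1 h with h | h
      · exact (mul_eq_zero.1 h).resolve_right hcard
      · exact absurd (congrArg Subtype.val h) hv0
    rw [hc, zero_smul, add_zero] at hfc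
    refine Prod.ext (funext fun β => ?_) hc
    by_cases hβ : β = 1
    · subst hβ; exact Subtype.ext hfc
    · exact hf β hβ
  have hrange : ∀ x, Φ x ∈ eig τ XJ 1 := by
    rintro ⟨f, c⟩
    rw [hΦapply]
    refine add_mem (Submodule.sum_mem _ fun β _ => ?_) (Submodule.smul_mem _ c ?_)
    · refine mem_eig.2 fun t => ?_
      by_cases hβ : β = 1
      · subst hβ
        simp only [S, if_pos rfl, LinearMap.id_apply]
        obtain ⟨h1, h2⟩ := eig_c2 (f 1).2
        apply Subtype.ext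
        exact (hD0 _ (f 1 : ↥Y).2 h1 h2).apply t
      · simp only [S, if_neg hβ, LinearMap.coe_sum, Finset.sum_apply, map_sum, AddChar.one_apply,
          one_smul]
        refine Fintype.sum_equiv (Equiv.addLeft t) _ _ fun s => ?_
        rw [← Module.End.mul_apply, ← map_mul]
        congr 2
        apply Subtype.ext
        exact (yP_add X j t s).symm
    · refine mem_eig.2 fun t => Subtype.ext ?_
      exact ((egP_one X ρ).2 (hvp j hjn (by omega) (by omega))).apply t
  have hle : Module.finrank ℂ (((β : AddChar (P0 X) ℂ) → eig τ u (c2 1 β)) × ℂ) ≤ mult τ XJ 1 :=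
    LinearMap.finrank_le_finrank_of_injective (f := Φ.codRestrict _ hrange)
      fun a b h => hΦinj (congrArg Subtype.val h)
  rw [Module.finrank_prod, Module.finrank_pi_fintype, Module.finrank_self] at hle
  have : mult τ XI 1 + 1 ≤ mult τ XJ 1 := hXI ▸ hle
  omega


end H17.HeisDeg.TwAct
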