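import Cfsg.Agent.H52.TwistE6
import Cfsg.Agent.H17.HeisDegree.RootAct

/-!
The graph symmetry of `E₆` as literal tables.
-/

set_option autoImplicit false

namespace H17.HeisDeg.TwAct

open Cfsg.Lie H52 RootAct

/-- The images of the roots. -/
def tauList : List ℕ := [0, 1, 2, 5, 16, 3, 6, 17, 8, 19, 22, 11, 26, 30, 33, 35, 4, 7, 18, 9, 20, 23, 10, 21, 24, 25, 12, 27, 31, 34, 13, 28, 32, 14, 29, 15, 56, 42, 57, 39, 43, 58, 37, 40, 44, 59, 46, 47, 50, 61, 48, 51, 62, 53, 64, 67, 36, 38, 41, 45, 60, 49, 52, 63, 54, 65, 68, 55, 66, 69, 70, 71]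

/-- The signs of the root elements. -/
def etaList : List ℤ := [1, 1, 1, 1, -1, 1, 1, -1, 1, -1, -1, 1, -1, 1, -1, 1, -1, -1, 1, -1, 1, 1, -1, 1, 1, 1, -1, 1, -1, 1, 1, -1, 1, -1, 1, 1, 1, 1, -1, 1, -1, 1, 1, -1, 1, -1, 1, 1, 1, -1, 1, 1, -1, 1, -1, -1, 1, -1, 1, -1, 1, -1, -1, 1, -1, 1, 1, -1, 1, 1, 1, 1]

/-- The image of a root. -/
def tn (r : ℕ) : ℕ := tauList.getD r 0

/-- The sign at a root. -/
def en (r : ℕ) : ℤ := etaList.getD r 1

set_option backward.isDefEq.respectTransparency false in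
theorem tn_eq : ∀ r : Fin chevE6.nroots, (e6Fold.τ r).val = tn r.val ∧ e6Fold.η r = en r.val := by
  decide +kernel

theorem tab_ok : ((List.range 72).all fun r => decide (tn r < 72) && (tn (tn r) == r) &&
    (en r * en r == 1) && (en r * en (tn r) == 1) && (tn r != r || en r == 1) &&
    okPair chevE6 r (tn r) (fun _ => false) && okPair chevE6 (tn r) r (fun _ => false)) = true := by
  decide +kernel

theorem tab {r : ℕ} (hr : r < 72) : tn r < 72 ∧ tn (tn r) = r ∧ en r * en r = 1 ∧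
    en r * en (tn r) = 1 ∧ (tn r = r → en r = 1) ∧
    okPair chevE6 r (tn r) (fun _ => false) = true ∧ okPair chevE6 (tn r) r (fun _ => false) = true := by
  have h := List.all_eq_true.1 tab_ok r (List.mem_range.2 hr)
  simp only [Bool.and_eq_true, decide_eq_true_eq, beq_iff_eq, Bool.or_eq_true, bne_iff_ne, ne_eq] at h
  obtain ⟨⟨⟨⟨⟨⟨h1, h2⟩, h3⟩, h4⟩, h5⟩, h6⟩, h7⟩ := h
  exact ⟨h1, h2, h3, h4, fun e => h5.resolve_left (not_not.2 e), h6, h7⟩

end H17.HeisDeg.TwAct
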