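import Cfsg.Agent.H17.HeisDegree.TwAct

/-!
Fundamental reflections, torus elements and the fixed field of `²E₆(q)`.
-/

set_option autoImplicit false
set_option linter.unusedSectionVars false

namespace H17.HeisDeg.TwAct

open Cfsg.Lie H52 RootAct

/-- The orbits of fundamental roots. -/
def orbL (J : ℕ) : List ℕ := [[0, 5], [2, 4], [3], [1]].getD J []

/-- A fundamental reflection of the twisted group on the roots of `E₆`. -/
def reflT (J r : ℕ) : ℕ := (orbL J).foldr chevE6.reflectRoot r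

theorem orbL_eq : ∀ J : Fin chevF4.rank, (e6Fold.orb J).map Fin.val = orbL J.val := by
  decide +kernel

theorem orbL_lt {J i : ℕ} (hi : i ∈ orbL J) : i < 6 := by
  rcases J with _ | _ | _ | _ | J <;> simp [orbL] at hi <;> omega

variable {T : Tables} {K : Type*} [Field K] (X : Twist e6Fold T K)

/-- The element of a fundamental reflection. -/
noncomputable def nT (J : ℕ) : ↥X.grp :=
  if h : J < chevF4.rank then ⟨Twist.nOne e6Fold K ⟨J, h⟩, X.nOne_mem_grp _⟩ else 1

theorem emb_nT {J : ℕ} (hJ : J < chevF4.rank) :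
    emb X (nT X J) = ((orbL J).map fun i => ne (F := K) X.chk i).prod := by
  apply Subtype.ext
  rw [coe_emb, nT, dif_pos hJ, SubmonoidClass.coe_list_prod, List.map_map, ← orbL_eq ⟨J, hJ⟩,
    List.map_map]
  show Twist.nJ e6Fold ⟨J, hJ⟩ (fun _ => (1 : K)) = _
  unfold Twist.nJ
  refine congrArg List.prod (List.map_congr_left fun j _ => ?_)
  simp only [Function.comp_apply]
  rw [coe_ne, X.sp_val]

include X in
theorem word_conj {r : ℕ} (hr : r < 72) : ∀ L : List ℕ, (∀ i ∈ L, i < 6) →
    L.foldr chevE6.reflectRoot r < 72 ∧ ∃ ε : ℤ, ε * ε = 1 ∧ ∀ t : K,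
      ((L.map fun i => ne (F := K) X.chk i).prod)⁻¹ *
          xe X.chk (L.foldr chevE6.reflectRoot r) t * (L.map fun i => ne (F := K) X.chk i).prod =
        xe X.chk r ((ε : K) * t)
  | [], _ => ⟨hr, 1, one_mul 1, fun t => by simp⟩
  | i :: L, hL => by
    obtain ⟨hlt, ε, hε, hg⟩ := word_conj hr L fun j hj => hL j (List.mem_cons_of_mem _ hj)
    have hi : i < chevE6.rank := hL i List.mem_cons_self
    refine ⟨X.chk.reflect_lt hi hlt, ε * T.eps i (L.foldr chevE6.reflectRoot r), ?_, fun t => ?_⟩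
    · have h := T.eps i (L.foldr chevE6.reflectRoot r)
      have h1 : T.eps i (L.foldr chevE6.reflectRoot r) * T.eps i (L.foldr chevE6.reflectRoot r) = 1 := by
        rcases Checked.eps_eq_or (T := T) i (L.foldr chevE6.reflectRoot r) with e | e <;> rw [e] <;> rfl
      linear_combination ε * ε * h1 + hε
    · rw [List.map_cons, List.prod_cons, List.foldr_cons, mul_inv_rev, Int.cast_mul, mul_assoc (ε : K),
        ← hg, ← ne_conj hi hlt]
      group

variable [hI : Invol X]

theorem reflT_conj {J r : ℕ} (hJ : J < chevF4.rank) (hr : r < 72) :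
    reflT J r < 72 ∧ ∃ ε : ℤ, ε * ε = 1 ∧
      ∀ t, (nT X J)⁻¹ * ye X (reflT J r) t * nT X J = ye X r ((ε : K) * t) := by
  obtain ⟨hlt, ε, hε, hg⟩ := word_conj X hr (orbL J) fun i hi => orbL_lt hi
  refine ⟨hlt, ε, hε, fun t => Subtype.ext ?_⟩
  have hφ : X.φ ((nT X J : ↥X.grp) : GL chevE6.Idx K) = (nT X J : ↥X.grp) :=
    X.grp_le_fixed (SetLike.coe_mem _)
  rw [Subgroup.coe_mul, Subgroup.coe_mul, Subgroup.coe_inv, coe_ye X hr]
  rw [coe_ye X (show reflT J r < 72 from hlt), yv_eq_nm X hr,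
    yv_eq_nm X (r := reflT J r) hlt, ← nm_conj X hφ]
  congr 1
  have e := congrArg Subtype.val (hg t)
  simp only [Subgroup.coe_mul, Subgroup.coe_inv, xe] at e
  rw [← e, ← coe_emb X (nT X J), emb_nT X hJ]
  rfl

variable {V : Type*} [AddCommGroup V] [Module ℂ V] {ρ : Representation ℂ ↥X.grp V}

variable {X}

/-- A fundamental reflection moves eigenvectors. -/
theorem Eg.reflect {J r : ℕ} (hJ : J < chevF4.rank) (hr : r < 72) :
    ∃ ε : ℤ, ε * ε = 1 ∧ ∀ {w : V} {χ : AddChar K ℂ}, Eg X ρ w r χ →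
      Eg X ρ (ρ (nT X J) w) (reflT J r) (chScale χ (ε : K)) := by
  obtain ⟨-, ε, hε, hc⟩ := reflT_conj X hJ hr
  refine ⟨ε, hε, fun {w χ} h t => ?_⟩
  rw [chScale_apply, ← map_smul, ← h, ← hc t, ← Module.End.mul_apply, ← Module.End.mul_apply,
    ← map_mul, ← map_mul]
  congr 2
  group

section Torus

variable (X)

/-- A torus element supported on one fixed node. -/
noncomputable def teC (node : ℕ) (u : Kˣ) : Fin chevE6.rank → Kˣ :=
  fun i => if i.val = node then u else 1

theorem teC_key : ∀ i : Fin chevE6.rank,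
    ((e6Fold.τi i).val = 1 ↔ i.val = 1) ∧ ((e6Fold.τi i).val = 3 ↔ i.val = 3) := by
  decide +kernel

theorem teC_mem {node : ℕ} (hnode : node = 1 ∨ node = 3) {u : Kˣ} (hu : X.f (u : K) = u) :
    torus chevE6 (teC node u) ∈ X.grp := by
  refine X.torusT_le_grp ⟨teC node u, fun i => ?_, rfl⟩
  have key : (e6Fold.τi i).val = node ↔ i.val = node := by
    have h := teC_key i
    rcases hnode with rfl | rfl
    · exact h.1
    · exact h.2
  simp only [teC, key]
  split_ifs <;> simp [hu]

/-- The element of a torus parameter. -/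
noncomputable def teT {node : ℕ} (hnode : node = 1 ∨ node = 3) {u : Kˣ} (hu : X.f (u : K) = u) : ↥X.grp :=
  ⟨torus chevE6 (teC node u), teC_mem X hnode hu⟩

theorem teT_conj_rt {node : ℕ} (hnode : node = 1 ∨ node = 3) {u : Kˣ} (hu : X.f (u : K) = u)
    {r : ℕ} (hr : r < 72) (t : K) :
    (torus chevE6 (teC node u))⁻¹ * rt chevE6 r t * torus chevE6 (teC node u) =
      rt chevE6 r (((u⁻¹ ^ chevE6.cartan node r : Kˣ) : K) * t) := by
  have h := congrArg Subtype.val (te_conj (hC := X.chk) (F := K) (teC node u) hr t)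
  simp only [Subgroup.coe_mul, Subgroup.coe_inv, xe, te] at h
  rw [h]
  congr 3
  have hn : node < chevE6.rank := by rcases hnode with rfl | rfl <;> decide
  rw [Finset.prod_eq_single ⟨node, hn⟩]
  · simp [teC]
  · intro l _ hl
    have : l.val ≠ node := fun e => hl (Fin.ext e)
    simp [teC, this]
  · simp

theorem teT_conj {node : ℕ} (hnode : node = 1 ∨ node = 3) {u : Kˣ} (hu : X.f (u : K) = u)
    {r : ℕ} (hr : r < 72) (t : K) :
    (teT X hnode hu)⁻¹ * ye X r t * teT X hnode hu =
      ye X r (((u⁻¹ ^ chevE6.cartan node r : Kˣ) : K) * t) := by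
  apply Subtype.ext
  have hφ : X.φ (torus chevE6 (teC node u)) = torus chevE6 (teC node u) :=
    X.grp_le_fixed (teC_mem X hnode hu)
  rw [Subgroup.coe_mul, Subgroup.coe_mul, Subgroup.coe_inv, coe_ye X hr, coe_ye X hr, yv_eq_nm X hr,
    yv_eq_nm X hr]
  show (torus chevE6 (teC node u))⁻¹ * _ * torus chevE6 (teC node u) = _
  rw [← nm_conj X hφ, teT_conj_rt X hnode hu hr]

variable {X}

/-- A torus element scales characters. -/
theorem Eg.torus {node : ℕ} (hnode : node = 1 ∨ node = 3) {u : Kˣ} (hu : X.f (u : K) = u)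
    {r : ℕ} (hr : r < 72) {w : V} {χ : AddChar K ℂ} (h : Eg X ρ w r χ) :
    Eg X ρ (ρ (teT X hnode hu) w) r (chScale χ ((u⁻¹ ^ chevE6.cartan node r : Kˣ) : K)) := by
  intro t
  rw [chScale_apply, ← map_smul, ← h, ← teT_conj X hnode hu hr t, ← Module.End.mul_apply,
    ← Module.End.mul_apply, ← map_mul, ← map_mul]
  congr 2
  group

end Torus

section FixedField

variable (X)

/-- The fixed field. -/
abbrev P0 : Subfield K := RingHom.eqLocusField X.f.toRingHom (RingHom.id K)

theorem f_coe (a : P0 X) : X.f (a : K) = a := a.2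

/-- The trace to the fixed field, as a homomorphism. -/
def trP : K →+ P0 X where
  toFun t := ⟨tr X t, f_tr X t⟩
  map_zero' := Subtype.ext (by simp [tr])
  map_add' a b := Subtype.ext (tr_add X a b)

theorem coe_trP (t : K) : ((trP X t : P0 X) : K) = tr X t := rfl

theorem tr_smul (a : P0 X) (t : K) : tr X ((a : K) * t) = a * tr X t := by
  simp only [tr, map_mul, f_coe X a]; ring

/-- An element of trace one. -/
noncomputable def sOne : K := (exists_tr_one X).choose

theorem tr_sOne : tr X (sOne X) = 1 := (exists_tr_one X).choose_spec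

theorem trP_smul_sOne (a : P0 X) : trP X ((a : K) * sOne X) = a :=
  Subtype.ext (by rw [coe_trP, tr_smul, tr_sOne, mul_one])

theorem trP_surjective : Function.Surjective (trP X) := fun a => ⟨_, trP_smul_sOne X a⟩

/-- A character of the fixed field as one of `K`. -/
def chK (δ : AddChar (P0 X) ℂ) : AddChar K ℂ := δ.compAddMonoidHom (trP X)

theorem chK_apply (δ : AddChar (P0 X) ℂ) (t : K) : chK X δ t = δ (trP X t) := rfl

theorem chK_ne_one {δ : AddChar (P0 X) ℂ} (hδ : δ ≠ 1) : chK X δ ≠ 1 := by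
  obtain ⟨a, ha⟩ := AddChar.ne_one_iff.1 hδ
  exact AddChar.ne_one_iff.2 ⟨_, by rw [chK_apply, trP_smul_sOne]; exact ha⟩

theorem ye_fix {r : ℕ} (hr : r < 72) (h : tn r = r) (t : K) :
    ye X r t = ye X r ((trP X t : K) * sOne X) := by
  apply Subtype.ext
  rw [coe_ye X hr, coe_ye X hr, yv_fix X hr h, yv_fix X hr h, tr_smul, tr_sOne, mul_one, coe_trP]

/-- The root group at a fixed root, over the fixed field. -/
noncomputable def yP (r : ℕ) (a : P0 X) : ↥X.grp := ye X r ((a : K) * sOne X)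

theorem yP_add (r : ℕ) (a b : P0 X) : yP X r (a + b) = yP X r a * yP X r b := by
  rw [yP, yP, yP, Subfield.coe_add, add_mul, ye_add]

variable {X}

theorem eg_of_yP {r : ℕ} (hr : r < 72) (h : tn r = r) {w : V} {δ : AddChar (P0 X) ℂ}
    (hw : ∀ a, ρ (yP X r a) w = δ a • w) : Eg X ρ w r (chK X δ) := fun t => by
  rw [ye_fix X hr h, chK_apply]
  exact hw _

theorem Eg.yP {r : ℕ} {w : V} {δ : AddChar (P0 X) ℂ} (h : Eg X ρ w r (chK X δ)) (a : P0 X) :
    ρ (TwAct.yP X r a) w = δ a • w := by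
  rw [TwAct.yP, h, chK_apply, trP_smul_sOne]

end FixedField

end H17.HeisDeg.TwAct
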